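import Mathlib
import Cfsg.Prelude.Def_ClassicalGeometry

set_option autoImplicit false
set_option linter.style.haveILetI false

namespace Cfsg.Agent.Lib.Helper2

open Matrix

variable {F : Type*} [CommRing F] (m : ℕ)

theorem J_mulVec_inl (v : Fin m ⊕ Fin m → F) (i : Fin m) :
    (Matrix.J (Fin m) F *ᵥ v) (Sum.inl i) = - v (Sum.inr i) := by
  simp [Matrix.J, Matrix.mulVec, dotProduct, Fintype.sum_sum_type, Matrix.fromBlocks,
    Matrix.one_apply]

theorem J_mulVec_inr (v : Fin m ⊕ Fin m → F) (i : Fin m) :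
    (Matrix.J (Fin m) F *ᵥ v) (Sum.inr i) = v (Sum.inl i) := by
  simp [Matrix.J, Matrix.mulVec, dotProduct, Fintype.sum_sum_type, Matrix.fromBlocks,
    Matrix.one_apply]

theorem dot_J_self (v : Fin m ⊕ Fin m → F) : v ⬝ᵥ (Matrix.J (Fin m) F *ᵥ v) = 0 := by
  rw [dotProduct, Fintype.sum_sum_type]
  simp only [J_mulVec_inl, J_mulVec_inr]
  rw [← Finset.sum_add_distrib]
  apply Finset.sum_eq_zero
  intro i _
  ring

theorem J_dot_self (v : Fin m ⊕ Fin m → F) : (Matrix.J (Fin m) F *ᵥ v) ⬝ᵥ v = 0 := by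
  rw [dotProduct_comm]; exact dot_J_self m v

theorem J_mulVec_J_mulVec (v : Fin m ⊕ Fin m → F) :
    Matrix.J (Fin m) F *ᵥ (Matrix.J (Fin m) F *ᵥ v) = -v := by
  rw [Matrix.mulVec_mulVec, Matrix.J_squared, Matrix.neg_mulVec, Matrix.one_mulVec]

theorem J_mulVec_vecMul_J (v : Fin m ⊕ Fin m → F) :
    (Matrix.J (Fin m) F *ᵥ v) ᵥ* Matrix.J (Fin m) F = v := by
  have h1 : Matrix.J (Fin m) F *ᵥ v = v ᵥ* (- Matrix.J (Fin m) F) := by
    rw [← Matrix.J_transpose, Matrix.vecMul_transpose]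
  rw [h1, Matrix.vecMul_vecMul, Matrix.neg_mul, Matrix.J_squared, neg_neg, Matrix.vecMul_one]

end Cfsg.Agent.Lib.Helper2
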