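import Mathlib
import Cfsg.Prelude.Def_ClassicalGeometry
import Cfsg.Agent.Lib.Helper2.Symp

set_option autoImplicit false
set_option linter.style.haveILetI false

namespace Cfsg.Agent.Lib.Helper2

open Matrix

variable {F : Type*} [CommRing F] (m : ℕ)

theorem sympForm_add_left (x y z : Fin m ⊕ Fin m → F) :
    Cfsg.sympForm m F (x + y) z = Cfsg.sympForm m F x z + Cfsg.sympForm m F y z := by
  unfold Cfsg.sympForm; rw [add_dotProduct]

theorem sympForm_add_right (x y z : Fin m ⊕ Fin m → F) :
    Cfsg.sympForm m F x (y + z) = Cfsg.sympForm m F x y + Cfsg.sympForm m F x z := by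
  unfold Cfsg.sympForm; rw [Matrix.mulVec_add, dotProduct_add]

theorem sympForm_smul_left (c : F) (x y : Fin m ⊕ Fin m → F) :
    Cfsg.sympForm m F (c • x) y = c * Cfsg.sympForm m F x y := by
  unfold Cfsg.sympForm; rw [smul_dotProduct, smul_eq_mul]

theorem sympForm_smul_right (c : F) (x y : Fin m ⊕ Fin m → F) :
    Cfsg.sympForm m F x (c • y) = c * Cfsg.sympForm m F x y := by
  unfold Cfsg.sympForm; rw [Matrix.mulVec_smul, dotProduct_smul, smul_eq_mul]

theorem sympForm_self (x : Fin m ⊕ Fin m → F) : Cfsg.sympForm m F x x = 0 := by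
  unfold Cfsg.sympForm; exact dot_J_self m x

theorem sympForm_swap (x y : Fin m ⊕ Fin m → F) :
    Cfsg.sympForm m F x y = - Cfsg.sympForm m F y x := by
  have h := sympForm_self m (x + y)
  rw [sympForm_add_left, sympForm_add_right, sympForm_add_right, sympForm_self, sympForm_self] at h
  linear_combination h

theorem sympForm_neg_left (x y : Fin m ⊕ Fin m → F) :
    Cfsg.sympForm m F (-x) y = - Cfsg.sympForm m F x y := by
  have := sympForm_smul_left m (-1 : F) x y
  simpa using this

theorem sympForm_neg_right (x y : Fin m ⊕ Fin m → F) :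
    Cfsg.sympForm m F x (-y) = - Cfsg.sympForm m F x y := by
  have := sympForm_smul_right m (-1 : F) x y
  simpa using this

theorem sympForm_sub_left (x y z : Fin m ⊕ Fin m → F) :
    Cfsg.sympForm m F (x - y) z = Cfsg.sympForm m F x z - Cfsg.sympForm m F y z := by
  rw [sub_eq_add_neg, sympForm_add_left, sympForm_neg_left, ← sub_eq_add_neg]

theorem sympForm_sub_right (x y z : Fin m ⊕ Fin m → F) :
    Cfsg.sympForm m F x (y - z) = Cfsg.sympForm m F x y - Cfsg.sympForm m F x z := by
  rw [sub_eq_add_neg, sympForm_add_right, sympForm_neg_right, ← sub_eq_add_neg]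

theorem sympTransvection_mulVec (w : Fin m ⊕ Fin m → F) (c : F) (x : Fin m ⊕ Fin m → F) :
    Cfsg.sympTransvection m w c *ᵥ x = x + (c * Cfsg.sympForm m F x w) • w := by
  unfold Cfsg.sympTransvection Cfsg.sympForm
  rw [Matrix.add_mulVec, Matrix.one_mulVec, Matrix.smul_mulVec, Matrix.vecMulVec_mulVec,
    dotProduct_comm x]
  congr 1
  ext i
  simp only [Pi.smul_apply, MulOpposite.smul_eq_mul_unop, MulOpposite.unop_op, smul_eq_mul]
  ring

theorem sympForm_mulVec_mulVec (A : Matrix (Fin m ⊕ Fin m) (Fin m ⊕ Fin m) F)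
    (hA : A ∈ Matrix.symplecticGroup (Fin m) F) (x y : Fin m ⊕ Fin m → F) :
    Cfsg.sympForm m F (A *ᵥ x) (A *ᵥ y) = Cfsg.sympForm m F x y := by
  unfold Cfsg.sympForm
  have hT : Aᵀ ∈ Matrix.symplecticGroup (Fin m) F := SymplecticGroup.transpose_mem hA
  rw [SymplecticGroup.mem_iff, Matrix.transpose_transpose] at hT
  rw [← Matrix.vecMul_transpose, ← Matrix.dotProduct_mulVec, Matrix.mulVec_mulVec, Matrix.mulVec_mulVec,
    hT]

end Cfsg.Agent.Lib.Helper2
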