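import Mathlib

set_option autoImplicit false
set_option linter.style.haveILetI false

namespace Cfsg.Agent.Lib.Helper2

/-- If a Sylow `p`-subgroup of order `p` is self-normalizing, there is a normal `p`-complement,
and it consists exactly of the elements of order prime to `p`. -/
theorem exists_normal_pcomplement_of_self_normalizing {K : Type*} [Group K] [Finite K] {p : ℕ}
    [Fact p.Prime] (P : Sylow p K) (hcard : Nat.card (P : Subgroup K) = p)
    (hN : Subgroup.normalizer ((P : Subgroup K) : Set K) ≤ (P : Subgroup K)) :
    ∃ Q : Subgroup K, Q.Normal ∧ Nat.card Q * p = Nat.card K ∧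
      ∀ x : K, x ∈ Q ↔ (orderOf x).Coprime p := by
  have hp : p.Prime := Fact.out
  haveI : IsCyclic (P : Subgroup K) := isCyclic_of_prime_card hcard
  have hP : Subgroup.normalizer (P : Set K) ≤ Subgroup.centralizer (P : Set K) := by
    intro x hx
    have hxP : x ∈ (P : Subgroup K) := hN hx
    rw [Subgroup.mem_centralizer_iff]
    intro y hy
    have hy' : y ∈ (P : Subgroup K) := hy
    have := (IsCyclic.isMulCommutative (α := (P : Subgroup K))).is_comm.comm (⟨y, hy'⟩ : (P : Subgroup K)) ⟨x, hxP⟩
    exact congrArg Subtype.val this
  have hc := MonoidHom.ker_transferSylow_isComplement' P hP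
  have hnd := MonoidHom.not_dvd_card_ker_transferSylow P hP
  refine ⟨(MonoidHom.transferSylow P hP).ker, inferInstance, ?_, ?_⟩
  · have := hc.card_mul_card
    rw [← this]
    congr 1
    exact hcard.symm
  · intro x
    constructor
    · intro hx
      have h1 := Subgroup.orderOf_dvd_natCard _ hx
      have h2 : (Nat.card (MonoidHom.transferSylow P hP).ker).Coprime p := by
        rw [Nat.coprime_comm]
        exact (Nat.Prime.coprime_iff_not_dvd hp).2 hnd
      exact Nat.Coprime.coprime_dvd_left h1 h2
    · intro hx
      rw [MonoidHom.mem_ker]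
      have h1 : orderOf (MonoidHom.transferSylow P hP x) ∣ orderOf x := orderOf_map_dvd _ x
      have h2 : orderOf (MonoidHom.transferSylow P hP x) ∣ p := by
        have := orderOf_dvd_natCard (MonoidHom.transferSylow P hP x)
        have e : Nat.card (P : Subgroup K) = Nat.card P := rfl
        rwa [← e, hcard] at this
      have h3 : orderOf (MonoidHom.transferSylow P hP x) ∣ 1 := by
        have := Nat.dvd_gcd h1 h2
        rwa [Nat.Coprime.gcd_eq_one hx] at this
      exact orderOf_eq_one_iff.1 (Nat.dvd_one.1 h3)

end Cfsg.Agent.Lib.Helper2
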