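import Cfsg.Agent.S0542

set_option autoImplicit false
set_option linter.style.haveILetI false

namespace Cfsg.Agent.Lib.Helper2

universe u

variable {G : Type u} [Group G]

theorem relIndex_sup_of_le_normalizer [Finite G] (A B : Subgroup G)
    (h : A ≤ Subgroup.normalizer (B : Set G)) : A.relIndex (A ⊔ B) = A.relIndex B := by
  set E := A ⊔ B with hE
  have hBE : B ≤ E := le_sup_right
  have hAE : A ≤ E := le_sup_left
  haveI hBn : (B.subgroupOf E).Normal :=
    (Subgroup.normal_subgroupOf_iff_le_normalizer hBE).2 (sup_le h Subgroup.le_normalizer)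
  have h1 := Cfsg.Agent.S0542.relIndex_sup_normal (A.subgroupOf E) (B.subgroupOf E)
  have h2 : A.subgroupOf E ⊔ B.subgroupOf E = ⊤ := by
    rw [← Subgroup.subgroupOf_sup hAE hBE, Subgroup.subgroupOf_self]
  rw [h2, Subgroup.relIndex_top_right, Subgroup.relIndex_subgroupOf hBE] at h1
  exact h1

/-- The product formula `|A ⊔ B| * |A ⊓ B| = |A| * |B|` when `A` normalizes `B`. -/
theorem card_sup_mul_card_inf [Finite G] (A B : Subgroup G)
    (h : A ≤ Subgroup.normalizer (B : Set G)) :
    Nat.card (A ⊔ B : Subgroup G) * Nat.card (A ⊓ B : Subgroup G) = Nat.card A * Nat.card B := by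
  have h1 : Nat.card A * A.relIndex (A ⊔ B) = Nat.card (A ⊔ B : Subgroup G) := by
    have := Subgroup.relIndex_mul_relIndex ⊥ A (A ⊔ B) bot_le le_sup_left
    rwa [Subgroup.relIndex_bot_left, Subgroup.relIndex_bot_left] at this
  have h2 : Nat.card (A ⊓ B : Subgroup G) * A.relIndex B = Nat.card B := by
    have := Subgroup.relIndex_mul_relIndex ⊥ (A ⊓ B) B bot_le inf_le_right
    rwa [Subgroup.relIndex_bot_left, Subgroup.relIndex_bot_left, Subgroup.inf_relIndex_right]
      at this
  rw [← h1, ← h2, relIndex_sup_of_le_normalizer A B h]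
  ring

theorem le_normalizer_of_commute (A B : Subgroup G) (h : ∀ a ∈ A, ∀ b ∈ B, a * b = b * a) :
    A ≤ Subgroup.normalizer (B : Set G) := by
  intro a ha
  rw [Subgroup.mem_normalizer_iff]
  intro b
  constructor
  · intro hb
    rw [h a ha b hb, mul_inv_cancel_right]; exact hb
  · intro hb
    have h1 := h a ha _ hb
    have h2 : b = a * b * a⁻¹ := by
      have : a * (a * b * a⁻¹) = a * b := by rw [h1]; group
      exact (mul_left_cancel this).symm
    rw [h2]; exact hb

end Cfsg.Agent.Lib.Helper2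

namespace Cfsg.Agent.Lib.Helper2

universe u

variable {G : Type u} [Group G]

/-- If `K` normalizes `X` then every element of `K ⊔ X` is a product `k * x`. -/
theorem exists_mul_of_mem_sup_of_le_normalizer {K X : Subgroup G}
    (h : K ≤ Subgroup.normalizer (X : Set G)) {g : G} (hg : g ∈ K ⊔ X) :
    ∃ k ∈ K, ∃ x ∈ X, g = k * x := by
  let T : Subgroup G :=
    { carrier := {g | ∃ k ∈ K, ∃ x ∈ X, g = k * x}
      one_mem' := ⟨1, K.one_mem, 1, X.one_mem, by simp⟩
      mul_mem' := by
        rintro _ _ ⟨k, hk, x, hx, rfl⟩ ⟨k', hk', x', hx', rfl⟩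
        refine ⟨k * k', K.mul_mem hk hk', (k'⁻¹ * x * k') * x', X.mul_mem ?_ hx', by group⟩
        have := (Subgroup.mem_normalizer_iff.1 (h (K.inv_mem hk')) x).1 hx
        simpa using this
      inv_mem' := by
        rintro _ ⟨k, hk, x, hx, rfl⟩
        refine ⟨k⁻¹, K.inv_mem hk, k * x⁻¹ * k⁻¹, ?_, by group⟩
        exact (Subgroup.mem_normalizer_iff.1 (h hk) x⁻¹).1 (X.inv_mem hx) }
  have hKT : K ≤ T := fun k hk => ⟨k, hk, 1, X.one_mem, by simp⟩
  have hXT : X ≤ T := fun x hx => ⟨1, K.one_mem, x, hx, by simp⟩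
  exact (sup_le hKT hXT) hg

end Cfsg.Agent.Lib.Helper2
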