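import Mathlib

set_option autoImplicit false
set_option linter.style.haveILetI false

namespace Cfsg.Agent.Lib.Helper2

/-- A finite group with a normal `p`-complement for every prime `p` dividing its order is
nilpotent. -/
theorem isNilpotent_of_normal_complements {X : Type*} [Group X] [Finite X]
    (h : ∀ p : ℕ, p.Prime → p ∣ Nat.card X →
      ∃ N : Subgroup X, N.Normal ∧ (∃ k : ℕ, N.index = p ^ k) ∧ ¬ p ∣ Nat.card N) :
    Group.IsNilpotent X := by
  classical
  have h' : ∀ i : {p : ℕ // p ∈ (Nat.card X).primeFactors},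
      ∃ N : Subgroup X, N.Normal ∧ (∃ k : ℕ, N.index = (i : ℕ) ^ k) ∧ ¬ (i : ℕ) ∣ Nat.card N := by
    rintro ⟨p, hp⟩
    rw [Nat.mem_primeFactors] at hp
    exact h p hp.1 hp.2.1
  choose N hNn hNp hNc using h'
  haveI : ∀ i, (N i).Normal := hNn
  haveI : ∀ i, Group.IsNilpotent (X ⧸ N i) := by
    intro i
    haveI : Fact (i : ℕ).Prime := ⟨(Nat.mem_primeFactors.1 i.2).1⟩
    obtain ⟨k, hk⟩ := hNp i
    have : IsPGroup (i : ℕ) (X ⧸ N i) := IsPGroup.of_card (n := k) (by
      rw [← Subgroup.index_eq_card, hk])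
    exact this.isNilpotent
  let f : X →* ∀ i : {p : ℕ // p ∈ (Nat.card X).primeFactors}, X ⧸ N i :=
    MonoidHom.pi (fun i => QuotientGroup.mk' (N i))
  have hker : f.ker ≤ Subgroup.center X := by
    intro x hx
    rw [MonoidHom.mem_ker] at hx
    have hxN : ∀ i, x ∈ N i := by
      intro i
      have := congrFun hx i
      have h2 : (QuotientGroup.mk' (N i)) x = 1 := this
      rwa [QuotientGroup.mk'_apply, QuotientGroup.eq_one_iff] at h2
    have hx1 : x = 1 := by
      rw [← orderOf_eq_one_iff]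
      by_contra hne
      obtain ⟨p, hp, hpd⟩ := Nat.exists_prime_and_dvd hne
      have hpX : p ∣ Nat.card X := hpd.trans (orderOf_dvd_natCard x)
      have hmem : p ∈ (Nat.card X).primeFactors :=
        Nat.mem_primeFactors.2 ⟨hp, hpX, Nat.card_pos.ne'⟩
      exact hNc ⟨p, hmem⟩ (hpd.trans (Subgroup.orderOf_dvd_natCard _ (hxN ⟨p, hmem⟩)))
    rw [hx1]; exact Subgroup.one_mem _
  exact Subgroup.isNilpotent_of_ker_le_center f hker

end Cfsg.Agent.Lib.Helper2
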