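import Mathlib
import Cfsg.Prelude.Def_SolvableStructure
import Cfsg.Agent.Lib.Helper2.Index
import Cfsg.Agent.Lib.Helper2.NilpComp

set_option autoImplicit false
set_option linter.style.haveILetI false

namespace Cfsg.Agent.Lib.Helper2

variable {G : Type*} [Group G]

/-- the order of a Hall `p`-complement is prime to `p`. -/
theorem not_dvd_card_of_index_eq [Finite G] (p : ℕ) (hp : p.Prime) (K : Subgroup G)
    (hK : K.index = p ^ (Nat.card G).factorization p) : ¬ p ∣ Nat.card K := by
  have hpos : 0 < p ^ (Nat.card G).factorization p := pow_pos hp.pos _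
  have hm : Nat.card G = Nat.card K * p ^ (Nat.card G).factorization p := by
    rw [← hK, Subgroup.card_mul_index]
  have h1 : Nat.card K = Nat.card G / p ^ (Nat.card G).factorization p :=
    (Nat.div_eq_of_eq_mul_left hpos hm).symm
  rw [h1]
  exact (Nat.Prime.coprime_iff_not_dvd hp).1 (Nat.coprime_ordCompl hp Nat.card_pos.ne')

/-- If `D` normalizes a subgroup `K` of `p`-power index, then `D ∩ K` has `p`-power index in `D`. -/
theorem relIndex_eq_pow_of_le_normalizer [Finite G] (p : ℕ) (hp : p.Prime) (D K : Subgroup G)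
    (a : ℕ) (hK : K.index = p ^ a) (hDK : D ≤ Subgroup.normalizer (K : Set G)) :
    ∃ k : ℕ, (K.subgroupOf D).index = p ^ k := by
  have h1 := card_sup_mul_card_inf D K hDK
  have h2 : (K.subgroupOf D).index * Nat.card (K.subgroupOf D) = Nat.card D :=
    Subgroup.index_mul_card _
  have h3 : Nat.card (K.subgroupOf D) = Nat.card (D ⊓ K : Subgroup G) := by
    rw [← Subgroup.card_map_of_injective (Subgroup.subtype_injective D),
      Subgroup.subgroupOf_map_subtype, inf_comm]
  rw [h3] at h2
  have hpos : 0 < Nat.card (D ⊓ K : Subgroup G) := Nat.card_pos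
  have h4 : Nat.card (D ⊔ K : Subgroup G) = (K.subgroupOf D).index * Nat.card K := by
    have : Nat.card (D ⊔ K : Subgroup G) * Nat.card (D ⊓ K : Subgroup G) =
        ((K.subgroupOf D).index * Nat.card K) * Nat.card (D ⊓ K : Subgroup G) := by
      rw [h1, ← h2]; ring
    exact Nat.eq_of_mul_eq_mul_right hpos this
  have h5 : Nat.card (D ⊔ K : Subgroup G) ∣ Nat.card K * p ^ a := by
    rw [← hK, Subgroup.card_mul_index]
    exact Subgroup.card_subgroup_dvd_card _
  rw [h4, mul_comm] at h5
  have h6 : (K.subgroupOf D).index ∣ p ^ a := Nat.dvd_of_mul_dvd_mul_left Nat.card_pos h5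
  obtain ⟨k, -, hk⟩ := (Nat.dvd_prime_pow hp).1 h6
  exact ⟨k, hk⟩

/-- The system normalizer of a complement system is nilpotent (no solvability needed). -/
theorem systemNormalizer_isNilpotent [Finite G] (K : Nat.Primes → Subgroup G)
    (hK : Cfsg.IsComplementSystem K) : Group.IsNilpotent (Cfsg.systemNormalizer K) := by
  apply isNilpotent_of_normal_complements
  intro p hp _
  have hD : Cfsg.systemNormalizer K ≤ Subgroup.normalizer ((K ⟨p, hp⟩ : Subgroup G) : Set G) := by
    unfold Cfsg.systemNormalizer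
    exact iInf_le _ (⟨p, hp⟩ : Nat.Primes)
  refine ⟨(K ⟨p, hp⟩).subgroupOf (Cfsg.systemNormalizer K),
    Subgroup.normal_subgroupOf_of_le_normalizer hD, ?_, ?_⟩
  · exact relIndex_eq_pow_of_le_normalizer p hp _ _ _ (hK ⟨p, hp⟩) hD
  · intro hdvd
    have h1 : Nat.card ((K ⟨p, hp⟩).subgroupOf (Cfsg.systemNormalizer K)) ∣
        Nat.card (K ⟨p, hp⟩) := by
      rw [← Subgroup.card_map_of_injective (Subgroup.subtype_injective _),
        Subgroup.subgroupOf_map_subtype]
      exact Subgroup.card_dvd_of_le inf_le_left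
    exact not_dvd_card_of_index_eq p hp _ (hK ⟨p, hp⟩) (hdvd.trans h1)

end Cfsg.Agent.Lib.Helper2
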