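import Mathlib

set_option autoImplicit false
open Pointwise

namespace Cfsg.Agent.Lib.Helper2

variable {G : Type*} [Group G]

theorem mem_conj_smul_iff (g x : G) (H : Subgroup G) :
    x ∈ MulAut.conj g • H ↔ g⁻¹ * x * g ∈ H := by
  rw [Subgroup.mem_pointwise_smul_iff_inv_smul_mem]
  simp [MulAut.smul_def]

theorem mem_normalizer_iff_conj_smul_eq (H : Subgroup G) (g : G) :
    g ∈ Subgroup.normalizer (H : Set G) ↔ MulAut.conj g • H = H := by
  rw [Subgroup.mem_normalizer_iff_map_conj_eq]
  rfl

theorem conj_smul_eq_of_mem_normalizer {H : Subgroup G} {g : G}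
    (hg : g ∈ Subgroup.normalizer (H : Set G)) : MulAut.conj g • H = H :=
  (mem_normalizer_iff_conj_smul_eq H g).1 hg

/-- If `A ≤ H` and `A.subgroupOf H` is normal, elements of `H` normalize `A`. -/
theorem le_normalizer_of_subgroupOf_normal {A H : Subgroup G} (hA : A ≤ H)
    (hn : (A.subgroupOf H).Normal) : H ≤ Subgroup.normalizer (A : Set G) := by
  intro h hh
  rw [Subgroup.mem_normalizer_iff]
  intro a
  constructor
  · intro ha
    have := hn.conj_mem ⟨a, hA ha⟩ (by simpa [Subgroup.mem_subgroupOf] using ha) ⟨h, hh⟩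
    simpa [Subgroup.mem_subgroupOf] using this
  · intro ha
    have hmem : h * a * h⁻¹ ∈ H := hA ha
    have := hn.conj_mem ⟨h * a * h⁻¹, hmem⟩ (by simpa [Subgroup.mem_subgroupOf] using ha)
      ⟨h⁻¹, H.inv_mem hh⟩
    simpa [Subgroup.mem_subgroupOf, mul_assoc] using this

theorem conj_smul_eq_of_subgroupOf_normal {A H : Subgroup G} (hA : A ≤ H)
    (hn : (A.subgroupOf H).Normal) {h : G} (hh : h ∈ H) : MulAut.conj h • A = A :=
  conj_smul_eq_of_mem_normalizer (le_normalizer_of_subgroupOf_normal hA hn hh)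

theorem card_conj_smul [Finite G] (g : G) (H : Subgroup G) :
    Nat.card (MulAut.conj g • H : Subgroup G) = Nat.card H := by
  exact Nat.card_congr ((Subgroup.equivSMul (MulAut.conj g) H).symm.toEquiv)

/-- In a finite group, if `H ≤ g • H` then they are equal. -/
theorem conj_smul_eq_of_le [Finite G] {g : G} {H : Subgroup G} (h : H ≤ MulAut.conj g • H) :
    MulAut.conj g • H = H := by
  symm
  apply Subgroup.eq_of_le_of_card_ge h
  rw [card_conj_smul]

end Cfsg.Agent.Lib.Helper2
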