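import Mathlib

set_option autoImplicit false
set_option linter.style.haveILetI false

namespace Cfsg.Agent.Lib.Helper2

/-- If the Frattini subgroup is trivial, every nontrivial subgroup avoids some maximal subgroup. -/
theorem exists_coatom_not_le {G : Type*} [Group G] (hΦ : frattini G = ⊥) {D : Subgroup G}
    (hD : D ≠ ⊥) : ∃ M : Subgroup G, IsCoatom M ∧ ¬ D ≤ M := by
  by_contra h
  push Not at h
  apply hD
  apply le_bot_iff.1
  rw [← hΦ]
  show D ≤ ⨅ a ∈ {H : Subgroup G | IsCoatom H}, a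
  exact le_iInf₂ (fun M hM => h M hM)

/-- In a finite nilpotent group, `K ⊔ N' = ⊤` forces `K = ⊤`. -/
theorem eq_top_of_sup_commutator_eq_top {N : Type*} [Group N] [Finite N] [Group.IsNilpotent N]
    (K : Subgroup N) (hK : K ⊔ commutator N = ⊤) : K = ⊤ := by
  by_contra hne
  rcases eq_top_or_exists_le_coatom K with h | ⟨L, hL, hKL⟩
  · exact hne h
  have hnc : NormalizerCondition N := Group.normalizerCondition_of_isNilpotent
  haveI hLn : L.Normal := Subgroup.NormalizerCondition.normal_of_coatom L hnc hL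
  -- the quotient has only trivial subgroups
  have hsub : ∀ K' : Subgroup (N ⧸ L), K' = ⊥ ∨ K' = ⊤ := by
    intro K'
    have h1 : L ≤ K'.comap (QuotientGroup.mk' L) := by
      intro x hx
      rw [Subgroup.mem_comap, QuotientGroup.mk'_apply, (QuotientGroup.eq_one_iff x).2 hx]
      exact K'.one_mem
    rcases hL.le_iff.1 h1 with h2 | h2
    · right
      apply Subgroup.comap_injective (QuotientGroup.mk'_surjective L)
      rw [h2, Subgroup.comap_top]
    · left
      apply Subgroup.comap_injective (QuotientGroup.mk'_surjective L)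
      rw [h2, MonoidHom.comap_bot, QuotientGroup.ker_mk']
  have hcomm : IsMulCommutative (N ⧸ L) := by
    refine ⟨⟨fun x y => ?_⟩⟩
    by_cases hx : x = 1
    · rw [hx, one_mul, mul_one]
    · rcases hsub (Subgroup.zpowers x) with h | h
      · exact (hx (Subgroup.zpowers_eq_bot.1 h)).elim
      · have hy : y ∈ Subgroup.zpowers x := by rw [h]; exact Subgroup.mem_top y
        obtain ⟨k, rfl⟩ := Subgroup.mem_zpowers_iff.1 hy
        exact ((Commute.refl x).zpow_right k).eq
  have hcL : commutator N ≤ L := Subgroup.Normal.quotient_commutative_iff_commutator_le.1 hcomm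
  have : (⊤ : Subgroup N) ≤ L := by rw [← hK]; exact sup_le hKL hcL
  exact hL.1 (top_le_iff.1 this)

/-- With trivial Frattini subgroup, a normal nilpotent subgroup is abelian. -/
theorem commute_of_normal_nilpotent {G : Type*} [Group G] [Finite G] (hΦ : frattini G = ⊥)
    (N : Subgroup G) [hN : N.Normal] [Group.IsNilpotent N] :
    ∀ x ∈ N, ∀ y ∈ N, x * y = y * x := by
  have hD : ⁅N, N⁆ = ⊥ := by
    by_contra hD
    haveI hDn : (⁅N, N⁆).Normal := Subgroup.commutator_normal N N
    obtain ⟨M, hM, hDM⟩ := exists_coatom_not_le hΦ hD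
    have hDN : ⁅N, N⁆ ≤ N := Subgroup.commutator_le_right N N
    have hsup : ⁅N, N⁆ ⊔ M = ⊤ := by
      apply hM.2
      apply lt_of_le_of_ne le_sup_right
      intro h
      apply hDM
      rw [h]; exact le_sup_left
    have hK : M.subgroupOf N ⊔ commutator N = ⊤ := by
      rw [eq_top_iff]
      intro n _
      have hn : (n : G) ∈ ⁅N, N⁆ ⊔ M := by rw [hsup]; exact Subgroup.mem_top _
      obtain ⟨d, hd, m, hm, hdm⟩ := Subgroup.mem_sup_of_normal_left.1 hn
      rw [← Subgroup.map_subtype_commutator] at hd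
      obtain ⟨d', hd', rfl⟩ := hd
      have hdm : (d' : G) * m = n := hdm
      have hmN : m ∈ N := by
        have : m = (d' : G)⁻¹ * (n : G) := by rw [← hdm]; group
        rw [this]
        exact N.mul_mem (N.inv_mem d'.2) n.2
      have hn' : n = d' * ⟨m, hmN⟩ := Subtype.ext hdm.symm
      rw [hn']
      exact Subgroup.mul_mem _ (Subgroup.mem_sup_right hd')
        (Subgroup.mem_sup_left (Subgroup.mem_subgroupOf.2 hm))
    have htop := eq_top_of_sup_commutator_eq_top _ hK
    have hNM : N ≤ M := by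
      intro x hx
      have : (⟨x, hx⟩ : N) ∈ M.subgroupOf N := by rw [htop]; exact Subgroup.mem_top _
      exact Subgroup.mem_subgroupOf.1 this
    exact hDM (hDN.trans hNM)
  intro x hx y hy
  have := Subgroup.commutator_eq_bot_iff_le_centralizer.1 hD
  have h2 := this hx
  rw [Subgroup.mem_centralizer_iff] at h2
  exact (h2 y hy).symm

/-- With trivial Frattini subgroup, an abelian normal subgroup has a complement. -/
theorem exists_complement_of_abelian_normal {G : Type*} [Group G] [Finite G]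
    (hΦ : frattini G = ⊥) (A : Subgroup G) [hA : A.Normal]
    (hab : ∀ x ∈ A, ∀ y ∈ A, x * y = y * x) :
    ∃ H : Subgroup G, A ⊔ H = ⊤ ∧ A ⊓ H = ⊥ := by
  obtain ⟨H, hH, hHmin⟩ := WellFounded.has_min (wellFounded_lt (α := Subgroup G))
    {H | A ⊔ H = ⊤} ⟨⊤, sup_top_eq A⟩
  have hH' : A ⊔ H = ⊤ := hH
  refine ⟨H, hH, ?_⟩
  by_contra hD
  have hDn : (A ⊓ H).Normal := by
    refine ⟨?_⟩
    intro x hx g
    have hg : g ∈ A ⊔ H := by rw [hH']; exact Subgroup.mem_top g
    obtain ⟨a, ha, h, hh, rfl⟩ := Subgroup.mem_sup_of_normal_left.1 hg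
    have h1 : h * x * h⁻¹ ∈ A := hA.conj_mem x hx.1 h
    have h2 : h * x * h⁻¹ ∈ H := H.mul_mem (H.mul_mem hh hx.2) (H.inv_mem hh)
    have h3 : a * h * x * (a * h)⁻¹ = h * x * h⁻¹ := by
      have := hab a ha _ h1
      calc a * h * x * (a * h)⁻¹ = a * (h * x * h⁻¹) * a⁻¹ := by group
        _ = (h * x * h⁻¹) * a * a⁻¹ := by rw [this]
        _ = h * x * h⁻¹ := by group
    rw [h3]
    exact ⟨h1, h2⟩
  obtain ⟨M, hM, hDM⟩ := exists_coatom_not_le hΦ hD
  have hsup : (A ⊓ H) ⊔ M = ⊤ := by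
    apply hM.2
    apply lt_of_le_of_ne le_sup_right
    intro h
    apply hDM
    rw [h]; exact le_sup_left
  have hHM : A ⊔ (H ⊓ M) = ⊤ := by
    rw [eq_top_iff, ← hH']
    apply sup_le le_sup_left
    intro h hh
    have hg : h ∈ (A ⊓ H) ⊔ M := by rw [hsup]; exact Subgroup.mem_top h
    obtain ⟨d, hd, m, hm, rfl⟩ := Subgroup.mem_sup_of_normal_left.1 hg
    have hmH : m ∈ H := by
      have : m = d⁻¹ * (d * m) := by group
      rw [this]
      exact H.mul_mem (H.inv_mem hd.2) hh
    exact Subgroup.mul_mem _ (Subgroup.mem_sup_left hd.1) (Subgroup.mem_sup_right ⟨hmH, hm⟩)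
  have hle : H ⊓ M ≤ H := inf_le_left
  have heq : H ⊓ M = H := by
    by_contra hne
    exact hHmin (H ⊓ M) hHM (lt_of_le_of_ne hle hne)
  apply hDM
  calc A ⊓ H ≤ H := inf_le_right
    _ = H ⊓ M := heq.symm
    _ ≤ M := inf_le_right

/-- Every nontrivial normal subgroup of a finite group contains a minimal normal subgroup. -/
theorem exists_minimal_normal_le {G : Type*} [Group G] [Finite G] (K : Subgroup G)
    (hKn : K.Normal) (hK : K ≠ ⊥) :
    ∃ K₀ : Subgroup G, K₀.Normal ∧ K₀ ≠ ⊥ ∧ K₀ ≤ K ∧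
      ∀ L : Subgroup G, L.Normal → L ≤ K₀ → L = ⊥ ∨ L = K₀ := by
  obtain ⟨K₀, ⟨hK₀n, hK₀1, hK₀K⟩, hmin⟩ := WellFounded.has_min (wellFounded_lt (α := Subgroup G))
    {X | X.Normal ∧ X ≠ ⊥ ∧ X ≤ K} ⟨K, hKn, hK, le_rfl⟩
  refine ⟨K₀, hK₀n, hK₀1, hK₀K, ?_⟩
  intro L hLn hL
  by_cases hL1 : L = ⊥
  · exact Or.inl hL1
  · right
    by_contra hne
    exact hmin L ⟨hLn, hL1, hL.trans hK₀K⟩ (lt_of_le_of_ne hL hne)

end Cfsg.Agent.Lib.Helper2
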