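import Mathlib

set_option autoImplicit false
set_option linter.style.haveILetI false

namespace Cfsg.Agent.Lib.Helper2

universe u

variable {G : Type u} [Group G]

/-- The image of a maximal subgroup containing `N` in `G ⧸ N` is maximal. -/
theorem isCoatom_map_mk' (N : Subgroup G) [N.Normal] {M : Subgroup G} (hM : IsCoatom M)
    (hNM : N ≤ M) : IsCoatom (M.map (QuotientGroup.mk' N)) := by
  let π := QuotientGroup.mk' N
  have hπ : Function.Surjective π := QuotientGroup.mk'_surjective N
  have hker : π.ker ≤ M := by rw [QuotientGroup.ker_mk']; exact hNM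
  have hcm : (M.map π).comap π = M := Subgroup.comap_map_eq_self hker
  constructor
  · intro h
    apply hM.1
    rw [← hcm, h, Subgroup.comap_top]
  · intro L hL
    have h1 : M ≤ L.comap π := by
      rw [← hcm]; exact Subgroup.comap_mono hL.le
    have h2 : M ≠ L.comap π := by
      intro h
      apply hL.ne
      rw [h, Subgroup.map_comap_eq_self_of_surjective hπ]
    have h3 := hM.2 _ (lt_of_le_of_ne h1 h2)
    rw [← Subgroup.map_comap_eq_self_of_surjective hπ L, h3,
      Subgroup.map_top_of_surjective π hπ]

/-- The preimage of a maximal subgroup of `G ⧸ N` is maximal in `G`. -/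
theorem isCoatom_comap_mk' (N : Subgroup G) [N.Normal] {L : Subgroup (G ⧸ N)}
    (hL : IsCoatom L) : IsCoatom (L.comap (QuotientGroup.mk' N)) := by
  let π := QuotientGroup.mk' N
  have hπ : Function.Surjective π := QuotientGroup.mk'_surjective N
  have hmc : (L.comap π).map π = L := Subgroup.map_comap_eq_self_of_surjective hπ L
  constructor
  · intro h
    apply hL.1
    rw [← hmc, h, Subgroup.map_top_of_surjective π hπ]
  · intro K hK
    have hkerK : π.ker ≤ K := by
      refine le_trans ?_ hK.le
      intro x hx
      rw [Subgroup.mem_comap, MonoidHom.mem_ker.1 hx]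
      exact L.one_mem
    have hcm : (K.map π).comap π = K := Subgroup.comap_map_eq_self hkerK
    have h1 : L ≤ K.map π := by
      rw [← hmc]; exact Subgroup.map_mono hK.le
    have h2 : L ≠ K.map π := by
      intro h
      apply hK.ne
      rw [h, hcm]
    have h3 := hL.2 _ (lt_of_le_of_ne h1 h2)
    rw [← hcm, h3, Subgroup.comap_top]

theorem index_comap_mk' (N : Subgroup G) [N.Normal] (L : Subgroup (G ⧸ N)) :
    (L.comap (QuotientGroup.mk' N)).index = L.index :=
  Subgroup.index_comap_of_surjective L (QuotientGroup.mk'_surjective N)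

end Cfsg.Agent.Lib.Helper2
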