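import Mathlib

set_option autoImplicit false
set_option linter.style.haveILetI false

namespace Cfsg.Agent.Lib.Helper2

open scoped Pointwise

variable {G : Type*} [Group G]

/-- The product map `A × B → A * B` has all fibres in bijection with `A ⊓ B`. -/
noncomputable def prodEquivMulProdInf (A B : Subgroup G) :
    (A × B) ≃ ((A : Set G) * (B : Set G) : Set G) × (A ⊓ B : Subgroup G) := by
  classical
  let f : A × B → ((A : Set G) * (B : Set G) : Set G) :=
    fun x => ⟨(x.1 : G) * (x.2 : G), Set.mul_mem_mul x.1.2 x.2.2⟩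
  refine (Equiv.sigmaFiberEquiv f).symm.trans (Equiv.sigmaEquivProdOfEquiv ?_)
  intro s
  have hs := s.2
  rw [Set.mem_mul] at hs
  let a0 : G := hs.choose
  have ha0 : a0 ∈ A := hs.choose_spec.1
  let b0 : G := hs.choose_spec.2.choose
  have hb0 : b0 ∈ B := hs.choose_spec.2.choose_spec.1
  have hab0 : a0 * b0 = (s : G) := hs.choose_spec.2.choose_spec.2
  exact
    { toFun := fun x => ⟨a0⁻¹ * (x.1.1 : G), by
        have hx : (x.1.1 : G) * (x.1.2 : G) = (s : G) := congrArg Subtype.val x.2
        refine ⟨A.mul_mem (A.inv_mem ha0) x.1.1.2, ?_⟩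
        have : a0⁻¹ * (x.1.1 : G) = b0 * (x.1.2 : G)⁻¹ := by
          rw [inv_mul_eq_iff_eq_mul, ← mul_assoc, hab0, ← hx, mul_inv_cancel_right]
        show a0⁻¹ * (x.1.1 : G) ∈ B
        rw [this]
        exact B.mul_mem hb0 (B.inv_mem x.1.2.2)⟩
      invFun := fun d => ⟨(⟨a0 * (d : G), A.mul_mem ha0 d.2.1⟩, ⟨(d : G)⁻¹ * b0, B.mul_mem (B.inv_mem d.2.2) hb0⟩), by
        apply Subtype.ext
        show a0 * (d : G) * ((d : G)⁻¹ * b0) = (s : G)
        rw [← hab0]; group⟩
      left_inv := fun x => by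
        have hx : (x.1.1 : G) * (x.1.2 : G) = (s : G) := congrArg Subtype.val x.2
        apply Subtype.ext
        apply Prod.ext
        · apply Subtype.ext
          show a0 * (a0⁻¹ * (x.1.1 : G)) = (x.1.1 : G)
          group
        · apply Subtype.ext
          show (a0⁻¹ * (x.1.1 : G))⁻¹ * b0 = (x.1.2 : G)
          rw [mul_inv_rev, inv_inv, mul_assoc, hab0, ← hx]
          group
      right_inv := fun d => by
        apply Subtype.ext
        show a0⁻¹ * (a0 * (d : G)) = (d : G)
        group }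

theorem card_mul_card_eq_card_mul_mul_card_inf [Finite G] (A B : Subgroup G) :
    Nat.card A * Nat.card B =
      Nat.card ((A : Set G) * (B : Set G) : Set G) * Nat.card (A ⊓ B : Subgroup G) := by
  rw [← Nat.card_prod, ← Nat.card_prod]
  exact Nat.card_congr (prodEquivMulProdInf A B)

end Cfsg.Agent.Lib.Helper2
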