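import Mathlib
import Cfsg.Agent.Lib.Helper2.ProdCard
import Cfsg.Agent.Lib.Helper2.Conj

set_option autoImplicit false
set_option linter.style.haveILetI false

namespace Cfsg.Agent.Lib.Helper2

open scoped Pointwise

variable {G : Type*} [Group G]

theorem index_inf_of_coprime [Finite G] (H K : Subgroup G) (h : H.index.Coprime K.index) :
    (H ⊓ K).index = H.index * K.index := by
  apply Nat.le_antisymm (Subgroup.index_inf_le)
  apply Nat.le_of_dvd (Nat.pos_of_ne_zero Subgroup.index_ne_zero_of_finite)
  exact Nat.Coprime.mul_dvd_of_dvd_of_dvd h (Subgroup.index_dvd_of_le inf_le_left)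
    (Subgroup.index_dvd_of_le inf_le_right)

theorem exists_mul_of_coprime_index [Finite G] (H K : Subgroup G) (h : H.index.Coprime K.index)
    (x : G) : ∃ a ∈ H, ∃ b ∈ K, x = a * b := by
  have h1 := card_mul_card_eq_card_mul_mul_card_inf H K
  have h2 := index_inf_of_coprime H K h
  have hH := Subgroup.card_mul_index H
  have hK := Subgroup.card_mul_index K
  have hHK := Subgroup.card_mul_index (H ⊓ K)
  have hG : 0 < Nat.card G := Nat.card_pos
  have hcard : Nat.card ((H : Set G) * (K : Set G) : Set G) = Nat.card G := by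
    have e1 : Nat.card G * Nat.card G =
        Nat.card ((H : Set G) * (K : Set G) : Set G) * Nat.card G := by
      calc Nat.card G * Nat.card G
          = (Nat.card H * H.index) * (Nat.card K * K.index) := by rw [hH, hK]
        _ = (Nat.card H * Nat.card K) * (H.index * K.index) := by ring
        _ = (Nat.card ((H : Set G) * (K : Set G) : Set G) * Nat.card (H ⊓ K : Subgroup G)) *
            (H ⊓ K).index := by rw [h1, h2]
        _ = Nat.card ((H : Set G) * (K : Set G) : Set G) *
            (Nat.card (H ⊓ K : Subgroup G) * (H ⊓ K).index) := by ring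
        _ = Nat.card ((H : Set G) * (K : Set G) : Set G) * Nat.card G := by rw [hHK]
    exact (Nat.eq_of_mul_eq_mul_right hG e1).symm
  have huniv : ((H : Set G) * (K : Set G) : Set G) = Set.univ := by
    apply Set.eq_of_subset_of_ncard_le (Set.subset_univ _) _ (Set.toFinite _)
    rw [← Nat.card_coe_set_eq, ← Nat.card_coe_set_eq, hcard, Nat.card_univ]
  have hx : x ∈ ((H : Set G) * (K : Set G) : Set G) := by rw [huniv]; trivial
  obtain ⟨a, ha, b, hb, hab⟩ := Set.mem_mul.1 hx
  exact ⟨a, ha, b, hb, hab.symm⟩

theorem index_conj_smul [Finite G] (g : G) (H : Subgroup G) :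
    (MulAut.conj g • H : Subgroup G).index = H.index := by
  have h1 := Subgroup.card_mul_index (MulAut.conj g • H : Subgroup G)
  have h2 := Subgroup.card_mul_index H
  rw [card_conj_smul, ← h2] at h1
  exact Nat.eq_of_mul_eq_mul_left Nat.card_pos h1

theorem conj_smul_top (g : G) : MulAut.conj g • (⊤ : Subgroup G) = ⊤ := by
  rw [eq_top_iff]
  intro x _
  rw [mem_conj_smul_iff]
  exact Subgroup.mem_top _

end Cfsg.Agent.Lib.Helper2
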