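import Mathlib
import Cfsg.Prelude.Def_SolvableStructure
import Cfsg.Agent.Lib.Helper2.CoprimeIndex
import Cfsg.Agent.Lib.Helper2.CompSys
import Cfsg.Agent.Lib.Helper4.Hall
import Cfsg.Agent.S0543

set_option autoImplicit false
set_option linter.style.haveILetI false

namespace Cfsg.Agent.Lib.Helper2

open scoped Pointwise

universe u

theorem conj_smul_normal_eq {G : Type*} [Group G] (N : Subgroup G) [N.Normal] (g : G) :
    MulAut.conj g • N = N :=
  conj_smul_eq_of_mem_normalizer (by rw [Subgroup.normalizer_eq_top]; exact Subgroup.mem_top g)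

/-- Two complement systems that agree modulo a normal subgroup `N` are conjugate by an element
of `N` (on any finite set of primes). -/
theorem exists_conj_on_rel {G : Type u} [Group G] [Finite G] [Group.IsSolvable G]
    (N : Subgroup G) [hNn : N.Normal] (K L : Nat.Primes → Subgroup G)
    (hK : Cfsg.IsComplementSystem K) (hL : Cfsg.IsComplementSystem L)
    (hKL : ∀ p, K p ⊔ N = L p ⊔ N) (T : Finset Nat.Primes) :
    ∃ n ∈ N, ∀ p ∈ T, MulAut.conj n • K p = L p := by
  classical
  induction T using Finset.induction_on with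
  | empty => exact ⟨1, N.one_mem, fun p hp => absurd hp (Finset.notMem_empty p)⟩
  | insert p' T hp'T ih =>
    obtain ⟨g, hgN, hg⟩ := ih
    have hp' : (p' : ℕ).Prime := p'.2
    set a := (Nat.card G).factorization p' with ha
    set A : Subgroup G := MulAut.conj g • K p' with hA
    set B : Subgroup G := L p' with hB
    set E : Subgroup G := B ⊔ N with hE
    have hidxA : A.index = (p' : ℕ) ^ a := by rw [hA, index_conj_smul, hK p']
    have hidxB : B.index = (p' : ℕ) ^ a := hL p'
    have hpos : 0 < (p' : ℕ) ^ a := pow_pos hp'.pos a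
    have hcardAB : Nat.card A = Nat.card B := by
      have h1 := Subgroup.card_mul_index A
      have h2 := Subgroup.card_mul_index B
      rw [hidxA] at h1
      rw [hidxB] at h2
      exact Nat.eq_of_mul_eq_mul_right hpos (h1.trans h2.symm)
    have hgE : g ∈ K p' ⊔ N := Subgroup.mem_sup_right hgN
    have hAN : A ⊔ N = E := by
      have h1 : MulAut.conj g • (K p' ⊔ N) = K p' ⊔ N := Subgroup.conj_smul_eq_self_of_mem hgE
      rw [Subgroup.smul_sup, conj_smul_normal_eq N g] at h1
      rw [hA, h1, hKL p']
    have hAE : A ≤ E := by rw [← hAN]; exact le_sup_left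
    have hBE : B ≤ E := le_sup_left
    -- Hall conjugacy in E
    have hnB : ¬ (p' : ℕ) ∣ Nat.card B := not_dvd_card_of_index_eq _ hp' B hidxB
    have hcardE : Nat.card E = Nat.card B * B.relIndex E := by
      have h1 : (B.subgroupOf E).index * Nat.card (B.subgroupOf E) = Nat.card E :=
        Subgroup.index_mul_card _
      rw [Nat.card_congr (Subgroup.subgroupOfEquivOfLe hBE).toEquiv] at h1
      rw [← h1, mul_comm]; rfl
    have hcop : (Nat.card B).Coprime (B.relIndex E) := by
      have h1 : B.relIndex E ∣ (p' : ℕ) ^ a := by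
        rw [← hidxB]; exact Subgroup.relIndex_dvd_index_of_le hBE
      obtain ⟨b, -, hb⟩ := (Nat.dvd_prime_pow hp').1 h1
      rw [hb]
      apply Nat.Coprime.pow_right
      rw [Nat.coprime_comm]
      exact (Nat.Prime.coprime_iff_not_dvd hp').2 hnB
    have hcA' : Nat.card (A.subgroupOf E) = Nat.card B := by
      rw [Nat.card_congr (Subgroup.subgroupOfEquivOfLe hAE).toEquiv, hcardAB]
    have hcB' : Nat.card (B.subgroupOf E) = Nat.card B := by
      rw [Nat.card_congr (Subgroup.subgroupOfEquivOfLe hBE).toEquiv]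
    obtain ⟨e, he⟩ := (Cfsg.Agent.Lib.Helper4.hall_all _ E rfl (Nat.card B) (B.relIndex E) hcardE
      hcop).2.1 (A.subgroupOf E) (B.subgroupOf E) hcA' hcB'
    have he' : MulAut.conj e • A.subgroupOf E = B.subgroupOf E := he
    rw [Subgroup.conj_smul_subgroupOf hAE e] at he'
    have heAB : MulAut.conj (e : G) • A = B := by
      have h1 := Subgroup.subgroupOf_inj.1 he'
      have h2 : MulAut.conj (e : G) • A ≤ E := Subgroup.conj_smul_le_of_le hAE e
      rwa [inf_of_le_left h2, inf_of_le_left hBE] at h1
    -- e = m * k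
    have heE : (e : G) ∈ N ⊔ A := by rw [sup_comm, hAN]; exact e.2
    obtain ⟨m, hm, k, hk, hmk⟩ := Subgroup.mem_sup_of_normal_left.1 heE
    have hmAB : MulAut.conj m • A = B := by
      rw [← heAB, ← hmk, map_mul, mul_smul, Subgroup.conj_smul_eq_self_of_mem hk]
    -- adjust m inside N
    set D : Subgroup G := T.inf (fun p => Subgroup.normalizer ((L p : Subgroup G) : Set G)) with hD
    set N' : Subgroup G := Subgroup.normalizer ((A : Subgroup G) : Set G) with hN'
    have hDle : T.inf L ≤ D := Finset.inf_mono_fun (fun p _ => Subgroup.le_normalizer)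
    have hDidx : ¬ (p' : ℕ) ∣ D.index := by
      intro h
      exact Cfsg.Agent.S0543.not_dvd_index_inf L hL T p' hp'T
        (h.trans (Subgroup.index_dvd_of_le hDle))
    have hN'idx : N'.index ∣ (p' : ℕ) ^ a := by
      rw [← hidxA]
      exact Subgroup.index_dvd_of_le Subgroup.le_normalizer
    have hrel : ∀ X : Subgroup G, X.relIndex N ∣ X.index := by
      intro X
      have h1 := relIndex_sup_of_le_normalizer X N
        (by rw [Subgroup.normalizer_eq_top]; exact le_top)
      rw [← h1]
      exact Subgroup.relIndex_dvd_index_of_le le_sup_left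
    have hcop' : (D.subgroupOf N).index.Coprime (N'.subgroupOf N).index := by
      have h1 : (N'.subgroupOf N).index ∣ (p' : ℕ) ^ a := (hrel N').trans hN'idx
      obtain ⟨b, -, hb⟩ := (Nat.dvd_prime_pow hp').1 h1
      rw [hb]
      apply Nat.Coprime.pow_right
      rw [Nat.coprime_comm]
      apply (Nat.Prime.coprime_iff_not_dvd hp').2
      intro h2
      exact hDidx (h2.trans (hrel D))
    obtain ⟨d, hd, n₂, hn₂, hdn⟩ := exists_mul_of_coprime_index (D.subgroupOf N)
      (N'.subgroupOf N) hcop' ⟨m, hm⟩
    have hdn' : m = (d : G) * (n₂ : G) := congrArg Subtype.val hdn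
    have hdD : (d : G) ∈ D := Subgroup.mem_subgroupOf.1 hd
    have hn₂N' : (n₂ : G) ∈ N' := Subgroup.mem_subgroupOf.1 hn₂
    refine ⟨(d : G) * g, N.mul_mem d.2 hgN, ?_⟩
    intro p hp
    rw [Finset.mem_insert] at hp
    rcases hp with rfl | hp
    · rw [map_mul, mul_smul, ← hA]
      show MulAut.conj (d : G) • A = B
      rw [← hmAB, hdn', map_mul, mul_smul, conj_smul_eq_of_mem_normalizer hn₂N']
    · rw [map_mul, mul_smul, hg p hp]
      have hdp : (d : G) ∈ Subgroup.normalizer ((L p : Subgroup G) : Set G) :=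
        (Finset.inf_le hp : D ≤ _) hdD
      exact conj_smul_eq_of_mem_normalizer hdp

/-- Two complement systems agreeing modulo `N` are conjugate by an element of `N`. -/
theorem exists_conj_rel {G : Type u} [Group G] [Finite G] [Group.IsSolvable G]
    (N : Subgroup G) [hNn : N.Normal] (K L : Nat.Primes → Subgroup G)
    (hK : Cfsg.IsComplementSystem K) (hL : Cfsg.IsComplementSystem L)
    (hKL : ∀ p, K p ⊔ N = L p ⊔ N) :
    ∃ n ∈ N, ∀ p, MulAut.conj n • K p = L p := by
  classical
  obtain ⟨g, hgN, hg⟩ := exists_conj_on_rel N K L hK hL hKL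
    (Finset.subtype Nat.Prime (Nat.card G).primeFactors)
  refine ⟨g, hgN, ?_⟩
  intro p
  by_cases hp : p ∈ Finset.subtype Nat.Prime (Nat.card G).primeFactors
  · exact hg p hp
  · have hnd : ¬ (p : ℕ) ∣ Nat.card G := fun h =>
      hp (Finset.mem_subtype.2 (Nat.mem_primeFactors.2 ⟨p.2, h, Nat.card_pos.ne'⟩))
    have h0 : (Nat.card G).factorization p = 0 := Nat.factorization_eq_zero_of_not_dvd hnd
    have hKp : K p = ⊤ := by
      have := hK p
      rw [h0, pow_zero] at this
      exact Subgroup.index_eq_one.1 this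
    have hLp : L p = ⊤ := by
      have := hL p
      rw [h0, pow_zero] at this
      exact Subgroup.index_eq_one.1 this
    rw [hKp, hLp, conj_smul_top]

end Cfsg.Agent.Lib.Helper2
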