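import Mathlib

set_option autoImplicit false
open Pointwise

namespace Cfsg.Agent.Lib.Helper2

variable {G : Type*} [Group G]

/-- If `M = ⁅M, N⁆`, `M ≤ N` and `N` is nilpotent then `M = ⊥`. -/
theorem eq_bot_of_eq_commutator_of_nilpotent {M N : Subgroup G} (hMN : M ≤ N)
    (hN : Group.IsNilpotent N) (h : M = ⁅M, N⁆) : M = ⊥ := by
  obtain ⟨n, hn⟩ := (Subgroup.isNilpotent_iff_lowerCentralSeries N).1 hN
  have key : ∀ i : ℕ, M ≤ N.lowerCentralSeries i := by
    intro i
    induction i with
    | zero => simpa using hMN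
    | succ i ih =>
      rw [Subgroup.lowerCentralSeries_succ]
      calc M = ⁅M, N⁆ := h
        _ ≤ _ := Subgroup.commutator_mono ih le_rfl
  have := key n
  rw [hn] at this
  exact le_bot_iff.1 this

/-- A normal nilpotent subgroup centralizes every minimal normal subgroup. -/
theorem nilpotent_normal_le_centralizer_minimal_normal (M N : Subgroup G) [M.Normal] [N.Normal]
    (hN : Group.IsNilpotent N) (hM : M ≠ ⊥)
    (hmin : ∀ K : Subgroup G, K.Normal → K ≤ M → K = ⊥ ∨ K = M) :
    N ≤ Subgroup.centralizer (M : Set G) := by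
  rw [← Subgroup.commutator_eq_bot_iff_le_centralizer, Subgroup.commutator_comm]
  rcases hmin ⁅M, N⁆ inferInstance (Subgroup.commutator_le_left M N) with h | h
  · exact h
  · exfalso
    apply hM
    have hMN : M ≤ N := by rw [← h]; exact Subgroup.commutator_le_right M N
    exact eq_bot_of_eq_commutator_of_nilpotent hMN hN h.symm

end Cfsg.Agent.Lib.Helper2
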