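import Mathlib
import Cfsg.Prelude.Def_SolvableStructure
import Cfsg.Agent.S0043
import Cfsg.Agent.S0543
import Cfsg.Agent.S0545
import Cfsg.Agent.S0568
import Cfsg.Agent.Lib.Helper2.Conj
import Cfsg.Agent.Lib.Helper2.Index
import Cfsg.Agent.Lib.Helper2.CompSys
import Cfsg.Agent.Lib.Helper2.FrattiniTriv
import Cfsg.Agent.Lib.Helper4.Carter
import Cfsg.Agent.Lib.Helper4.Hall
import Cfsg.Agent.Lib.Helper4.HallConv
import Cfsg.Agent.Lib.Helper4.Frobenius3

/-! Carter subgroups and system normalizers: a complement system reducing into a Carter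
subgroup has its system normalizer inside that Carter subgroup. -/

set_option autoImplicit false
set_option linter.style.haveILetI false
set_option linter.deprecated false
set_option linter.unusedSectionVars false

namespace Cfsg.Agent.Lib.Helper2

open scoped Pointwise
open Cfsg.Agent.Lib.Helper4

universe u

/-- The complement system `K` reduces into the (nilpotent) subgroup `C`: every `p'`-element of
`C` lies in `K p`. -/
def ReducesInto {G : Type*} [Group G] (K : Nat.Primes → Subgroup G) (C : Subgroup G) : Prop :=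
  ∀ p : Nat.Primes, ∀ x ∈ C, (orderOf x).Coprime p → x ∈ K p

theorem relIndex_map_dvd_relIndex {G H : Type*} [Group G] [Group H] (f : G →* H)
    (A B : Subgroup G) : (A.map f).relIndex (B.map f) ∣ A.relIndex B := by
  have h1 : (A.map f).relIndex (B.map f) = ((A.map f).comap f).relIndex B :=
    (Subgroup.relIndex_comap (A.map f) f B).symm
  rw [h1]
  exact Subgroup.relIndex_dvd_of_le_left B (Subgroup.le_comap_map f A)

theorem relIndex_sup_dvd_relIndex {G : Type*} [Group G] (Q C N : Subgroup G) [N.Normal] :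
    (Q ⊔ N).relIndex (C ⊔ N) ∣ Q.relIndex C := by
  have h1 : (Q.map (QuotientGroup.mk' N)).comap (QuotientGroup.mk' N) = Q ⊔ N := by
    rw [Subgroup.comap_map_eq, QuotientGroup.ker_mk']
  have h2 : (C ⊔ N).map (QuotientGroup.mk' N) = C.map (QuotientGroup.mk' N) := by
    rw [Subgroup.map_sup, QuotientGroup.map_mk'_self, sup_bot_eq]
  rw [← h1, Subgroup.relIndex_comap, h2]
  exact relIndex_map_dvd_relIndex _ Q C

/-- If `H ≤ K'`, the index of `H` divides a power of `p` and `p ∤ |K'|`, then `K' ≤ H`. -/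
theorem le_of_index_dvd_pow {G : Type*} [Group G] [Finite G] {p : ℕ} (hp : p.Prime) {m : ℕ}
    {H K' : Subgroup G} (hHK : H ≤ K') (hidx : H.index ∣ p ^ m) (hnd : ¬ p ∣ Nat.card K') :
    K' ≤ H := by
  have h1 : H.relIndex K' ∣ p ^ m :=
    (Dvd.intro _ (Subgroup.relIndex_mul_index hHK)).trans hidx
  have h2 : H.relIndex K' ∣ Nat.card K' := Subgroup.relIndex_dvd_card _ _
  have h3 : H.relIndex K' = 1 :=
    Nat.eq_one_of_dvd_coprimes
      (Nat.Coprime.pow_left m ((Nat.Prime.coprime_iff_not_dvd hp).2 hnd)) h1 h2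
  exact Subgroup.relIndex_eq_one.1 h3

/-- The normal `p`-complement of a nilpotent subgroup. -/
theorem exists_normal_pcompl {G : Type*} [Group G] [Finite G] (C : Subgroup G)
    (hC : Group.IsNilpotent C) (p : ℕ) [hp : Fact p.Prime] :
    ∃ Q : Subgroup G, Q ≤ C ∧ C ≤ Subgroup.normalizer (Q : Set G) ∧ (Nat.card Q).Coprime p ∧
      (∃ k : ℕ, Q.relIndex C = p ^ k) ∧ ∀ x ∈ C, (orderOf x).Coprime p → x ∈ Q := by
  haveI := hC
  obtain ⟨Q₀, hQ₀n, hQ₀c, hQ₀p⟩ :=
    frob_hasNormalPComplement p _ C rfl (frobHyp_of_isNilpotent p)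
  haveI := hQ₀n
  have hQC : Q₀.map C.subtype ≤ C := Subgroup.map_subtype_le Q₀
  have hsub : (Q₀.map C.subtype).subgroupOf C = Q₀ := by
    rw [Subgroup.subgroupOf]
    exact Subgroup.comap_map_eq_self_of_injective C.subtype_injective Q₀
  refine ⟨Q₀.map C.subtype, hQC, ?_, ?_, ?_, ?_⟩
  · apply le_normalizer_of_subgroupOf_normal hQC
    rw [hsub]; exact hQ₀n
  · rw [Subgroup.card_map_of_injective C.subtype_injective]; exact hQ₀c
  · obtain ⟨c, hc⟩ := (IsPGroup.iff_card).1 hQ₀p
    refine ⟨c, ?_⟩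
    rw [Subgroup.relIndex, hsub, Subgroup.index_eq_card, hc]
  · intro x hx hcop
    have h1 : orderOf ((QuotientGroup.mk' Q₀) ⟨x, hx⟩) ∣ orderOf (⟨x, hx⟩ : C) :=
      orderOf_map_dvd _ _
    rw [Subgroup.orderOf_mk] at h1
    obtain ⟨k, hk⟩ := hQ₀p ((QuotientGroup.mk' Q₀) ⟨x, hx⟩)
    have h3 : orderOf ((QuotientGroup.mk' Q₀) ⟨x, hx⟩) ∣ p ^ k := orderOf_dvd_of_pow_eq_one hk
    have h4 : orderOf ((QuotientGroup.mk' Q₀) ⟨x, hx⟩) = 1 :=
      Nat.Coprime.eq_one_of_dvd ((Nat.Coprime.coprime_dvd_left h1 hcop).pow_right k) h3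
    have h5 : (QuotientGroup.mk' Q₀) ⟨x, hx⟩ = 1 := orderOf_eq_one_iff.1 h4
    have h6 : (⟨x, hx⟩ : C) ∈ Q₀ := (QuotientGroup.eq_one_iff _).1 h5
    exact ⟨⟨x, hx⟩, h6, rfl⟩

theorem le_of_reducesInto {G : Type*} [Group G] [Finite G] {K : Nat.Primes → Subgroup G}
    {C : Subgroup G} (h : ReducesInto K C) (p : Nat.Primes) {Q : Subgroup G} (hQC : Q ≤ C)
    (hcop : (Nat.card Q).Coprime p) : Q ≤ K p := by
  intro x hx
  apply h p x (hQC hx)
  have h1 : orderOf x ∣ Nat.card Q := by
    have := orderOf_dvd_natCard (⟨x, hx⟩ : Q)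
    rwa [Subgroup.orderOf_mk] at this
  exact Nat.Coprime.coprime_dvd_left h1 hcop

theorem reducesInto_map {G : Type*} [Group G] [Finite G] {K : Nat.Primes → Subgroup G}
    {C : Subgroup G} (h : ReducesInto K C) (N : Subgroup G) [N.Normal] :
    ReducesInto (fun p => (K p).map (QuotientGroup.mk' N)) (C.map (QuotientGroup.mk' N)) := by
  intro p y hy hcop
  obtain ⟨c, hc, rfl⟩ := hy
  have hp := p.2
  obtain ⟨a, m, hm, hcm⟩ :=
    Nat.exists_eq_pow_mul_and_not_dvd (orderOf_pos c).ne' (p : ℕ) hp.ne_one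
  have h1 : (orderOf (c ^ (p : ℕ) ^ a)).Coprime p := by
    have hd : orderOf (c ^ (p : ℕ) ^ a) ∣ m := by
      apply orderOf_dvd_of_pow_eq_one
      rw [← pow_mul, ← hcm, pow_orderOf_eq_one]
    exact Nat.Coprime.coprime_dvd_left hd ((Nat.Prime.coprime_iff_not_dvd hp).2 hm).symm
  have h2 : c ^ (p : ℕ) ^ a ∈ K p := h p _ (C.pow_mem hc _) h1
  have h3 : ((p : ℕ) ^ a).Coprime (orderOf (QuotientGroup.mk' N c)) :=
    Nat.Coprime.pow_left a hcop.symm
  obtain ⟨k, hk⟩ := exists_pow_eq_self_of_coprime h3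
  show QuotientGroup.mk' N c ∈ (K p).map (QuotientGroup.mk' N)
  rw [← hk, ← map_pow, ← map_pow]
  exact Subgroup.mem_map_of_mem _ ((K p).pow_mem h2 k)

/-- A complement system of `G` reducing into the nilpotent subgroup `C` restricts to a
complement system of `C ⊔ N` for a normal `p`-subgroup `N`. -/
theorem isComplementSystem_subgroupOf_sup {G : Type*} [Group G] [Finite G]
    (K : Nat.Primes → Subgroup G) (hK : Cfsg.IsComplementSystem K) (C N : Subgroup G)
    [hNn : N.Normal] (hCnil : Group.IsNilpotent C) (hred : ReducesInto K C) (p : ℕ)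
    [hp : Fact p.Prime] (hN : IsPGroup p N) :
    Cfsg.IsComplementSystem (fun q => (K q).subgroupOf (C ⊔ N)) := by
  intro q
  have hq := q.2
  haveI : Fact (q : ℕ).Prime := ⟨hq⟩
  show ((K q).subgroupOf (C ⊔ N)).index = _
  rw [index_eq_pow_factorization_iff (q : ℕ) hq]
  constructor
  · obtain ⟨Q, hQC, -, hQcop, ⟨k, hk⟩, -⟩ := exists_normal_pcompl C hCnil (q : ℕ)
    have hQK : Q ≤ K q := le_of_reducesInto hred q hQC hQcop
    obtain ⟨a, ha⟩ := (IsPGroup.iff_card).1 hN
    show ∃ k, (K q).relIndex (C ⊔ N) = (q : ℕ) ^ k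
    by_cases hqp : (q : ℕ) = p
    · have h1 : Q.relIndex C * C.relIndex (C ⊔ N) = Q.relIndex (C ⊔ N) :=
        Subgroup.relIndex_mul_relIndex Q C (C ⊔ N) hQC le_sup_left
      have h2 : C.relIndex (C ⊔ N) = C.relIndex N :=
        relIndex_sup_of_le_normalizer C N (by rw [Subgroup.normalizer_eq_top]; exact le_top)
      have h3 : C.relIndex N ∣ (q : ℕ) ^ a := by
        rw [hqp, ← ha]; exact Subgroup.relIndex_dvd_card C N
      obtain ⟨b, -, hb⟩ := (Nat.dvd_prime_pow hq).1 h3
      have h4 : (K q).relIndex (C ⊔ N) ∣ Q.relIndex (C ⊔ N) :=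
        Subgroup.relIndex_dvd_of_le_left (C ⊔ N) hQK
      rw [← h1, h2, hb, hk, ← pow_add] at h4
      obtain ⟨c, -, hc⟩ := (Nat.dvd_prime_pow hq).1 h4
      exact ⟨c, hc⟩
    · have hNK : N ≤ K q := by
        apply Cfsg.Agent.S0568.le_of_coprime_index N (K q)
        rw [hK q, ha]
        exact Nat.Coprime.pow _ _ ((Nat.coprime_primes hp.out hq).2 (fun h => hqp h.symm))
      have h1 : Q ⊔ N ≤ K q := sup_le hQK hNK
      have h2 : (K q).relIndex (C ⊔ N) ∣ (Q ⊔ N).relIndex (C ⊔ N) :=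
        Subgroup.relIndex_dvd_of_le_left (C ⊔ N) h1
      have h3 := h2.trans (relIndex_sup_dvd_relIndex Q C N)
      rw [hk] at h3
      obtain ⟨c, -, hc⟩ := (Nat.dvd_prime_pow hq).1 h3
      exact ⟨c, hc⟩
  · have hnd : ¬ (q : ℕ) ∣ Nat.card (K q) := not_dvd_card_of_index_eq (q : ℕ) hq _ (hK q)
    intro hd
    apply hnd
    have h1 : Nat.card ((K q).subgroupOf (C ⊔ N)) = Nat.card (K q ⊓ (C ⊔ N) : Subgroup G) :=
      card_subgroupOf_eq_card_inf _ _
    rw [h1] at hd
    exact hd.trans (Subgroup.card_dvd_of_le inf_le_left)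

theorem mem_normalizer_conj_smul_iff {G : Type*} [Group G] (g x : G) (H : Subgroup G) :
    x ∈ Subgroup.normalizer ((MulAut.conj g • H : Subgroup G) : Set G) ↔
      g⁻¹ * x * g ∈ Subgroup.normalizer (H : Set G) := by
  rw [mem_normalizer_iff_conj_smul_eq, mem_normalizer_iff_conj_smul_eq]
  have h : MulAut.conj (g⁻¹ * x * g) • H =
      (MulAut.conj g)⁻¹ • (MulAut.conj x • (MulAut.conj g • H)) := by
    rw [map_mul, map_mul, map_inv, mul_smul, mul_smul]
  rw [h, inv_smul_eq_iff]

theorem systemNormalizer_conj {G : Type*} [Group G] (K : Nat.Primes → Subgroup G) (g : G) :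
    Cfsg.systemNormalizer (fun p => MulAut.conj g • K p) =
      MulAut.conj g • Cfsg.systemNormalizer K := by
  ext x
  rw [mem_conj_smul_iff]
  unfold Cfsg.systemNormalizer
  rw [Subgroup.mem_iInf, Subgroup.mem_iInf]
  apply forall_congr'
  intro p
  exact mem_normalizer_conj_smul_iff g x (K p)

theorem isCarterSubgroup_conj {G : Type*} [Group G] {C : Subgroup G}
    (hC : Cfsg.IsCarterSubgroup C) (g : G) : Cfsg.IsCarterSubgroup (MulAut.conj g • C) := by
  obtain ⟨h1, h2⟩ := hC
  refine ⟨?_, ?_⟩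
  · haveI := h1
    exact Group.nilpotent_of_mulEquiv (Subgroup.equivSMul (MulAut.conj g) C)
  · ext x
    rw [mem_normalizer_conj_smul_iff, h2, mem_conj_smul_iff]

theorem isComplementSystem_conj {G : Type*} [Group G] [Finite G] {K : Nat.Primes → Subgroup G}
    (hK : Cfsg.IsComplementSystem K) (g : G) :
    Cfsg.IsComplementSystem (fun p => MulAut.conj g • K p) := by
  intro p
  show (MulAut.conj g • K p).index = _
  rw [index_conj_smul]
  exact hK p

/-- Main theorem: if the complement system `K` reduces into the Carter subgroup `C`, then the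
system normalizer of `K` is contained in `C`. -/
theorem sysNorm_le_of_reducesInto :
    ∀ (n : ℕ) (G : Type u) [Group G] [Finite G] [Group.IsSolvable G],
    Nat.card G = n → ∀ (C : Subgroup G) (K : Nat.Primes → Subgroup G),
    Cfsg.IsCarterSubgroup C → Cfsg.IsComplementSystem K → ReducesInto K C →
    Cfsg.systemNormalizer K ≤ C := by
  intro n
  induction n using Nat.strong_induction_on with
  | _ n ih =>
  intro G _ _ _ hn C K hC hK hred
  by_cases hCtop : C = ⊤
  · rw [hCtop]; exact le_top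
  have hCar : IsCarter C := hC
  have htop : (⊤ : Subgroup G) ≠ ⊥ := by
    intro h
    apply hCtop
    rw [eq_top_iff, h]; exact bot_le
  obtain ⟨N, hNn, hN1, -, hNmin⟩ :=
    exists_minimal_normal_le (⊤ : Subgroup G) inferInstance htop
  haveI := hNn
  obtain ⟨hNcomm, p, hp, hexp⟩ := Cfsg.Agent.S0043.result N hN1 hNmin
  haveI : Fact p.Prime := ⟨hp⟩
  have hNp : IsPGroup p N := Cfsg.Agent.S0568.isPGroup_of_exp N hexp
  have hsub : ∀ L : Subgroup G, L ≠ ⊤ → ConjP L := fun L _ => (carter_main _ L rfl).2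
  have hπ := QuotientGroup.mk'_surjective N
  have hCbar : Cfsg.IsCarterSubgroup (C.map (QuotientGroup.mk' N)) :=
    isCarter_map hsub _ hπ hCar
  obtain ⟨hKbar, hDbar⟩ := Cfsg.Agent.S0545.result K hK N
  have hredbar := reducesInto_map hred N
  have hlt : Nat.card (G ⧸ N) < n := hn ▸ card_quot_lt N hN1
  have h1 := ih _ hlt (G ⧸ N) rfl _ _ hCbar hKbar hredbar
  rw [hDbar] at h1
  have hDL : Cfsg.systemNormalizer K ≤ C ⊔ N := by
    intro d hd
    have h2 : QuotientGroup.mk' N d ∈ C.map (QuotientGroup.mk' N) :=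
      h1 (Subgroup.mem_map_of_mem _ hd)
    have h3 : d ∈ (C.map (QuotientGroup.mk' N)).comap (QuotientGroup.mk' N) := h2
    rwa [Subgroup.comap_map_eq, QuotientGroup.ker_mk'] at h3
  by_cases hL : C ⊔ N = ⊤
  · -- final case
    have hNnorm : C ≤ Subgroup.normalizer (N : Set G) := by
      rw [Subgroup.normalizer_eq_top]; exact le_top
    have hdecomp : ∀ g : G, ∃ c ∈ C, ∃ x ∈ N, g = c * x := fun g =>
      exists_mul_of_mem_sup_of_le_normalizer hNnorm (hL ▸ Subgroup.mem_top g)
    have hNab : ∀ a ∈ N, ∀ b ∈ N, a * b = b * a := by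
      intro a ha b hb
      have h := hNcomm.is_comm.comm (⟨a, ha⟩ : N) ⟨b, hb⟩
      exact congrArg Subtype.val h
    have hCNn : (C ⊓ N).Normal := by
      constructor
      intro x hx g
      obtain ⟨c, hc, y, hy, rfl⟩ := hdecomp g
      have hxN : x ∈ N := hx.2
      have h1 : c * y * x * (c * y)⁻¹ = c * x * c⁻¹ := by
        have := hNab y hy x hxN
        calc c * y * x * (c * y)⁻¹ = c * (y * x) * y⁻¹ * c⁻¹ := by group
          _ = c * (x * y) * y⁻¹ * c⁻¹ := by rw [this]
          _ = c * x * c⁻¹ := by group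
      rw [h1]
      exact Subgroup.mem_inf.2 ⟨C.mul_mem (C.mul_mem hc hx.1) (C.inv_mem hc), hNn.conj_mem x hxN c⟩
    have hCN : C ⊓ N = ⊥ := by
      rcases hNmin (C ⊓ N) hCNn inf_le_right with h | h
      · exact h
      · exfalso; apply hCtop
        have : N ≤ C := by rw [← h]; exact inf_le_left
        rw [← hL]; exact (sup_eq_left.2 this).symm
    obtain ⟨Q, hQC, hCQ, hQcop, ⟨k, hk⟩, -⟩ := exists_normal_pcompl C hC.1 p
    have hQK : Q ≤ K ⟨p, hp⟩ := le_of_reducesInto hred ⟨p, hp⟩ hQC hQcop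
    obtain ⟨a, ha⟩ := (IsPGroup.iff_card).1 hNp
    have hCidx : ∃ b, C.index = p ^ b := by
      have h1 : C.relIndex (C ⊔ N) = C.relIndex N := relIndex_sup_of_le_normalizer C N hNnorm
      rw [hL, Subgroup.relIndex_top_right] at h1
      have h2 : C.relIndex N ∣ p ^ a := ha ▸ Subgroup.relIndex_dvd_card C N
      rw [← h1] at h2
      obtain ⟨b, -, hb⟩ := (Nat.dvd_prime_pow hp).1 h2
      exact ⟨b, hb⟩
    obtain ⟨b, hb⟩ := hCidx
    have hQidx : Q.index = p ^ (k + b) := by
      rw [← Subgroup.relIndex_mul_index hQC, hk, hb, pow_add]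
    have hKQ : K ⟨p, hp⟩ = Q := by
      have hnd : ¬ p ∣ Nat.card (K ⟨p, hp⟩) := not_dvd_card_of_index_eq p hp _ (hK ⟨p, hp⟩)
      exact le_antisymm (le_of_index_dvd_pow hp hQK (by rw [hQidx]) hnd) hQK
    have hQN : Q ⊓ N = ⊥ :=
      Subgroup.inf_eq_bot_of_coprime (by rw [ha]; exact Nat.Coprime.pow_right a hQcop)
    intro d hd
    have hdQ : d ∈ Subgroup.normalizer (Q : Set G) := by
      unfold Cfsg.systemNormalizer at hd
      rw [Subgroup.mem_iInf] at hd
      have := hd ⟨p, hp⟩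
      rwa [hKQ] at this
    obtain ⟨c, hc, y, hy, rfl⟩ := hdecomp d
    have hyQ : y ∈ Subgroup.normalizer (Q : Set G) := by
      have : y = c⁻¹ * (c * y) := by group
      rw [this]
      exact Subgroup.mul_mem _ (Subgroup.inv_mem _ (hCQ hc)) hdQ
    have hycent : ∀ x ∈ Q, y * x = x * y := by
      intro x hx
      have h1 : y * x * y⁻¹ * x⁻¹ ∈ Q ⊓ N := by
        refine Subgroup.mem_inf.2 ⟨Q.mul_mem ((Subgroup.mem_normalizer_iff.1 hyQ x).1 hx) (Q.inv_mem hx), ?_⟩
        have : y * x * y⁻¹ * x⁻¹ = y * (x * y⁻¹ * x⁻¹) := by group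
        rw [this]
        exact N.mul_mem hy (hNn.conj_mem _ (N.inv_mem hy) x)
      rw [hQN, Subgroup.mem_bot] at h1
      calc y * x = (y * x * y⁻¹ * x⁻¹) * (x * y) := by group
        _ = x * y := by rw [h1, one_mul]
    obtain ⟨M, hM⟩ : ∃ M : Subgroup G, M = N ⊓ Subgroup.centralizer (Q : Set G) := ⟨_, rfl⟩
    have hMn : M.Normal := by
      constructor
      intro m hm g
      rw [hM] at hm ⊢
      obtain ⟨c', hc', y', hy', rfl⟩ := hdecomp g
      have hmN : m ∈ N := hm.1
      have hmQ : m ∈ Subgroup.centralizer (Q : Set G) := hm.2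
      have h1 : c' * y' * m * (c' * y')⁻¹ = c' * m * c'⁻¹ := by
        have := hNab y' hy' m hmN
        calc c' * y' * m * (c' * y')⁻¹ = c' * (y' * m) * y'⁻¹ * c'⁻¹ := by group
          _ = c' * (m * y') * y'⁻¹ * c'⁻¹ := by rw [this]
          _ = c' * m * c'⁻¹ := by group
      rw [h1]
      refine Subgroup.mem_inf.2 ⟨hNn.conj_mem m hmN c', ?_⟩
      rw [Subgroup.mem_centralizer_iff]
      intro x hx
      have hx' : c'⁻¹ * x * c' ∈ Q := by
        have := (Subgroup.mem_normalizer_iff.1 (Subgroup.inv_mem _ (hCQ hc')) x).1 hx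
        simpa using this
      have h2 : (c'⁻¹ * x * c') * m = m * (c'⁻¹ * x * c') :=
        Subgroup.mem_centralizer_iff.1 hmQ _ hx'
      calc x * (c' * m * c'⁻¹) = c' * ((c'⁻¹ * x * c') * m) * c'⁻¹ := by group
        _ = c' * (m * (c'⁻¹ * x * c')) * c'⁻¹ := by rw [h2]
        _ = c' * m * c'⁻¹ * x := by group
    rcases hNmin M hMn (hM ▸ inf_le_left) with hM0 | hMN
    · have hyM : y ∈ M := by
        rw [hM]
        refine Subgroup.mem_inf.2 ⟨hy, ?_⟩
        rw [Subgroup.mem_centralizer_iff]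
        intro x hx
        exact (hycent x hx).symm
      rw [hM0, Subgroup.mem_bot] at hyM
      rw [hyM, mul_one]; exact hc
    · exfalso
      have hNQ : N ≤ Subgroup.centralizer (Q : Set G) := by
        rw [← hMN, hM]; exact inf_le_right
      have hQnormal : Q.Normal := by
        rw [← Subgroup.normalizer_eq_top_iff, eq_top_iff, ← hL]
        exact sup_le hCQ (hNQ.trans (Subgroup.centralizer_le_normalizer _))
      haveI := hQnormal
      haveI : Group.IsNilpotent (G ⧸ Q) := by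
        have : IsPGroup p (G ⧸ Q) :=
          IsPGroup.of_card (n := k + b) (by rw [← Subgroup.index_eq_card, hQidx])
        exact this.isNilpotent
      have h1 := carter_sup_ker_eq_top hsub (QuotientGroup.mk' Q)
        (QuotientGroup.mk'_surjective Q) hCar
      rw [QuotientGroup.ker_mk', sup_eq_left.2 hQC] at h1
      exact hCtop h1
  · -- descend to `C ⊔ N`
    obtain ⟨L, hLdef⟩ : ∃ L : Subgroup G, L = C ⊔ N := ⟨_, rfl⟩
    have hCL : C ≤ L := hLdef ▸ le_sup_left
    have hLtop : L ≠ ⊤ := hLdef ▸ hL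
    have hC' : Cfsg.IsCarterSubgroup (C.subgroupOf L) := isCarter_subgroupOf hCar hCL
    have hK' : Cfsg.IsComplementSystem (fun q => (K q).subgroupOf L) := by
      rw [hLdef]
      exact isComplementSystem_subgroupOf_sup K hK C N hC.1 hred p hNp
    have hred' : ReducesInto (fun q => (K q).subgroupOf L) (C.subgroupOf L) := by
      intro q x hx hcop
      rw [Subgroup.mem_subgroupOf] at hx
      show x ∈ (K q).subgroupOf L
      rw [Subgroup.mem_subgroupOf]
      apply hred q _ hx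
      rwa [Subgroup.orderOf_coe]
    have hltL : Nat.card L < n := hn ▸ card_lt_of_ne_top L hLtop
    have h2 := ih _ hltL L rfl _ _ hC' hK' hred'
    intro d hd
    have hdL : d ∈ L := hLdef ▸ hDL hd
    have h3 : (⟨d, hdL⟩ : L) ∈ Cfsg.systemNormalizer (fun q => (K q).subgroupOf L) := by
      unfold Cfsg.systemNormalizer at hd ⊢
      rw [Subgroup.mem_iInf] at hd ⊢
      intro q
      have hdq := hd q
      rw [Subgroup.mem_normalizer_iff] at hdq ⊢
      intro h
      rw [Subgroup.mem_subgroupOf, Subgroup.mem_subgroupOf]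
      exact hdq h
    have h4 := h2 h3
    rwa [Subgroup.mem_subgroupOf] at h4

/-- Every nilpotent subgroup has a complement system reducing into it. -/
theorem exists_reducesInto {G : Type u} [Group G] [Finite G] [Group.IsSolvable G]
    (C : Subgroup G) (hC : Group.IsNilpotent C) :
    ∃ K : Nat.Primes → Subgroup G, Cfsg.IsComplementSystem K ∧ ReducesInto K C := by
  have key : ∀ p : Nat.Primes, ∃ H : Subgroup G,
      H.index = (p : ℕ) ^ (Nat.card G).factorization p ∧
      ∀ x ∈ C, (orderOf x).Coprime p → x ∈ H := by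
    intro p
    haveI : Fact (p : ℕ).Prime := ⟨p.2⟩
    obtain ⟨Q, hQC, -, hQcop, -, hQall⟩ := exists_normal_pcompl C hC (p : ℕ)
    have hG : Nat.card G ≠ 0 := Nat.card_pos.ne'
    have hmn : Nat.card G = (Nat.card G / (p : ℕ) ^ (Nat.card G).factorization p) *
        (p : ℕ) ^ (Nat.card G).factorization p :=
      (Nat.div_mul_cancel (Nat.ordProj_dvd _ _)).symm
    have hcop : (Nat.card G / (p : ℕ) ^ (Nat.card G).factorization p).Coprime
        ((p : ℕ) ^ (Nat.card G).factorization p) :=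
      (Nat.Coprime.pow_left _ (Nat.coprime_ordCompl p.2 hG)).symm
    obtain ⟨-, -, h3⟩ := hall_all _ G rfl _ _ hmn hcop
    obtain ⟨H, hH, hQH⟩ := h3 Q (Nat.Coprime.pow_right _ hQcop)
    refine ⟨H, ?_, fun x hx hcop' => hQH (hQall x hx hcop')⟩
    have h1 := H.card_mul_index
    rw [hH] at h1
    have hpos : 0 < Nat.card G / (p : ℕ) ^ (Nat.card G).factorization p :=
      Nat.div_pos (Nat.le_of_dvd Nat.card_pos (Nat.ordProj_dvd _ _)) (pow_pos p.2.pos _)
    exact Nat.eq_of_mul_eq_mul_left hpos (h1.trans hmn)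
  choose K hK1 hK2 using key
  exact ⟨K, hK1, hK2⟩

end Cfsg.Agent.Lib.Helper2
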