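import Mathlib
import Cfsg.Prelude.Def_ChevStructure
import Cfsg.Prelude.Def_LieTypes
import Cfsg.Prelude.Def_ChevB2

set_option autoImplicit false

namespace Cfsg.Agent.Lib.Helper2

open Cfsg.Lie

set_option maxRecDepth 100000 in
theorem negok_G2 : ∀ r < chevG2.nroots, chevG2.negIdx.getD r 0 < chevG2.nroots ∧ chevG2.negIdx.getD r 0 ≠ r := by
  decide

set_option maxRecDepth 100000 in
theorem negok_B2 : ∀ r < chevB2.nroots, chevB2.negIdx.getD r 0 < chevB2.nroots ∧ chevB2.negIdx.getD r 0 ≠ r := by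
  decide

set_option maxRecDepth 100000 in
theorem negok_D4 : ∀ r < chevD4.nroots, chevD4.negIdx.getD r 0 < chevD4.nroots ∧ chevD4.negIdx.getD r 0 ≠ r := by
  decide

set_option maxRecDepth 100000 in
theorem negok_F4 : ∀ r < chevF4.nroots, chevF4.negIdx.getD r 0 < chevF4.nroots ∧ chevF4.negIdx.getD r 0 ≠ r := by
  decide

set_option maxRecDepth 100000 in
theorem negok_E6 : ∀ r < chevE6.nroots, chevE6.negIdx.getD r 0 < chevE6.nroots ∧ chevE6.negIdx.getD r 0 ≠ r := by
  decide

set_option maxRecDepth 100000 in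
theorem negok_E7 : ∀ r < chevE7.nroots, chevE7.negIdx.getD r 0 < chevE7.nroots ∧ chevE7.negIdx.getD r 0 ≠ r := by
  decide

set_option maxRecDepth 100000 in
theorem negok_E8 : ∀ r < chevE8.nroots, chevE8.negIdx.getD r 0 < chevE8.nroots ∧ chevE8.negIdx.getD r 0 ≠ r := by
  decide

theorem negok_of_mem (D : ChevalleyDatum)
    (hD : D ∈ [chevG2, chevB2, chevD4, chevF4, chevE6, chevE7, chevE8]) :
    ∀ r < D.nroots, D.negIdx.getD r 0 < D.nroots ∧ D.negIdx.getD r 0 ≠ r := by
  simp only [List.mem_cons, List.not_mem_nil, or_false] at hD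
  rcases hD with rfl | rfl | rfl | rfl | rfl | rfl | rfl
  · exact negok_G2
  · exact negok_B2
  · exact negok_D4
  · exact negok_F4
  · exact negok_E6
  · exact negok_E7
  · exact negok_E8

end Cfsg.Agent.Lib.Helper2
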