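import Mathlib
import Cfsg.Prelude.Def_ChevStructure
import Cfsg.Prelude.Def_LieTypes
import Cfsg.Prelude.Def_ChevB2

set_option autoImplicit false

namespace Cfsg.Agent.Lib.Helper2

open Cfsg.Lie

set_option maxRecDepth 100000 in
theorem posneg_G2 : ∀ r < chevG2.nroots, chevG2.IsPosRoot r ∨ chevG2.IsNegRoot r := by
  decide

set_option maxRecDepth 100000 in
theorem posneg_B2 : ∀ r < chevB2.nroots, chevB2.IsPosRoot r ∨ chevB2.IsNegRoot r := by
  decide

set_option maxRecDepth 100000 in
theorem posneg_D4 : ∀ r < chevD4.nroots, chevD4.IsPosRoot r ∨ chevD4.IsNegRoot r := by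
  decide

set_option maxRecDepth 100000 in
theorem posneg_F4 : ∀ r < chevF4.nroots, chevF4.IsPosRoot r ∨ chevF4.IsNegRoot r := by
  decide

set_option maxRecDepth 100000 in
theorem posneg_E6 : ∀ r < chevE6.nroots, chevE6.IsPosRoot r ∨ chevE6.IsNegRoot r := by
  decide

set_option maxRecDepth 100000 in
theorem posneg_E7 : ∀ r < chevE7.nroots, chevE7.IsPosRoot r ∨ chevE7.IsNegRoot r := by
  decide

set_option maxRecDepth 100000 in
theorem posneg_E8 : ∀ r < chevE8.nroots, chevE8.IsPosRoot r ∨ chevE8.IsNegRoot r := by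
  decide

theorem posneg_of_mem (D : ChevalleyDatum)
    (hD : D ∈ [chevG2, chevB2, chevD4, chevF4, chevE6, chevE7, chevE8]) :
    ∀ r < D.nroots, D.IsPosRoot r ∨ D.IsNegRoot r := by
  simp only [List.mem_cons, List.not_mem_nil, or_false] at hD
  rcases hD with rfl | rfl | rfl | rfl | rfl | rfl | rfl
  · exact posneg_G2
  · exact posneg_B2
  · exact posneg_D4
  · exact posneg_F4
  · exact posneg_E6
  · exact posneg_E7
  · exact posneg_E8

end Cfsg.Agent.Lib.Helper2
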