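import Mathlib

set_option autoImplicit false
set_option linter.style.haveILetI false

namespace Cfsg.Agent.Lib.Helper2

variable {G : Type*} [Group G]

theorem orderOf_conj_eq (c g : G) : orderOf (c * g * c⁻¹) = orderOf g :=
  orderOf_injective (MulAut.conj c).toMonoidHom (MulAut.conj c).injective g

theorem orderOf_eq_of_isConj {a b : G} (h : IsConj a b) : orderOf a = orderOf b := by
  obtain ⟨c, rfl⟩ := isConj_iff.1 h
  exact (orderOf_conj_eq c a).symm

/-- class equation for a single class -/
theorem card_class_mul_card_centralizer [Finite G] (g : G) :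
    Nat.card {h : G // ConjClasses.mk h = ConjClasses.mk g} * Nat.card (Subgroup.centralizer ({g} : Set G))
      = Nat.card G := by
  classical
  haveI : Fintype G := Fintype.ofFinite G
  haveI : Fintype (ConjAct G) := Fintype.ofFinite _
  rw [Subgroup.nat_card_centralizer_nat_card_stabilizer]
  have h1 := MulAction.card_orbit_mul_card_stabilizer_eq_card_group (ConjAct G) g
  rw [← Nat.card_eq_fintype_card, ← Nat.card_eq_fintype_card, ← Nat.card_eq_fintype_card] at h1
  have h2 : Nat.card (ConjAct G) = Nat.card G := rfl
  rw [h2] at h1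
  rw [← h1]
  congr 1
  apply Nat.card_congr
  apply Equiv.subtypeEquivRight
  intro h
  rw [ConjAct.mem_orbit_conjAct, ConjClasses.mk_eq_mk_iff_isConj]

theorem centralizer_singleton_eq_of_zpowers_eq {a b : G}
    (h : Subgroup.zpowers a = Subgroup.zpowers b) :
    Subgroup.centralizer ({a} : Set G) = Subgroup.centralizer ({b} : Set G) := by
  have key : ∀ a b : G, b ∈ Subgroup.zpowers a →
      Subgroup.centralizer ({a} : Set G) ≤ Subgroup.centralizer ({b} : Set G) := by
    intro a b hb y hy
    rw [Subgroup.mem_centralizer_iff] at hy ⊢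
    intro x hx
    rw [Set.mem_singleton_iff] at hx
    subst hx
    obtain ⟨k, rfl⟩ := Subgroup.mem_zpowers_iff.1 hb
    have hc : Commute a y := hy a rfl
    exact (hc.zpow_left k)
  apply le_antisymm
  · exact key a b (by rw [h]; exact Subgroup.mem_zpowers b)
  · exact key b a (by rw [← h]; exact Subgroup.mem_zpowers a)

end Cfsg.Agent.Lib.Helper2
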