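import Mathlib

set_option autoImplicit false
set_option linter.style.haveILetI false

namespace Cfsg.Agent.Lib.Helper2

/-- An element of order prime to `q` that normalizes an abelian `q`-group `Q` and centralizes
all elements of order dividing `q` centralizes `Q`. -/
theorem commute_of_commute_omega {G : Type*} [Group G] (Q : Subgroup G) [hQn : Q.Normal]
    (hQc : IsMulCommutative Q) {q : ℕ} (hQ : IsPGroup q Q) (x : G)
    (hx : (orderOf x).Coprime q) (hΩ : ∀ y ∈ Q, y ^ q = 1 → x * y = y * x) :
    ∀ y ∈ Q, x * y = y * x := by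
  have hcomm : ∀ a ∈ Q, ∀ b ∈ Q, a * b = b * a := by
    intro a ha b hb
    have h0 := hQc.is_comm.comm (⟨a, ha⟩ : Q) ⟨b, hb⟩
    exact congrArg Subtype.val h0
  have key : ∀ k : ℕ, ∀ y ∈ Q, y ^ (q ^ k) = 1 → x * y = y * x := by
    intro k
    induction k with
    | zero =>
      intro y _ hy
      rw [pow_zero, pow_one] at hy
      rw [hy, mul_one, one_mul]
    | succ k ih =>
      intro y hy hyk
      have hyq : y ^ q ∈ Q := Q.pow_mem hy q
      have h1 : x * y ^ q = y ^ q * x :=
        ih (y ^ q) hyq (by rw [← pow_mul, ← pow_succ']; exact hyk)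
      set z := y⁻¹ * (x * y * x⁻¹) with hz
      have hxy : x * y * x⁻¹ ∈ Q := hQn.conj_mem y hy x
      have hzQ : z ∈ Q := Q.mul_mem (Q.inv_mem hy) hxy
      have hzq : z ^ q = 1 := by
        have hc : Commute y⁻¹ (x * y * x⁻¹) := hcomm _ (Q.inv_mem hy) _ hxy
        rw [hz, hc.mul_pow, inv_pow, conj_pow, h1]
        group
      have hxz : x * z = z * x := hΩ z hzQ hzq
      have hxyx : x * y = y * z * x := by rw [hz]; group
      have hpow : ∀ n : ℕ, x ^ n * y = y * z ^ n * x ^ n := by
        intro n
        induction n with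
        | zero => simp
        | succ n ihn =>
          have hxzn : x * z ^ n = z ^ n * x := Commute.pow_right hxz n
          calc x ^ (n + 1) * y = x * (x ^ n * y) := by rw [pow_succ']; group
            _ = x * (y * z ^ n * x ^ n) := by rw [ihn]
            _ = (x * y) * z ^ n * x ^ n := by group
            _ = (y * z * x) * z ^ n * x ^ n := by rw [hxyx]
            _ = y * z * (x * z ^ n) * x ^ n := by group
            _ = y * z * (z ^ n * x) * x ^ n := by rw [hxzn]
            _ = y * z ^ (n + 1) * x ^ (n + 1) := by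
              rw [pow_succ' z, pow_succ' x]; simp only [mul_assoc]
      have h2 := hpow (orderOf x)
      rw [pow_orderOf_eq_one, one_mul, mul_one] at h2
      have h3 : z ^ orderOf x = 1 := by
        have h0 : y * 1 = y * z ^ orderOf x := by rw [mul_one]; exact h2
        exact (mul_left_cancel h0).symm
      have h4 : orderOf z ∣ orderOf x := orderOf_dvd_of_pow_eq_one h3
      have h5 : orderOf z ∣ q := orderOf_dvd_of_pow_eq_one hzq
      have h6 : orderOf z = 1 := Nat.eq_one_of_dvd_coprimes hx h4 h5
      rw [orderOf_eq_one_iff] at h6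
      rw [hxyx, h6, mul_one]
  intro y hy
  obtain ⟨k, hk⟩ := hQ ⟨y, hy⟩
  exact key k y hy (by simpa using congrArg Subtype.val hk)

end Cfsg.Agent.Lib.Helper2
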