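import Mathlib

set_option autoImplicit false
set_option linter.style.haveILetI false

namespace Cfsg.Agent.Lib.Helper2

variable {G : Type*} [Group G]

/-- If `X` is normal, `Y` is normal with `Y ⊔ U = ⊤`, and `Y` commutes elementwise with `X`,
then `X ⊓ U` is normal; hence trivial when `U` is core-free. -/
theorem inf_eq_bot_of_corefree (U X Y : Subgroup G) [X.Normal] [Y.Normal]
    (hYU : Y ⊔ U = ⊤) (hcomm : ∀ x ∈ X, ∀ y ∈ Y, x * y = y * x)
    (hcore : U.normalCore = ⊥) : X ⊓ U = ⊥ := by
  have hn : (X ⊓ U).Normal := by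
    refine ⟨?_⟩
    intro x hx g
    have hg : g ∈ Y ⊔ U := by rw [hYU]; exact Subgroup.mem_top g
    obtain ⟨y, hy, u, hu, rfl⟩ := Subgroup.mem_sup_of_normal_left.1 hg
    have h1 : u * x * u⁻¹ ∈ X := Subgroup.Normal.conj_mem inferInstance x hx.1 u
    have h2 : u * x * u⁻¹ ∈ U := U.mul_mem (U.mul_mem hu hx.2) (U.inv_mem hu)
    have h3 : y * u * x * (y * u)⁻¹ = u * x * u⁻¹ := by
      have := hcomm _ h1 y hy
      calc y * u * x * (y * u)⁻¹ = y * (u * x * u⁻¹) * y⁻¹ := by group
        _ = (u * x * u⁻¹) * y * y⁻¹ := by rw [this]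
        _ = u * x * u⁻¹ := by group
    rw [h3]
    exact ⟨h1, h2⟩
  have hle : X ⊓ U ≤ U.normalCore := (Subgroup.normal_le_normalCore).2 inf_le_right
  rw [hcore] at hle
  exact le_bot_iff.1 hle

/-- Two subgroups that are complements (in the join sense) to the same normal subgroup are
isomorphic. -/
theorem nonempty_mulEquiv_of_common_complement (N H K : Subgroup G) [N.Normal]
    (hH : H ⊓ N = ⊥) (hK : K ⊓ N = ⊥) (hsup : H ⊔ N = K ⊔ N) : Nonempty (H ≃* K) := by
  let f : H →* G ⧸ N := (QuotientGroup.mk' N).comp H.subtype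
  let g : K →* G ⧸ N := (QuotientGroup.mk' N).comp K.subtype
  have hf : Function.Injective f := by
    rw [injective_iff_map_eq_one]
    intro h hh
    have h1 : (h : G) ∈ N := by
      have : (QuotientGroup.mk' N) (h : G) = 1 := hh
      rwa [QuotientGroup.mk'_apply, QuotientGroup.eq_one_iff] at this
    have h2 : (h : G) ∈ H ⊓ N := ⟨h.2, h1⟩
    rw [hH, Subgroup.mem_bot] at h2
    exact Subtype.ext h2
  have hg : Function.Injective g := by
    rw [injective_iff_map_eq_one]
    intro h hh
    have h1 : (h : G) ∈ N := by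
      have : (QuotientGroup.mk' N) (h : G) = 1 := hh
      rwa [QuotientGroup.mk'_apply, QuotientGroup.eq_one_iff] at this
    have h2 : (h : G) ∈ K ⊓ N := ⟨h.2, h1⟩
    rw [hK, Subgroup.mem_bot] at h2
    exact Subtype.ext h2
  have hfr : f.range = (H ⊔ N).map (QuotientGroup.mk' N) := by
    rw [MonoidHom.range_comp, Subgroup.range_subtype, Subgroup.map_sup, QuotientGroup.map_mk'_self,
      sup_bot_eq]
  have hgr : g.range = (K ⊔ N).map (QuotientGroup.mk' N) := by
    rw [MonoidHom.range_comp, Subgroup.range_subtype, Subgroup.map_sup, QuotientGroup.map_mk'_self,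
      sup_bot_eq]
  have hrange : f.range = g.range := by rw [hfr, hgr, hsup]
  exact ⟨(MonoidHom.ofInjective hf).trans
    ((MulEquiv.subgroupCongr hrange).trans (MonoidHom.ofInjective hg).symm)⟩

end Cfsg.Agent.Lib.Helper2
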