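import Mathlib

set_option autoImplicit false
set_option linter.style.haveILetI false

namespace Cfsg.Agent.Lib.Helper2

universe u

variable {G : Type u} [Group G]

/-- The commutator subgroup centralizes every cyclic normal subgroup. -/
theorem commutator_le_centralizer_of_cyclic_normal (N : Subgroup G) [N.Normal] [IsCyclic N] :
    commutator G ≤ Subgroup.centralizer (N : Set G) := by
  let φ : G →* MulAut N := MulAut.conjNormal
  let ψ : G →* (ZMod (Nat.card N))ˣ := (IsCyclic.mulAutMulEquiv N).toMonoidHom.comp φ
  have h1 : commutator G ≤ ψ.ker := Abelianization.commutator_subset_ker ψ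
  intro y hy
  have h2 : ψ y = 1 := MonoidHom.mem_ker.1 (h1 hy)
  have h3 : φ y = 1 := by
    have : (IsCyclic.mulAutMulEquiv N) (φ y) = (IsCyclic.mulAutMulEquiv N) 1 := by
      rw [map_one]; exact h2
    exact (IsCyclic.mulAutMulEquiv N).injective this
  rw [Subgroup.mem_centralizer_iff]
  intro x hx
  have h4 : (φ y ⟨x, hx⟩ : G) = y * x * y⁻¹ := MulAut.conjNormal_apply y ⟨x, hx⟩
  rw [h3] at h4
  simp only [MulAut.one_apply] at h4
  calc x * y = (y * x * y⁻¹) * y := by rw [← h4]
    _ = y * x := by group

end Cfsg.Agent.Lib.Helper2
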