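import Mathlib
import Cfsg.Prelude.Def_Transfer

set_option autoImplicit false
set_option linter.style.haveILetI false

namespace Cfsg.Agent.Lib.Helper2

universe u v

variable {G : Type u} [Group G]

theorem isMulCommutative_iff_forall_mem (A : Subgroup G) :
    IsMulCommutative A ↔ ∀ x ∈ A, ∀ y ∈ A, x * y = y * x := by
  rw [isMulCommutative_iff]
  constructor
  · intro h x hx y hy
    exact congrArg Subtype.val (h ⟨x, hx⟩ ⟨y, hy⟩)
  · intro h x y
    exact Subtype.ext (h x x.2 y y.2)

theorem isElementaryAbelian_iff (p : ℕ) (A : Subgroup G) :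
    Cfsg.IsElementaryAbelian p A ↔ (∀ x ∈ A, ∀ y ∈ A, x * y = y * x) ∧ ∀ a ∈ A, a ^ p = 1 := by
  unfold Cfsg.IsElementaryAbelian
  rw [isMulCommutative_iff_forall_mem]

theorem isElementaryAbelian_bot (p : ℕ) : Cfsg.IsElementaryAbelian p (⊥ : Subgroup G) := by
  rw [isElementaryAbelian_iff]
  constructor
  · intro x hx y hy
    rw [Subgroup.mem_bot] at hx hy
    rw [hx, hy]
  · intro a ha
    rw [Subgroup.mem_bot] at ha
    rw [ha, one_pow]

theorem ea_mono {p : ℕ} {A B : Subgroup G} (hA : Cfsg.IsElementaryAbelian p A)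
    (hBA : B ≤ A) : Cfsg.IsElementaryAbelian p B := by
  rw [isElementaryAbelian_iff] at hA ⊢
  exact ⟨fun x hx y hy => hA.1 x (hBA hx) y (hBA hy), fun a ha => hA.2 a (hBA ha)⟩

theorem ea_map {p : ℕ} {A : Subgroup G} (hA : Cfsg.IsElementaryAbelian p A)
    {G' : Type v} [Group G'] (f : G →* G') : Cfsg.IsElementaryAbelian p (A.map f) := by
  rw [isElementaryAbelian_iff] at hA ⊢
  constructor
  · rintro _ ⟨x, hx, rfl⟩ _ ⟨y, hy, rfl⟩
    rw [← map_mul, ← map_mul, hA.1 x hx y hy]
  · rintro _ ⟨a, ha, rfl⟩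
    rw [← map_pow, hA.2 a ha, map_one]

theorem ea_comap_of_injective {p : ℕ} {G' : Type v} [Group G'] {B : Subgroup G'}
    (hB : Cfsg.IsElementaryAbelian p B) (f : G →* G') (hf : Function.Injective f) :
    Cfsg.IsElementaryAbelian p (B.comap f) := by
  rw [isElementaryAbelian_iff] at hB ⊢
  constructor
  · intro x hx y hy
    apply hf
    rw [map_mul, map_mul]
    exact hB.1 _ hx _ hy
  · intro a ha
    apply hf
    rw [map_pow, map_one]
    exact hB.2 _ ha

theorem ea_subgroupOf {p : ℕ} {B : Subgroup G}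
    (hB : Cfsg.IsElementaryAbelian p B) (U : Subgroup G) :
    Cfsg.IsElementaryAbelian p (B.subgroupOf U) :=
  ea_comap_of_injective hB U.subtype U.subtype_injective

theorem ea_isPGroup {p : ℕ} [Fact p.Prime] {A : Subgroup G}
    (hA : Cfsg.IsElementaryAbelian p A) : IsPGroup p A := by
  intro a
  refine ⟨1, ?_⟩
  rw [pow_one]
  apply Subtype.ext
  rw [Subgroup.coe_pow]
  exact hA.2 a a.2

/-- The join of two elementwise commuting elementary abelian subgroups is elementary abelian. -/
theorem ea_sup {p : ℕ} {A B : Subgroup G} (hA : Cfsg.IsElementaryAbelian p A)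
    (hB : Cfsg.IsElementaryAbelian p B) (hAB : ∀ a ∈ A, ∀ b ∈ B, a * b = b * a) :
    Cfsg.IsElementaryAbelian p (A ⊔ B) := by
  rw [isElementaryAbelian_iff] at hA hB ⊢
  set E := A ⊔ B with hE
  have hAcE : A ≤ Subgroup.centralizer (E : Set G) := by
    rw [Subgroup.le_centralizer_iff]
    apply sup_le
    · intro x hx
      rw [Subgroup.mem_centralizer_iff]
      intro y hy
      exact hA.1 y hy x hx
    · intro x hx
      rw [Subgroup.mem_centralizer_iff]
      intro y hy
      exact hAB y hy x hx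
  have hBcE : B ≤ Subgroup.centralizer (E : Set G) := by
    rw [Subgroup.le_centralizer_iff]
    apply sup_le
    · intro x hx
      rw [Subgroup.mem_centralizer_iff]
      intro y hy
      exact (hAB x hx y hy).symm
    · intro x hx
      rw [Subgroup.mem_centralizer_iff]
      intro y hy
      exact hB.1 y hy x hx
  have hEc : E ≤ Subgroup.centralizer (E : Set G) := sup_le hAcE hBcE
  have hcomm : ∀ x ∈ E, ∀ y ∈ E, x * y = y * x := by
    intro x hx y hy
    exact ((Subgroup.mem_centralizer_iff.1 (hEc hy)) x hx)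
  refine ⟨hcomm, ?_⟩
  let K : Subgroup G :=
    { carrier := {x | x ∈ E ∧ x ^ p = 1}
      one_mem' := ⟨E.one_mem, one_pow p⟩
      mul_mem' := by
        rintro x y ⟨hx, hxp⟩ ⟨hy, hyp⟩
        refine ⟨E.mul_mem hx hy, ?_⟩
        have hc : Commute x y := hcomm x hx y hy
        rw [hc.mul_pow, hxp, hyp, one_mul]
      inv_mem' := by
        rintro x ⟨hx, hxp⟩
        exact ⟨E.inv_mem hx, by rw [inv_pow, hxp, inv_one]⟩ }
  have hEK : E ≤ K := by
    apply sup_le
    · intro a ha
      exact ⟨(le_sup_left : A ≤ E) ha, hA.2 a ha⟩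
    · intro b hb
      exact ⟨(le_sup_right : B ≤ E) hb, hB.2 b hb⟩
  intro a ha
  exact (hEK ha).2

theorem isElementaryAbelian_zpowers {p : ℕ} {x : G} (hx : x ^ p = 1) :
    Cfsg.IsElementaryAbelian p (Subgroup.zpowers x) := by
  rw [isElementaryAbelian_iff]
  constructor
  · intro a ha b hb
    obtain ⟨m, rfl⟩ := Subgroup.mem_zpowers_iff.1 ha
    obtain ⟨n, rfl⟩ := Subgroup.mem_zpowers_iff.1 hb
    exact ((Commute.refl x).zpow_zpow m n).eq
  · intro a ha
    obtain ⟨m, rfl⟩ := Subgroup.mem_zpowers_iff.1 ha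
    rw [← zpow_natCast, ← zpow_mul, mul_comm, zpow_mul, zpow_natCast, hx, one_zpow]

/-- In a finite group there is an elementary abelian subgroup of largest order. -/
theorem exists_maxElementaryAbelian (p : ℕ) (G : Type u) [Group G] [Finite G] :
    ∃ A : Subgroup G, A ∈ Cfsg.maxElementaryAbelianSubgroups p G := by
  haveI : Nonempty {A : Subgroup G // Cfsg.IsElementaryAbelian p A} :=
    ⟨⟨⊥, isElementaryAbelian_bot p⟩⟩
  obtain ⟨A, hA⟩ := Finite.exists_max
    (fun A : {A : Subgroup G // Cfsg.IsElementaryAbelian p A} => Nat.card (A : Subgroup G))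
  exact ⟨A.1, A.2, fun B hB => hA ⟨B, hB⟩⟩

theorem le_thompsonSubgroup {p : ℕ} {A : Subgroup G}
    (hA : A ∈ Cfsg.maxElementaryAbelianSubgroups p G) : A ≤ Cfsg.thompsonSubgroup p G :=
  le_sSup hA

/-- All members of `maxElementaryAbelianSubgroups` have the same order. -/
theorem card_eq_of_mem_max {p : ℕ} {A B : Subgroup G}
    (hA : A ∈ Cfsg.maxElementaryAbelianSubgroups p G)
    (hB : B ∈ Cfsg.maxElementaryAbelianSubgroups p G) : Nat.card A = Nat.card B :=
  le_antisymm (hB.2 A hA.1) (hA.2 B hB.1)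

end Cfsg.Agent.Lib.Helper2
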