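import Cfsg.Agent.Lib.Helper2.EA

set_option autoImplicit false
set_option linter.style.haveILetI false

namespace Cfsg.Agent.Lib.Helper2

universe u

variable {G : Type u} [Group G]

theorem card_subgroupOf_of_le {A U : Subgroup G} (h : A ≤ U) :
    Nat.card (A.subgroupOf U) = Nat.card A :=
  Nat.card_congr (Subgroup.subgroupOfEquivOfLe h).toEquiv

/-- A largest elementary abelian subgroup of `G` contained in `U` is a largest one of `U`. -/
theorem subgroupOf_mem_max {p : ℕ} {A U : Subgroup G}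
    (hA : A ∈ Cfsg.maxElementaryAbelianSubgroups p G) (hAU : A ≤ U) :
    A.subgroupOf U ∈ Cfsg.maxElementaryAbelianSubgroups p U := by
  refine ⟨ea_subgroupOf hA.1 U, ?_⟩
  intro B hB
  rw [card_subgroupOf_of_le hAU, ← Subgroup.card_subtype U B]
  exact hA.2 _ (ea_map hB U.subtype)

/-- If `U` contains some largest elementary abelian subgroup of `G`, then the largest
elementary abelian subgroups of `U` are largest in `G`. -/
theorem map_mem_max {p : ℕ} {A₀ U : Subgroup G}
    (hA₀ : A₀ ∈ Cfsg.maxElementaryAbelianSubgroups p G) (hA₀U : A₀ ≤ U)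
    {A' : Subgroup U} (hA' : A' ∈ Cfsg.maxElementaryAbelianSubgroups p U) :
    A'.map U.subtype ∈ Cfsg.maxElementaryAbelianSubgroups p G := by
  refine ⟨ea_map hA'.1 U.subtype, ?_⟩
  intro B hB
  rw [Subgroup.card_subtype]
  have h1 : Nat.card (A₀.subgroupOf U) ≤ Nat.card A' := hA'.2 _ (ea_subgroupOf hA₀.1 U)
  rw [card_subgroupOf_of_le hA₀U] at h1
  exact (hA₀.2 B hB).trans h1

/-- If `U` contains some largest elementary abelian subgroup of `G`, then `J(U) ≤ J(G)`. -/
theorem thompsonSubgroupOf_le {p : ℕ} {A₀ U : Subgroup G}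
    (hA₀ : A₀ ∈ Cfsg.maxElementaryAbelianSubgroups p G) (hA₀U : A₀ ≤ U) :
    Cfsg.thompsonSubgroupOf p U ≤ Cfsg.thompsonSubgroup p G := by
  unfold Cfsg.thompsonSubgroupOf
  rw [Subgroup.map_le_iff_le_comap]
  unfold Cfsg.thompsonSubgroup
  apply sSup_le
  intro A' hA'
  rw [← Subgroup.map_le_iff_le_comap]
  exact le_sSup (map_mem_max hA₀ hA₀U hA')

theorem le_thompsonSubgroupOf {p : ℕ} {A U : Subgroup G}
    (hA : A ∈ Cfsg.maxElementaryAbelianSubgroups p G) (hAU : A ≤ U) :
    A ≤ Cfsg.thompsonSubgroupOf p U := by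
  unfold Cfsg.thompsonSubgroupOf
  rw [← Subgroup.map_subgroupOf_eq_of_le hAU]
  apply Subgroup.map_mono
  exact le_thompsonSubgroup (subgroupOf_mem_max hA hAU)

end Cfsg.Agent.Lib.Helper2

namespace Cfsg.Agent.Lib.Helper2

universe u

variable {G : Type u} [Group G]

/-- An element of order dividing `p` commuting with a largest elementary abelian subgroup
belongs to it. -/
theorem mem_of_mem_max_of_commute [Finite G] {p : ℕ} {A : Subgroup G}
    (hA : A ∈ Cfsg.maxElementaryAbelianSubgroups p G) {x : G} (hxp : x ^ p = 1)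
    (hx : ∀ a ∈ A, a * x = x * a) : x ∈ A := by
  have hcomm : ∀ a ∈ A, ∀ b ∈ Subgroup.zpowers x, a * b = b * a := by
    intro a ha b hb
    obtain ⟨m, rfl⟩ := Subgroup.mem_zpowers_iff.1 hb
    have h2 : Commute a x := hx a ha
    exact (h2.zpow_right m).eq
  have hE := ea_sup hA.1 (isElementaryAbelian_zpowers hxp) hcomm
  have hcard : Nat.card (A ⊔ Subgroup.zpowers x : Subgroup G) ≤ Nat.card A := hA.2 _ hE
  have heq : A = A ⊔ Subgroup.zpowers x := Subgroup.eq_of_le_of_card_ge le_sup_left hcard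
  rw [heq]
  exact (le_sup_right : Subgroup.zpowers x ≤ A ⊔ Subgroup.zpowers x) (Subgroup.mem_zpowers x)

end Cfsg.Agent.Lib.Helper2
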