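import Mathlib

/-! Eigenvectors for automorphisms of exponent dividing `p - 1` of elementary abelian `p`-groups,
and the automorphisms induced on a normal subgroup of prime order. -/

set_option autoImplicit false
set_option linter.style.haveILetI false

namespace Cfsg.Agent.Lib.Helper2

open Polynomial

theorem exists_eigenvector_of_pow_eq_self {p : ℕ} [hp : Fact p.Prime] {V : Type*}
    [AddCommGroup V] [Module (ZMod p) V] [Finite V] [Nontrivial V]
    (T : V →ₗ[ZMod p] V) (hT : T ^ p = T) : ∃ (μ : ZMod p) (v : V), v ≠ 0 ∧ T v = μ • v := by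
  haveI : Module.Finite (ZMod p) V := Module.Finite.of_finite
  have hdvd : minpoly (ZMod p) T ∣ (X ^ p - X : (ZMod p)[X]) := by
    apply minpoly.dvd
    simp [hT]
  have hsp := (GaloisField.splits_zmod_X_pow_sub_X p).of_dvd
    (FiniteField.X_pow_card_sub_X_ne_zero _ hp.out.one_lt) hdvd
  have hint : IsIntegral (ZMod p) T := Algebra.IsIntegral.isIntegral T
  have hdeg : (minpoly (ZMod p) T).degree ≠ 0 := (minpoly.degree_pos hint).ne'
  obtain ⟨μ, hμ⟩ := hsp.exists_eval_eq_zero hdeg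
  have hev : Module.End.HasEigenvalue T μ := Module.End.hasEigenvalue_of_isRoot hμ
  obtain ⟨v, hv⟩ := hev.exists_hasEigenvector
  exact ⟨μ, v, hv.2, hv.apply_eq_smul⟩

theorem exists_eigen_of_addMonoidHom {p : ℕ} [hp : Fact p.Prime] {V : Type*} [AddCommGroup V]
    [Module (ZMod p) V] [Finite V] [Nontrivial V] (f : V →+ V)
    (hf : ∀ x, (f^[p]) x = f x) : ∃ (r : ℕ) (v : V), v ≠ 0 ∧ f v = r • v := by
  let T : Module.End (ZMod p) V := f.toZModLinearMap p
  have hTapp : ∀ x : V, T x = f x := fun x => rfl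
  have hcoe : (⇑T : V → V) = ⇑f := rfl
  have hT : T ^ p = T := by
    apply LinearMap.ext
    intro x
    rw [Module.End.pow_apply, hcoe, hf]
  obtain ⟨μ, v, hv, hTv⟩ := exists_eigenvector_of_pow_eq_self T hT
  refine ⟨μ.val, v, hv, ?_⟩
  have h1 : μ • v = μ.val • v := by
    conv_lhs => rw [← ZMod.natCast_zmod_val μ]
    exact Nat.cast_smul_eq_nsmul (ZMod p) μ.val v
  rw [h1, hTapp] at hTv
  exact hTv

/-- An endomorphism `f` with `f^p = f` of a nontrivial finite abelian group of exponent `p`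
has an eigenvector. -/
theorem exists_eigen_of_commGroup {p : ℕ} [hp : Fact p.Prime] {N : Type*} [CommGroup N]
    [Finite N] [Nontrivial N] (hexp : ∀ x : N, x ^ p = 1) (f : N →* N)
    (hf : ∀ x, (f^[p]) x = f x) : ∃ (r : ℕ) (v : N), v ≠ 1 ∧ f v = v ^ r := by
  have hexp' : ∀ x : Additive N, p • x = 0 := fun x => by
    show Additive.ofMul (x.toMul ^ p) = 0
    rw [hexp]; rfl
  have hiter : ∀ (k : ℕ) (x : Additive N),
      ((MonoidHom.toAdditive f)^[k]) x = Additive.ofMul ((f^[k]) x.toMul) := by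
    intro k
    induction k with
    | zero => intro x; rfl
    | succ k ih =>
      intro x
      rw [Function.iterate_succ_apply', Function.iterate_succ_apply', ih]
      rfl
  obtain ⟨r, v, hv, hfv⟩ := @exists_eigen_of_addMonoidHom p hp (Additive N) _
    (AddCommGroup.zmodModule hexp') _ _ (MonoidHom.toAdditive f) (by
      intro x
      rw [hiter, hf]; rfl)
  refine ⟨r, v.toMul, ?_, ?_⟩
  · intro h
    apply hv
    show v = Additive.ofMul 1
    rw [← h]; rfl
  · exact congrArg Additive.toMul hfv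

/-- If `N` is a normal subgroup of prime order `p`, then `g ^ (p - 1)` centralizes `N`. -/
theorem pow_mem_centralizer_of_card_prime {G : Type*} [Group G] (N : Subgroup G) [N.Normal]
    {p : ℕ} [hp : Fact p.Prime] (hN : Nat.card N = p) (g : G) :
    g ^ (p - 1) ∈ Subgroup.centralizer (N : Set G) := by
  haveI : IsCyclic N := isCyclic_of_prime_card hN
  haveI : NeZero (Nat.card N) := ⟨by rw [hN]; exact hp.out.ne_zero⟩
  let φ : G →* MulAut N := MulAut.conjNormal
  let ψ : G →* (ZMod (Nat.card N))ˣ := (IsCyclic.mulAutMulEquiv N).toMonoidHom.comp φ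
  have h2 : ψ (g ^ (p - 1)) = 1 := by
    rw [map_pow]
    have h : Nat.card (ZMod (Nat.card N))ˣ = p - 1 := by
      rw [Nat.card_eq_fintype_card, ZMod.card_units_eq_totient, hN, Nat.totient_prime hp.out]
    rw [← h]; exact pow_card_eq_one'
  have h3 : φ (g ^ (p - 1)) = 1 := by
    have : (IsCyclic.mulAutMulEquiv N) (φ (g ^ (p - 1))) = (IsCyclic.mulAutMulEquiv N) 1 := by
      rw [map_one]; exact h2
    exact (IsCyclic.mulAutMulEquiv N).injective this
  rw [Subgroup.mem_centralizer_iff]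
  intro x hx
  have h4 : (φ (g ^ (p - 1)) ⟨x, hx⟩ : G) = g ^ (p - 1) * x * (g ^ (p - 1))⁻¹ :=
    MulAut.conjNormal_apply (g ^ (p - 1)) ⟨x, hx⟩
  rw [h3] at h4
  simp only [MulAut.one_apply] at h4
  calc x * g ^ (p - 1) = (g ^ (p - 1) * x * (g ^ (p - 1))⁻¹) * g ^ (p - 1) := by rw [← h4]
    _ = g ^ (p - 1) * x := by group

/-- Conjugation by `a` on a nontrivial normal elementary abelian `p`-subgroup `N`, where
`a ^ (p - 1)` centralizes `N`, has an eigenvector. -/
theorem exists_eigen_conj {G : Type*} [Group G] [Finite G] (N : Subgroup G) [N.Normal] {p : ℕ}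
    [hp : Fact p.Prime] (hN1 : N ≠ ⊥) (hab : ∀ a ∈ N, ∀ b ∈ N, a * b = b * a)
    (hexp : ∀ x ∈ N, x ^ p = 1) (a : G) (ha : ∀ x ∈ N, a ^ (p - 1) * x = x * a ^ (p - 1)) :
    ∃ (r : ℕ), ∃ v ∈ N, v ≠ 1 ∧ a * v * a⁻¹ = v ^ r := by
  letI : CommGroup N :=
    { (inferInstance : Group N) with mul_comm := fun x y => Subtype.ext (hab x x.2 y y.2) }
  haveI : Nontrivial N := (Subgroup.nontrivial_iff_ne_bot N).2 hN1
  let f : N →* N := (MulAut.conjNormal a : MulAut N).toMonoidHom
  have hfapp : ∀ x : N, (f x : G) = a * x * a⁻¹ := fun x => MulAut.conjNormal_apply a x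
  have hiter : ∀ (k : ℕ) (x : N), ((f^[k]) x : G) = a ^ k * x * (a ^ k)⁻¹ := by
    intro k
    induction k with
    | zero => intro x; simp
    | succ k ih =>
      intro x
      rw [Function.iterate_succ_apply', hfapp, ih, pow_succ']
      group
  obtain ⟨m, hm⟩ : ∃ m : ℕ, m = p - 1 := ⟨_, rfl⟩
  have hpm : p = m + 1 := by have := hp.out.pos; omega
  rw [← hm] at ha
  have hf : ∀ x, (f^[p]) x = f x := by
    intro x
    apply Subtype.ext
    rw [hiter, hfapp, hpm, pow_succ']
    have h2 := ha x x.2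
    calc a * a ^ m * ↑x * (a * a ^ m)⁻¹ = a * (a ^ m * ↑x) * (a ^ m)⁻¹ * a⁻¹ := by group
      _ = a * (↑x * a ^ m) * (a ^ m)⁻¹ * a⁻¹ := by rw [h2]
      _ = a * ↑x * a⁻¹ := by group
  obtain ⟨r, v, hv, hfv⟩ := exists_eigen_of_commGroup
    (fun x => Subtype.ext (by simpa using hexp x x.2)) f hf
  refine ⟨r, v, v.2, fun h => hv (Subtype.ext h), ?_⟩
  have h3 := congrArg Subtype.val hfv
  rw [hfapp] at h3
  simpa using h3

end Cfsg.Agent.Lib.Helper2
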