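import Mathlib

set_option autoImplicit false
set_option linter.style.haveILetI false

namespace Cfsg.Agent.Lib.Helper2

/-- A `q`-group acting by conjugation on a normal subgroup `L` without nontrivial fixed points:
`|L| ≡ 1 (mod q)`. -/
theorem card_modEq_one_of_fixedPointFree {G : Type*} [Group G] [Finite G] (L Q : Subgroup G)
    [L.Normal] {q : ℕ} [Fact q.Prime] (hQ : IsPGroup q Q)
    (hfix : ∀ l ∈ L, (∀ x ∈ Q, x * l * x⁻¹ = l) → l = 1) : Nat.card L ≡ 1 [MOD q] := by
  letI : MulAction Q L := MulAction.compHom L ((MulAut.conjNormal (H := L)).comp Q.subtype)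
  have h1 := hQ.card_modEq_card_fixedPoints L
  have h2 : Nat.card (MulAction.fixedPoints Q L) = 1 := by
    rw [Nat.card_eq_one_iff_unique]
    constructor
    · refine ⟨?_⟩
      rintro ⟨a, ha⟩ ⟨b, hb⟩
      have hone : ∀ l : L, l ∈ MulAction.fixedPoints Q L → l = 1 := by
        intro l hl
        apply Subtype.ext
        apply hfix l l.2
        intro x hx
        have := hl ⟨x, hx⟩
        have h3 : ((⟨x, hx⟩ : Q) • l : L) = MulAut.conjNormal x l := rfl
        rw [h3] at this
        have h4 := congrArg Subtype.val this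
        rwa [MulAut.conjNormal_apply] at h4
      apply Subtype.ext
      show a = b
      exact (hone a ha).trans (hone b hb).symm
    · refine ⟨⟨1, ?_⟩⟩
      intro x
      have h3 : (x • (1 : L) : L) = MulAut.conjNormal (x : G) 1 := rfl
      rw [h3, map_one]
  rwa [h2] at h1

end Cfsg.Agent.Lib.Helper2
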