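import Mathlib

set_option autoImplicit false
set_option linter.style.haveILetI false
open Pointwise

namespace Cfsg.Agent.Lib.Helper2

/-- If `A ⧸ K` is nilpotent and `P` is a Sylow subgroup of the finite group `A`,
then `A = N_A(P) K`. -/
theorem normalizer_sup_eq_top_of_quotient_nilpotent {A : Type*} [Group A] [Finite A]
    (K : Subgroup A) [K.Normal] (hnil : Group.IsNilpotent (A ⧸ K)) (p : ℕ) [Fact p.Prime]
    (P : Sylow p A) : Subgroup.normalizer ((P : Subgroup A) : Set A) ⊔ K = ⊤ := by
  have hπ : Function.Surjective (QuotientGroup.mk' K) := QuotientGroup.mk'_surjective K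
  let Q : Sylow p (A ⧸ K) := P.mapSurjective hπ
  haveI hQn : (Q : Subgroup (A ⧸ K)).Normal := inferInstance
  let D : Subgroup A := (Q : Subgroup (A ⧸ K)).comap (QuotientGroup.mk' K)
  haveI hDn : D.Normal := Subgroup.Normal.comap hQn _
  have hD : D = (P : Subgroup A) ⊔ K := by
    change ((P : Subgroup A).map (QuotientGroup.mk' K)).comap (QuotientGroup.mk' K) = _
    rw [Subgroup.comap_map_eq, QuotientGroup.ker_mk']
  have hPD : (P : Subgroup A) ≤ D := by rw [hD]; exact le_sup_left
  have h1 := Sylow.normalizer_sup_eq_top' P hPD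
  rw [hD, ← sup_assoc] at h1
  have h2 : Subgroup.normalizer ((P : Subgroup A) : Set A) ⊔ (P : Subgroup A)
      = Subgroup.normalizer ((P : Subgroup A) : Set A) := sup_eq_left.2 Subgroup.le_normalizer
  have h3 : Subgroup.normalizer ((P : Subgroup A) : Set A) ⊔ (P : Subgroup A) ⊔ K = ⊤ := h1
  rw [h2] at h3
  exact h3

end Cfsg.Agent.Lib.Helper2
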