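import Mathlib
import Cfsg.Agent.S0589

set_option autoImplicit false
set_option linter.style.haveILetI false
set_option linter.deprecated false
open Pointwise

namespace Cfsg.Agent.Lib.Helper2

/-- The index of a Frobenius complement is congruent to `1` modulo its order. -/
theorem frob_index_modEq {G : Type*} [Group G] [Finite G] (H : Subgroup G)
    (hH : Cfsg.IsFrobeniusComplement H) : Nat.card (G ⧸ H) ≡ 1 [MOD Nat.card H] := by
  classical
  obtain ⟨hHbot, hHtop, hfrob⟩ := hH
  have hfix : ∀ (g a : G), g • (a : G ⧸ H) = (a : G ⧸ H) ↔ a⁻¹ * g * a ∈ H := by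
    intro g a
    rw [MulAction.Quotient.smul_coe, smul_eq_mul, eq_comm, QuotientGroup.eq, mul_assoc]
  have huniqG : ∀ g : G, g ≠ 1 → ∀ ω ω' : G ⧸ H, g • ω = ω → g • ω' = ω' → ω = ω' := by
    intro g hg ω ω'
    refine QuotientGroup.induction_on ω ?_
    intro a
    refine QuotientGroup.induction_on ω' ?_
    intro b h1 h2
    rw [hfix] at h1 h2
    by_contra hne
    have hc : a⁻¹ * b ∉ H := fun h => hne (QuotientGroup.eq.mpr h)
    have h3 := hfrob (a⁻¹ * b) hc
    have h4 : a⁻¹ * g * a ∈ H ⊓ MulAut.conj (a⁻¹ * b) • H := by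
      have h5 : (a⁻¹ * b)⁻¹ * (a⁻¹ * g * a) * (a⁻¹ * b) = b⁻¹ * g * b := by group
      have h6 : a⁻¹ * g * a ∈ MulAut.conj (a⁻¹ * b) • H := by
        rw [Cfsg.Agent.Lib.Helper2.mem_conj_smul_iff, h5]; exact h2
      exact Subgroup.mem_inf.mpr ⟨h1, h6⟩
    rw [h3, Subgroup.mem_bot] at h4
    apply hg
    have h6 : g = a * (a⁻¹ * g * a) * a⁻¹ := by group
    rw [h6, h4]; group
  set R : Set (G ⧸ H) := {ω | MulAction.stabilizer H ω = ⊥} with hR
  have hRcard : Nat.card H ∣ R.ncard := Cfsg.Agent.S0589.card_reg_dvd (L := H) (X := G ⧸ H)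
  have hpt : ∀ x ∈ H, x • ((1 : G) : G ⧸ H) = ((1 : G) : G ⧸ H) := by
    intro x hx
    rw [hfix]; simpa using hx
  have hRc : Rᶜ = {((1 : G) : G ⧸ H)} := by
    ext ω
    rw [Set.mem_compl_iff, Set.mem_singleton_iff]
    constructor
    · intro h
      by_contra hne
      apply h
      show MulAction.stabilizer H ω = ⊥
      rw [eq_bot_iff]
      intro x hx
      rw [MulAction.mem_stabilizer_iff] at hx
      have hx' : (x : G) • ω = ω := hx
      rw [Subgroup.mem_bot]
      by_contra hx1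
      have hx1' : (x : G) ≠ 1 := fun h => hx1 (Subtype.ext h)
      exact hne (huniqG (x : G) hx1' ω _ hx' (hpt x x.2))
    · rintro rfl h
      have h' : MulAction.stabilizer H (((1 : G) : G ⧸ H)) = ⊥ := h
      apply hHbot
      rw [eq_bot_iff]
      intro x hx
      have h7 : (⟨x, hx⟩ : H) ∈ MulAction.stabilizer H (((1 : G) : G ⧸ H)) := by
        rw [MulAction.mem_stabilizer_iff]
        exact hpt x hx
      rw [h', Subgroup.mem_bot] at h7
      rw [Subgroup.mem_bot]
      exact congrArg Subtype.val h7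
  have hsum := Set.ncard_add_ncard_compl R
  rw [hRc, Set.ncard_singleton] at hsum
  obtain ⟨c, hc⟩ := hRcard
  unfold Nat.ModEq
  rw [← hsum, hc, Nat.mul_add_mod]

/-- A Frobenius complement is a Hall subgroup. -/
theorem frob_coprime_index {G : Type*} [Group G] [Finite G] (H : Subgroup G)
    (hH : Cfsg.IsFrobeniusComplement H) : (Nat.card H).Coprime H.index := by
  have h1 := frob_index_modEq H hH
  rw [Subgroup.index_eq_card]
  have h2 := Nat.ModEq.gcd_eq h1
  rw [Nat.gcd_one_left] at h2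
  rw [Nat.Coprime, Nat.gcd_comm]
  exact h2

end Cfsg.Agent.Lib.Helper2
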