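import Mathlib
import Cfsg.Agent.Lib.Helper1.GLSylow
import Cfsg.Agent.S0769

set_option autoImplicit false
set_option linter.style.haveILetI false
set_option linter.unusedSectionVars false
set_option linter.unnecessarySeqFocus false

namespace Cfsg.Agent.Lib.Helper2.GL2

open Matrix

section
variable {F : Type*} [Field F]

/-- lower unitriangular matrix -/
def lowM (x : F) : Matrix (Fin 2) (Fin 2) F := !![1, 0; x, 1]

theorem lowM_00 (x : F) : lowM x 0 0 = 1 := by simp [lowM]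
theorem lowM_01 (x : F) : lowM x 0 1 = 0 := by simp [lowM]
theorem lowM_10 (x : F) : lowM x 1 0 = x := by simp [lowM]
theorem lowM_11 (x : F) : lowM x 1 1 = 1 := by simp [lowM]

theorem mul_low_00 (A : Matrix (Fin 2) (Fin 2) F) (x : F) :
    (A * lowM x) 0 0 = A 0 0 + A 0 1 * x := by
  rw [Matrix.mul_apply, Fin.sum_univ_two, lowM_00, lowM_10, mul_one]
theorem mul_low_01 (A : Matrix (Fin 2) (Fin 2) F) (x : F) :
    (A * lowM x) 0 1 = A 0 1 := by
  rw [Matrix.mul_apply, Fin.sum_univ_two, lowM_01, lowM_11, mul_one, mul_zero, zero_add]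
theorem mul_low_10 (A : Matrix (Fin 2) (Fin 2) F) (x : F) :
    (A * lowM x) 1 0 = A 1 0 + A 1 1 * x := by
  rw [Matrix.mul_apply, Fin.sum_univ_two, lowM_00, lowM_10, mul_one]
theorem mul_low_11 (A : Matrix (Fin 2) (Fin 2) F) (x : F) :
    (A * lowM x) 1 1 = A 1 1 := by
  rw [Matrix.mul_apply, Fin.sum_univ_two, lowM_01, lowM_11, mul_one, mul_zero, zero_add]
theorem low_mul_00 (A : Matrix (Fin 2) (Fin 2) F) (x : F) :
    (lowM x * A) 0 0 = A 0 0 := by
  rw [Matrix.mul_apply, Fin.sum_univ_two, lowM_00, lowM_01, one_mul, zero_mul, add_zero]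
theorem low_mul_01 (A : Matrix (Fin 2) (Fin 2) F) (x : F) :
    (lowM x * A) 0 1 = A 0 1 := by
  rw [Matrix.mul_apply, Fin.sum_univ_two, lowM_00, lowM_01, one_mul, zero_mul, add_zero]
theorem low_mul_10 (A : Matrix (Fin 2) (Fin 2) F) (x : F) :
    (lowM x * A) 1 0 = x * A 0 0 + A 1 0 := by
  rw [Matrix.mul_apply, Fin.sum_univ_two, lowM_10, lowM_11, one_mul]
theorem low_mul_11 (A : Matrix (Fin 2) (Fin 2) F) (x : F) :
    (lowM x * A) 1 1 = x * A 0 1 + A 1 1 := by
  rw [Matrix.mul_apply, Fin.sum_univ_two, lowM_10, lowM_11, one_mul]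

theorem ext2 {A B : Matrix (Fin 2) (Fin 2) F} (h00 : A 0 0 = B 0 0) (h01 : A 0 1 = B 0 1)
    (h10 : A 1 0 = B 1 0) (h11 : A 1 1 = B 1 1) : A = B := by
  ext i j
  fin_cases i <;> fin_cases j
  · exact h00
  · exact h01
  · exact h10
  · exact h11

theorem lowM_mul (x y : F) : lowM x * lowM y = lowM (x + y) := by
  apply ext2
  · rw [mul_low_00, lowM_00, lowM_01, lowM_00]; ring
  · rw [mul_low_01, lowM_01, lowM_01]
  · rw [mul_low_10, lowM_10, lowM_11, lowM_10]; ring
  · rw [mul_low_11, lowM_11, lowM_11]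

theorem lowM_zero : lowM (0 : F) = 1 := by
  apply ext2
  · rw [lowM_00, Matrix.one_apply_eq]
  · rw [lowM_01, Matrix.one_apply_ne (by decide)]
  · rw [lowM_10, Matrix.one_apply_ne (by decide)]
  · rw [lowM_11, Matrix.one_apply_eq]

theorem lowM_inj {x y : F} (h : lowM x = lowM y) : x = y := by
  have := congrFun (congrFun h 1) 0
  rw [lowM_10, lowM_10] at this
  exact this

/-- the lower unitriangular group as a homomorphism -/
def lowHom : Multiplicative F →* GL (Fin 2) F where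
  toFun x := ⟨lowM (Multiplicative.toAdd x), lowM (-(Multiplicative.toAdd x)),
    by rw [lowM_mul, add_neg_cancel, lowM_zero], by rw [lowM_mul, neg_add_cancel, lowM_zero]⟩
  map_one' := Units.ext lowM_zero
  map_mul' x y := Units.ext (by
    show lowM (Multiplicative.toAdd (x * y)) =
      lowM (Multiplicative.toAdd x) * lowM (Multiplicative.toAdd y)
    rw [lowM_mul]
    rfl)

theorem lowHom_val (x : Multiplicative F) :
    ((lowHom x : GL (Fin 2) F) : Matrix (Fin 2) (Fin 2) F) = lowM (Multiplicative.toAdd x) := rfl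

theorem lowHom_injective : Function.Injective (lowHom (F := F)) := by
  intro x y h
  have h1 : lowM (Multiplicative.toAdd x) = lowM (Multiplicative.toAdd y) := by
    rw [← lowHom_val, ← lowHom_val, h]
  exact Multiplicative.toAdd.injective (lowM_inj h1)

/-- the lower unitriangular subgroup -/
def Lsub (F : Type*) [Field F] : Subgroup (GL (Fin 2) F) := (lowHom (F := F)).range

theorem mem_Lsub {g : GL (Fin 2) F} :
    g ∈ Lsub F ↔ ∃ x : F, (g : Matrix (Fin 2) (Fin 2) F) = lowM x := by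
  constructor
  · rintro ⟨x, rfl⟩
    exact ⟨Multiplicative.toAdd x, rfl⟩
  · rintro ⟨x, hx⟩
    exact ⟨Multiplicative.ofAdd x, Units.ext hx.symm⟩

theorem gl_det_ne_zero (k : GL (Fin 2) F) :
    (k : Matrix (Fin 2) (Fin 2) F) 0 0 * (k : Matrix (Fin 2) (Fin 2) F) 1 1 -
      (k : Matrix (Fin 2) (Fin 2) F) 0 1 * (k : Matrix (Fin 2) (Fin 2) F) 1 0 ≠ 0 := by
  have h := (Matrix.isUnit_iff_isUnit_det _).1 (Units.isUnit k)
  rw [Matrix.det_fin_two] at h
  exact h.ne_zero

/-- key lemma: intertwining two non-trivial lower unitriangular elements forces triangularity -/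
theorem key01 (k : Matrix (Fin 2) (Fin 2) F) (x x' : F) (hx' : x' ≠ 0)
    (h : k * lowM x' = lowM x * k) : k 0 1 = 0 := by
  have h1 := congrFun (congrFun h 0) 0
  rw [mul_low_00, low_mul_00] at h1
  have h2 : k 0 1 * x' = 0 := by linear_combination h1
  rcases mul_eq_zero.1 h2 with h3 | h3
  · exact h3
  · exact absurd h3 hx'

/-- lower triangular matrices normalise the lower unitriangular group -/
theorem tri_conj (k : Matrix (Fin 2) (Fin 2) F) (hk : k 0 1 = 0) (hk0 : k 0 0 ≠ 0) (x : F) :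
    k * lowM x = lowM (k 1 1 * x / k 0 0) * k := by
  apply ext2
  · rw [mul_low_00, low_mul_00, hk]; ring
  · rw [mul_low_01, low_mul_01]
  · rw [mul_low_10, low_mul_10]
    field_simp
    ring
  · rw [mul_low_11, low_mul_11, hk]; ring

theorem tri_ne_zero (k : GL (Fin 2) F) (hk : (k : Matrix (Fin 2) (Fin 2) F) 0 1 = 0) :
    (k : Matrix (Fin 2) (Fin 2) F) 0 0 ≠ 0 ∧ (k : Matrix (Fin 2) (Fin 2) F) 1 1 ≠ 0 := by
  have h := gl_det_ne_zero k
  rw [hk, zero_mul, sub_zero] at h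
  exact ⟨left_ne_zero_of_mul h, right_ne_zero_of_mul h⟩

theorem mem_normalizer_Lsub (k : GL (Fin 2) F) :
    k ∈ Subgroup.normalizer ((Lsub F : Subgroup (GL (Fin 2) F)) : Set (GL (Fin 2) F)) ↔
      (k : Matrix (Fin 2) (Fin 2) F) 0 1 = 0 := by
  rw [Subgroup.mem_normalizer_iff]
  constructor
  · intro h
    have h1 : lowHom (Multiplicative.ofAdd (1 : F)) ∈ Lsub F := ⟨_, rfl⟩
    obtain ⟨x, hx⟩ := mem_Lsub.1 ((h _).1 h1)
    have h2 : (k : Matrix (Fin 2) (Fin 2) F) * lowM 1 =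
        lowM x * (k : Matrix (Fin 2) (Fin 2) F) := by
      have h3 : k * lowHom (Multiplicative.ofAdd (1 : F)) =
          (k * lowHom (Multiplicative.ofAdd (1 : F)) * k⁻¹) * k := by group
      have h4 := congrArg (fun g : GL (Fin 2) F => (g : Matrix (Fin 2) (Fin 2) F)) h3
      rw [Units.val_mul, Units.val_mul (k * lowHom (Multiplicative.ofAdd (1 : F)) * k⁻¹) k,
        hx, lowHom_val] at h4
      exact h4
    exact key01 _ x 1 one_ne_zero h2
  · intro hk h
    obtain ⟨hk0, hk1⟩ := tri_ne_zero k hk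
    constructor
    · intro hh
      obtain ⟨x, hx⟩ := mem_Lsub.1 hh
      rw [mem_Lsub]
      refine ⟨(k : Matrix (Fin 2) (Fin 2) F) 1 1 * x / (k : Matrix (Fin 2) (Fin 2) F) 0 0, ?_⟩
      have h1 := tri_conj (k : Matrix (Fin 2) (Fin 2) F) hk hk0 x
      rw [Units.val_mul, Units.val_mul, hx, h1, Matrix.mul_assoc, ← Units.val_mul,
        mul_inv_cancel, Units.val_one, Matrix.mul_one]
    · intro hh
      obtain ⟨x, hx⟩ := mem_Lsub.1 hh
      rw [mem_Lsub]
      refine ⟨(k : Matrix (Fin 2) (Fin 2) F) 0 0 * x / (k : Matrix (Fin 2) (Fin 2) F) 1 1, ?_⟩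
      have h1 := tri_conj (k : Matrix (Fin 2) (Fin 2) F) hk hk0
        ((k : Matrix (Fin 2) (Fin 2) F) 0 0 * x / (k : Matrix (Fin 2) (Fin 2) F) 1 1)
      have e : (k : Matrix (Fin 2) (Fin 2) F) 1 1 *
          ((k : Matrix (Fin 2) (Fin 2) F) 0 0 * x / (k : Matrix (Fin 2) (Fin 2) F) 1 1) /
          (k : Matrix (Fin 2) (Fin 2) F) 0 0 = x := by
        field_simp
      rw [e] at h1
      -- k * low y = low x * k = (k h k⁻¹) * k = k * h
      have h2 : (k : Matrix (Fin 2) (Fin 2) F) * (h : Matrix (Fin 2) (Fin 2) F) = lowM x * k := by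
        rw [← hx, ← Units.val_mul, ← Units.val_mul]
        congr 1
        group
      have h3 : (k : Matrix (Fin 2) (Fin 2) F) * (h : Matrix (Fin 2) (Fin 2) F) =
          k * lowM ((k : Matrix (Fin 2) (Fin 2) F) 0 0 * x /
            (k : Matrix (Fin 2) (Fin 2) F) 1 1) := by
        rw [h2, h1]
      have h4 := congrArg (fun M => ((k⁻¹ : GL (Fin 2) F) : Matrix (Fin 2) (Fin 2) F) * M) h3
      simp only [← Matrix.mul_assoc, ← Units.val_mul, inv_mul_cancel, Units.val_one,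
        Matrix.one_mul, inv_mul_cancel_left] at h4
      exact h4


/-- commuting with a non-trivial lower unitriangular matrix -/
theorem comm_low_iff (k : Matrix (Fin 2) (Fin 2) F) (x : F) (hx : x ≠ 0) :
    k * lowM x = lowM x * k ↔ (k 0 1 = 0 ∧ k 0 0 = k 1 1) := by
  constructor
  · intro h
    have h01 := key01 k x x hx h
    refine ⟨h01, ?_⟩
    have h1 := congrFun (congrFun h 1) 0
    rw [mul_low_10, low_mul_10] at h1
    have h2 : x * (k 0 0 - k 1 1) = 0 := by linear_combination (-1 : F) * h1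
    rcases mul_eq_zero.1 h2 with h3 | h3
    · exact absurd h3 hx
    · exact sub_eq_zero.1 h3
  · rintro ⟨h01, h00⟩
    apply ext2
    · rw [mul_low_00, low_mul_00, h01]; ring
    · rw [mul_low_01, low_mul_01]
    · rw [mul_low_10, low_mul_10, h00]; ring
    · rw [mul_low_11, low_mul_11, h01]; ring

/-- lower triangular matrix with equal diagonal entries -/
def triM (d c : F) : Matrix (Fin 2) (Fin 2) F := !![d, 0; c, d]

theorem triM_00 (d c : F) : triM d c 0 0 = d := by simp [triM]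
theorem triM_01 (d c : F) : triM d c 0 1 = 0 := by simp [triM]
theorem triM_10 (d c : F) : triM d c 1 0 = c := by simp [triM]
theorem triM_11 (d c : F) : triM d c 1 1 = d := by simp [triM]

theorem triM_det (d c : F) (hd : d ≠ 0) : (triM d c).det ≠ 0 := by
  rw [Matrix.det_fin_two, triM_00, triM_01, triM_10, triM_11, zero_mul, sub_zero]
  exact mul_ne_zero hd hd

/-- the centraliser-type subgroup is parametrised by `Fˣ × F` -/
noncomputable def triEquiv : {k : GL (Fin 2) F // (k : Matrix (Fin 2) (Fin 2) F) 0 1 = 0 ∧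
    (k : Matrix (Fin 2) (Fin 2) F) 0 0 = (k : Matrix (Fin 2) (Fin 2) F) 1 1} ≃ Fˣ × F where
  toFun k := (Units.mk0 _ (tri_ne_zero k.1 k.2.1).1, (k.1 : Matrix (Fin 2) (Fin 2) F) 1 0)
  invFun dc := ⟨Matrix.GeneralLinearGroup.mkOfDetNeZero (triM (dc.1 : F) dc.2)
      (triM_det _ _ dc.1.ne_zero),
    by
      show triM (dc.1 : F) dc.2 0 1 = 0
      rw [triM_01],
    by
      show triM (dc.1 : F) dc.2 0 0 = triM (dc.1 : F) dc.2 1 1
      rw [triM_00, triM_11]⟩
  left_inv k := by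
    apply Subtype.ext
    apply Units.ext
    show triM ((k.1 : Matrix (Fin 2) (Fin 2) F) 0 0) ((k.1 : Matrix (Fin 2) (Fin 2) F) 1 0) =
      (k.1 : Matrix (Fin 2) (Fin 2) F)
    apply ext2
    · rw [triM_00]
    · rw [triM_01, k.2.1]
    · rw [triM_10]
    · rw [triM_11, k.2.2]
  right_inv dc := by
    apply Prod.ext
    · apply Units.ext
      show triM (dc.1 : F) dc.2 0 0 = (dc.1 : F)
      rw [triM_00]
    · show triM (dc.1 : F) dc.2 1 0 = dc.2
      rw [triM_10]

end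

section
variable {F : Type*} [Field F] [Fintype F]

theorem card_Lsub : Nat.card (Lsub F) = Fintype.card F := by
  have h := Nat.card_congr (MonoidHom.ofInjective (lowHom_injective (F := F))).toEquiv
  show Nat.card (lowHom (F := F)).range = _
  rw [← h, Nat.card_congr (Multiplicative.toAdd (α := F)), Nat.card_eq_fintype_card]

theorem card_normalizer_Lsub :
    Nat.card (Subgroup.normalizer ((Lsub F : Subgroup (GL (Fin 2) F)) : Set (GL (Fin 2) F))) =
      Fintype.card F * (Fintype.card F - 1) ^ 2 := by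
  have h := Cfsg.Agent.S0769.result (F := F) rfl 2
  have e : Fintype.card F ^ (2 * (2 - 1) / 2) = Fintype.card F := by norm_num
  rw [e] at h
  rw [← h]
  apply Nat.card_congr
  apply Equiv.subtypeEquivRight
  intro g
  rw [mem_normalizer_Lsub]
  constructor
  · intro h01 i j hij
    fin_cases i <;> fin_cases j
    · exact absurd hij (by decide)
    · exact h01
    · exact absurd hij (by decide)
    · exact absurd hij (by decide)
  · intro hall
    exact hall 0 1 (by decide)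

theorem card_GL2 : Nat.card (GL (Fin 2) F) =
    (Fintype.card F + 1) * (Fintype.card F * (Fintype.card F - 1) ^ 2) := by
  rw [Matrix.card_GL_field, Fin.prod_univ_two]
  have hq : 1 < Fintype.card F := Fintype.one_lt_card
  obtain ⟨s, hs⟩ : ∃ s, Fintype.card F = s + 1 := ⟨Fintype.card F - 1, by omega⟩
  rw [hs, Nat.add_sub_cancel]
  have e1 : (s + 1) ^ 2 - (s + 1) ^ ((0 : Fin 2) : ℕ) = s * (s + 2) := by
    show (s + 1) ^ 2 - (s + 1) ^ 0 = _
    rw [pow_zero]
    apply Nat.sub_eq_of_eq_add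
    ring
  have e2 : (s + 1) ^ 2 - (s + 1) ^ ((1 : Fin 2) : ℕ) = (s + 1) * s := by
    show (s + 1) ^ 2 - (s + 1) ^ 1 = _
    rw [pow_one]
    apply Nat.sub_eq_of_eq_add
    ring
  rw [e1, e2]
  ring


theorem card_triEq : Nat.card {k : GL (Fin 2) F // (k : Matrix (Fin 2) (Fin 2) F) 0 1 = 0 ∧
    (k : Matrix (Fin 2) (Fin 2) F) 0 0 = (k : Matrix (Fin 2) (Fin 2) F) 1 1} =
      Fintype.card F * (Fintype.card F - 1) := by
  rw [Nat.card_congr triEquiv, Nat.card_prod, Nat.card_units, Nat.card_eq_fintype_card, mul_comm]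

/-- the centraliser of an element conjugate to a non-trivial lower unitriangular matrix -/
theorem card_centralizer_of_conj (a g : GL (Fin 2) F) (x : F) (hx : x ≠ 0)
    (h : ((g⁻¹ * a * g : GL (Fin 2) F) : Matrix (Fin 2) (Fin 2) F) = lowM x) :
    Nat.card (Subgroup.centralizer ({a} : Set (GL (Fin 2) F))) =
      Fintype.card F * (Fintype.card F - 1) := by
  rw [← card_triEq]
  apply Nat.card_congr
  refine Equiv.subtypeEquiv (MulAut.conj g⁻¹).toEquiv ?_
  intro k
  rw [Subgroup.mem_centralizer_singleton_iff]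
  show _ ↔ ((MulAut.conj g⁻¹ k : GL (Fin 2) F) : Matrix (Fin 2) (Fin 2) F) 0 1 = 0 ∧
    ((MulAut.conj g⁻¹ k : GL (Fin 2) F) : Matrix (Fin 2) (Fin 2) F) 0 0 =
    ((MulAut.conj g⁻¹ k : GL (Fin 2) F) : Matrix (Fin 2) (Fin 2) F) 1 1
  rw [MulAut.conj_apply, inv_inv, ← comm_low_iff _ x hx, ← h, ← Units.val_mul, ← Units.val_mul]
  have e1 : (g⁻¹ * k * g) * (g⁻¹ * a * g) = g⁻¹ * (k * a) * g := by group
  have e2 : (g⁻¹ * a * g) * (g⁻¹ * k * g) = g⁻¹ * (a * k) * g := by group
  rw [e1, e2]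
  constructor
  · intro hh
    rw [hh]
  · intro hh
    have := Units.ext hh
    exact mul_left_cancel (mul_right_cancel this)

variable (p : ℕ) [Fact p.Prime] [CharP F p]

/-- the lower unitriangular group is a Sylow subgroup -/
theorem exists_sylow_eq_Lsub : ∃ P : Sylow p (GL (Fin 2) F), (P : Subgroup (GL (Fin 2) F)) = Lsub F := by
  obtain ⟨f, hp, hq⟩ := FiniteField.card F p
  have hpg : IsPGroup p (Lsub F) := by
    apply IsPGroup.of_card (n := (f : ℕ))
    rw [card_Lsub, hq]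
  obtain ⟨P, hP⟩ := hpg.exists_le_sylow
  refine ⟨P, ?_⟩
  have hc := Cfsg.Agent.Lib.Helper1.card_sylow_GL p 2 P
  have e : Fintype.card F ^ (2 * (2 - 1) / 2) = Fintype.card F := by norm_num
  rw [e] at hc
  symm
  apply Subgroup.eq_of_le_of_card_ge hP
  rw [card_Lsub]
  exact hc.le

theorem card_sylow_GL2 : Nat.card (Sylow p (GL (Fin 2) F)) = Fintype.card F + 1 := by
  obtain ⟨P, hP⟩ := exists_sylow_eq_Lsub (F := F) p
  rw [Sylow.card_eq_index_normalizer P]
  show (Subgroup.normalizer ((P : Subgroup (GL (Fin 2) F)) : Set (GL (Fin 2) F))).index = _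
  rw [hP]
  have h1 := (Subgroup.normalizer ((Lsub F : Subgroup (GL (Fin 2) F)) :
    Set (GL (Fin 2) F))).card_mul_index
  rw [card_normalizer_Lsub, card_GL2] at h1
  have hq : 1 < Fintype.card F := Fintype.one_lt_card
  have hpos : 0 < Fintype.card F * (Fintype.card F - 1) ^ 2 := by
    apply Nat.mul_pos (by omega)
    apply pow_pos
    omega
  have h2 : Fintype.card F * (Fintype.card F - 1) ^ 2 *
      (Subgroup.normalizer ((Lsub F : Subgroup (GL (Fin 2) F)) : Set (GL (Fin 2) F))).index =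
      Fintype.card F * (Fintype.card F - 1) ^ 2 * (Fintype.card F + 1) := by
    rw [h1]; ring
  exact Nat.eq_of_mul_eq_mul_left hpos h2

theorem card_normalizer_sylow (P : Sylow p (GL (Fin 2) F)) :
    Nat.card (Subgroup.normalizer ((P : Subgroup (GL (Fin 2) F)) : Set (GL (Fin 2) F))) =
      Fintype.card F * (Fintype.card F - 1) ^ 2 := by
  have h0 : Nat.card (Sylow p (GL (Fin 2) F)) = (Subgroup.normalizer
      ((P : Subgroup (GL (Fin 2) F)) : Set (GL (Fin 2) F))).index :=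
    Sylow.card_eq_index_normalizer P
  rw [card_sylow_GL2 p] at h0
  have h1 := (Subgroup.normalizer ((P : Subgroup (GL (Fin 2) F)) :
    Set (GL (Fin 2) F))).card_mul_index
  rw [← h0, card_GL2] at h1
  have h2 : (Fintype.card F + 1) * Nat.card (Subgroup.normalizer
      ((P : Subgroup (GL (Fin 2) F)) : Set (GL (Fin 2) F))) =
      (Fintype.card F + 1) * (Fintype.card F * (Fintype.card F - 1) ^ 2) := by
    rw [← h1]; ring
  exact Nat.eq_of_mul_eq_mul_left (by omega) h2

/-- conjugating a Sylow subgroup to the standard one -/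
theorem exists_conj_low (P : Sylow p (GL (Fin 2) F)) :
    ∃ g : GL (Fin 2) F, ∀ u : GL (Fin 2) F, u ∈ P ↔
      ∃ x : F, ((g⁻¹ * u * g : GL (Fin 2) F) : Matrix (Fin 2) (Fin 2) F) = lowM x := by
  obtain ⟨P₀, hP₀⟩ := exists_sylow_eq_Lsub (F := F) p
  obtain ⟨g, hg⟩ := MulAction.exists_smul_eq (GL (Fin 2) F) P₀ P
  refine ⟨g, fun u => ?_⟩
  rw [← mem_Lsub, ← hP₀, ← hg]
  show u ∈ ((g • P₀ : Sylow p (GL (Fin 2) F)) : Subgroup (GL (Fin 2) F)) ↔ _
  rw [Sylow.coe_subgroup_smul, Subgroup.mem_pointwise_smul_iff_inv_smul_mem]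
  show g⁻¹ * u * g⁻¹⁻¹ ∈ _ ↔ _
  rw [inv_inv]


theorem exists_conj_Lsub (P : Sylow p (GL (Fin 2) F)) :
    ∃ g : GL (Fin 2) F, ∀ u : GL (Fin 2) F, u ∈ P ↔ g⁻¹ * u * g ∈ Lsub F := by
  obtain ⟨g, hg⟩ := exists_conj_low p P
  refine ⟨g, fun u => ?_⟩
  rw [hg u, mem_Lsub]

/-- distinct Sylow `p`-subgroups of `GL_2(q)` intersect trivially -/
theorem sylow_inf_eq_bot (P Q : Sylow p (GL (Fin 2) F)) (h : P ≠ Q) :
    (P : Subgroup (GL (Fin 2) F)) ⊓ (Q : Subgroup (GL (Fin 2) F)) = ⊥ := by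
  by_contra hne
  obtain ⟨u, hu, hu1⟩ : ∃ u ∈ (P : Subgroup (GL (Fin 2) F)) ⊓ (Q : Subgroup (GL (Fin 2) F)),
      u ≠ 1 := by
    by_contra hcon
    push Not at hcon
    apply hne
    rw [Subgroup.eq_bot_iff_forall]
    exact hcon
  obtain ⟨g₁, h₁⟩ := exists_conj_low p P
  obtain ⟨g₂, h₂⟩ := exists_conj_low p Q
  have huP : u ∈ P := hu.1
  have huQ : u ∈ Q := hu.2
  obtain ⟨x, hx⟩ := (h₁ u).1 huP
  obtain ⟨x', hx'⟩ := (h₂ u).1 huQ
  have hx'0 : x' ≠ 0 := by
    rintro rfl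
    rw [lowM_zero] at hx'
    have h3 : g₂⁻¹ * u * g₂ = 1 := Units.ext hx'
    apply hu1
    calc u = g₂ * (g₂⁻¹ * u * g₂) * g₂⁻¹ := by group
      _ = 1 := by rw [h3]; group
  have hkk : ((g₁⁻¹ * g₂ : GL (Fin 2) F) : Matrix (Fin 2) (Fin 2) F) * lowM x' =
      lowM x * ((g₁⁻¹ * g₂ : GL (Fin 2) F) : Matrix (Fin 2) (Fin 2) F) := by
    rw [← hx', ← hx, ← Units.val_mul, ← Units.val_mul]
    congr 1
    group
  have hk01 := key01 _ x x' hx'0 hkk
  have hkN := (mem_normalizer_Lsub (g₁⁻¹ * g₂)).2 hk01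
  rw [Subgroup.mem_normalizer_iff] at hkN
  apply h
  apply Sylow.ext
  ext v
  show v ∈ P ↔ v ∈ Q
  rw [h₁ v, h₂ v, ← mem_Lsub, ← mem_Lsub, hkN (g₂⁻¹ * v * g₂)]
  have e : (g₁⁻¹ * g₂) * (g₂⁻¹ * v * g₂) * (g₁⁻¹ * g₂)⁻¹ = g₁⁻¹ * v * g₁ := by group
  rw [e]

/-- the centraliser of a non-trivial `p`-element -/
theorem card_centralizer_sylow (P : Sylow p (GL (Fin 2) F)) (a : GL (Fin 2) F) (ha : a ∈ P)
    (ha1 : a ≠ 1) : Nat.card (Subgroup.centralizer ({a} : Set (GL (Fin 2) F))) =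
      Fintype.card F * (Fintype.card F - 1) := by
  obtain ⟨g, hg⟩ := exists_conj_low p P
  obtain ⟨x, hx⟩ := (hg a).1 ha
  have hx0 : x ≠ 0 := by
    rintro rfl
    rw [lowM_zero] at hx
    have h3 : g⁻¹ * a * g = 1 := Units.ext hx
    apply ha1
    calc a = g * (g⁻¹ * a * g) * g⁻¹ := by group
      _ = 1 := by rw [h3]; group
  exact card_centralizer_of_conj a g x hx0 hx

end

end Cfsg.Agent.Lib.Helper2.GL2
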