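import Mathlib
import Cfsg.Prelude.Def_Classical
import Cfsg.Agent.S0779

set_option autoImplicit false
set_option linter.style.haveILetI false
set_option linter.unusedSectionVars false
set_option linter.unusedDecidableInType false

namespace Cfsg.Agent.Lib.Helper2.Herm

open Cfsg.Agent.S0779

theorem eq_of_sum_ge {ι : Type*} (s : Finset ι) (f : ι → ℕ) (b : ℕ)
    (hle : ∀ i ∈ s, f i ≤ b) (hsum : s.card * b ≤ ∑ i ∈ s, f i) : ∀ i ∈ s, f i = b := by
  intro i hi
  by_contra hne
  have hlt : f i < b := lt_of_le_of_ne (hle i hi) hne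
  have := Finset.sum_lt_sum hle ⟨i, hi, hlt⟩
  rw [Finset.sum_const, smul_eq_mul] at this
  omega

theorem card_fibers {X Y : Type*} [Finite X] [Finite Y] (f : X → Y) (c : ℕ)
    (h : ∀ y, Nat.card {x // f x = y} = c) : Nat.card X = Nat.card Y * c := by
  classical
  haveI := Fintype.ofFinite Y
  rw [← Nat.card_congr (Equiv.sigmaFiberEquiv f), Nat.card_sigma]
  simp only [h, Finset.sum_const, Finset.card_univ, smul_eq_mul, Nat.card_eq_fintype_card]

theorem sum_fibers {X : Type*} [Finite X] {Y : Type*} [Fintype Y] (f : X → Y) :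
    Nat.card X = ∑ y, Nat.card {x // f x = y} := by
  rw [← Nat.card_congr (Equiv.sigmaFiberEquiv f), Nat.card_sigma]

theorem card_sub_of_imp {α : Type*} [Finite α] (p r : α → Prop) (h : ∀ x, r x → p x) :
    Nat.card {x // p x ∧ ¬ r x} = Nat.card {x // p x} - Nat.card {x // r x} := by
  classical
  haveI := Fintype.ofFinite α
  rw [Nat.card_eq_fintype_card, Nat.card_eq_fintype_card, Nat.card_eq_fintype_card,
    Fintype.card_subtype, Fintype.card_subtype, Fintype.card_subtype]
  have h1 : (Finset.univ.filter (fun x => p x ∧ ¬ r x)) =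
      (Finset.univ.filter p) \ (Finset.univ.filter r) := by
    ext x; simp
  have h2 : Finset.univ.filter r ⊆ Finset.univ.filter p := by
    intro x hx
    rw [Finset.mem_filter] at hx ⊢
    exact ⟨hx.1, h x hx.2⟩
  rw [h1, Finset.card_sdiff_of_subset h2]

theorem card_ne {M : Type*} [Finite M] (a : M) :
    Nat.card {v : M // v ≠ a} = Nat.card M - 1 := by
  classical
  haveI := Fintype.ofFinite M
  rw [Nat.card_eq_fintype_card, Nat.card_eq_fintype_card]
  have := Fintype.card_subtype_compl (fun v : M => v = a)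
  rw [Fintype.card_subtype_eq] at this
  convert this

section
variable {F : Type*} [Field F] [Fintype F] {q : ℕ}

theorem one_lt_q (hF : Fintype.card F = q ^ 2) : 1 < q := by
  have h1 : 1 < Fintype.card F := Fintype.one_lt_card
  rw [hF] at h1
  by_contra h
  have : q = 0 ∨ q = 1 := by omega
  rcases this with rfl | rfl <;> simp at h1

theorem q_arith (hq : 1 < q) : q ^ 2 - 1 = (q + 1) * (q - 1) := by
  obtain ⟨r, hr⟩ : ∃ r, q = r + 1 := ⟨q - 1, by omega⟩
  rw [hr, Nat.add_sub_cancel]
  exact Nat.sub_eq_of_eq_add (by ring)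

theorem neg_pow_q (hF : Fintype.card F = q ^ 2) (a : F) : (-a) ^ q = -(a ^ q) := by
  have hq := one_lt_q hF
  have h := add_pow_q hF a (-a)
  rw [add_neg_cancel, zero_pow (by omega)] at h
  exact eq_neg_of_add_eq_zero_right h.symm

theorem card_filter_le_of_poly [DecidableEq F] (p : Polynomial F) (hp : p ≠ 0) :
    (Finset.univ.filter (fun x : F => p.eval x = 0)).card ≤ p.natDegree := by
  calc (Finset.univ.filter (fun x : F => p.eval x = 0)).card ≤ p.roots.toFinset.card := by
        apply Finset.card_le_card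
        intro x hx
        rw [Finset.mem_filter] at hx
        rw [Multiset.mem_toFinset, Polynomial.mem_roots hp]
        exact hx.2
    _ ≤ Multiset.card p.roots := Multiset.toFinset_card_le _
    _ ≤ p.natDegree := Polynomial.card_roots' p

theorem card_trace_filter_le [DecidableEq F] (hF : Fintype.card F = q ^ 2) (c : F) :
    (Finset.univ.filter (fun t : F => t + t ^ q = c)).card ≤ q := by
  have hq := one_lt_q hF
  have hdeg : (Polynomial.X ^ q + Polynomial.X - Polynomial.C c : Polynomial F).natDegree = q := by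
    rw [Polynomial.natDegree_sub_C, Polynomial.natDegree_add_eq_left_of_natDegree_lt]
    · exact Polynomial.natDegree_X_pow q
    · rw [Polynomial.natDegree_X_pow, Polynomial.natDegree_X]; exact hq
  have hne : (Polynomial.X ^ q + Polynomial.X - Polynomial.C c : Polynomial F) ≠ 0 := by
    intro h
    rw [h, Polynomial.natDegree_zero] at hdeg
    omega
  have := card_filter_le_of_poly _ hne
  rw [hdeg] at this
  refine le_trans (Finset.card_le_card ?_) this
  intro t ht
  rw [Finset.mem_filter] at ht ⊢
  refine ⟨ht.1, ?_⟩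
  simp only [Polynomial.eval_sub, Polynomial.eval_add, Polynomial.eval_pow, Polynomial.eval_X,
    Polynomial.eval_C]
  rw [← ht.2]; ring

theorem card_fix_filter_le [DecidableEq F] (hF : Fintype.card F = q ^ 2) :
    (Finset.univ.filter (fun a : F => a ^ q = a)).card ≤ q := by
  have hq := one_lt_q hF
  have hne := FiniteField.X_pow_card_sub_X_ne_zero F hq
  have hdeg := FiniteField.X_pow_card_sub_X_natDegree_eq F hq
  have := card_filter_le_of_poly _ hne
  rw [hdeg] at this
  refine le_trans (Finset.card_le_card ?_) this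
  intro t ht
  rw [Finset.mem_filter] at ht ⊢
  refine ⟨ht.1, ?_⟩
  simp only [Polynomial.eval_sub, Polynomial.eval_pow, Polynomial.eval_X]
  rw [ht.2, sub_self]

theorem trace_main [DecidableEq F] (hF : Fintype.card F = q ^ 2) :
    (Finset.univ.filter (fun a : F => a ^ q = a)).card = q ∧
    ∀ c : F, c ^ q = c → (Finset.univ.filter (fun t : F => t + t ^ q = c)).card = q := by
  have hq := one_lt_q hF
  have hKle := card_fix_filter_le hF
  set K := Finset.univ.filter (fun a : F => a ^ q = a) with hK
  have hmaps : ∀ t ∈ (Finset.univ : Finset F), t + t ^ q ∈ K := by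
    intro t _
    rw [hK, Finset.mem_filter]
    refine ⟨Finset.mem_univ _, ?_⟩
    rw [add_pow_q hF, pow_q_q hF, add_comm]
  have hsum := Finset.card_eq_sum_card_fiberwise hmaps
  rw [Finset.card_univ, hF] at hsum
  have hsum' : K.card * q ≤
      ∑ c ∈ K, (Finset.univ.filter (fun t : F => t + t ^ q = c)).card := by
    rw [← hsum]
    calc K.card * q ≤ q * q := Nat.mul_le_mul_right q hKle
      _ = q ^ 2 := (sq q).symm
  have hall := eq_of_sum_ge K
    (fun c => (Finset.univ.filter (fun t : F => t + t ^ q = c)).card) q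
    (fun c _ => card_trace_filter_le hF c) hsum'
  have hall' : ∀ c ∈ K, (Finset.univ.filter (fun t : F => t + t ^ q = c)).card = q := hall
  have hKq : K.card = q := by
    have h2 : ∑ c ∈ K, (Finset.univ.filter (fun t : F => t + t ^ q = c)).card = K.card * q := by
      rw [Finset.sum_congr rfl hall', Finset.sum_const, smul_eq_mul]
    rw [h2] at hsum
    have : q * q = K.card * q := by rw [← hsum]; ring
    exact (Nat.eq_of_mul_eq_mul_right (by omega) this).symm
  refine ⟨hKq, fun c hc => hall' c ?_⟩
  rw [hK, Finset.mem_filter]; exact ⟨Finset.mem_univ _, hc⟩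

theorem card_norm_filter_le [DecidableEq F] (a : F) :
    (Finset.univ.filter (fun x : F => x * x ^ q = a)).card ≤ q + 1 := by
  refine le_trans (Finset.card_le_card ?_)
    (le_trans (Multiset.toFinset_card_le _) (Polynomial.card_nthRoots (q + 1) a))
  intro x hx
  rw [Finset.mem_filter] at hx
  rw [Multiset.mem_toFinset, Polynomial.mem_nthRoots (Nat.succ_pos q), pow_succ']
  exact hx.2

theorem norm_main [DecidableEq F] (hF : Fintype.card F = q ^ 2) (a : F) (ha : a ^ q = a)
    (ha0 : a ≠ 0) :
    (Finset.univ.filter (fun x : F => x * x ^ q = a)).card = q + 1 := by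
  have hq := one_lt_q hF
  obtain ⟨hKq, -⟩ := trace_main hF
  set K := Finset.univ.filter (fun a : F => a ^ q = a) with hK
  have h0K : (0 : F) ∈ K := by
    rw [hK, Finset.mem_filter]; exact ⟨Finset.mem_univ _, zero_pow (by omega)⟩
  have hmaps : ∀ x ∈ (Finset.univ.erase (0 : F)), x * x ^ q ∈ K.erase 0 := by
    intro x hx
    have hx0 : x ≠ 0 := Finset.ne_of_mem_erase hx
    rw [Finset.mem_erase, hK, Finset.mem_filter]
    refine ⟨mul_ne_zero hx0 (pow_ne_zero q hx0), Finset.mem_univ _, ?_⟩
    rw [mul_pow, pow_q_q hF, mul_comm]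
  have hsum := Finset.card_eq_sum_card_fiberwise hmaps
  rw [Finset.card_erase_of_mem (Finset.mem_univ _), Finset.card_univ, hF] at hsum
  have hK1 : (K.erase 0).card = q - 1 := by rw [Finset.card_erase_of_mem h0K, hKq]
  have hle : ∀ b ∈ K.erase 0,
      ((Finset.univ.erase (0 : F)).filter (fun x => x * x ^ q = b)).card ≤ q + 1 := by
    intro b _
    refine le_trans (Finset.card_le_card ?_) (card_norm_filter_le b)
    intro x hx
    rw [Finset.mem_filter] at hx ⊢
    exact ⟨Finset.mem_univ _, hx.2⟩
  have hge : (K.erase 0).card * (q + 1) ≤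
      ∑ b ∈ K.erase 0, ((Finset.univ.erase (0 : F)).filter (fun x => x * x ^ q = b)).card := by
    rw [← hsum, hK1, q_arith hq, mul_comm]
  have hall := eq_of_sum_ge (K.erase 0)
    (fun b => ((Finset.univ.erase (0 : F)).filter (fun x => x * x ^ q = b)).card) (q + 1) hle hge
  have haK : a ∈ K.erase 0 := by
    rw [Finset.mem_erase, hK, Finset.mem_filter]; exact ⟨ha0, Finset.mem_univ _, ha⟩
  have h1 : ((Finset.univ.erase (0 : F)).filter (fun x => x * x ^ q = a)).card = q + 1 :=
    hall a haK
  rw [← h1]
  apply congrArg Finset.card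
  ext x
  simp only [Finset.mem_filter, Finset.mem_erase, Finset.mem_univ, true_and, and_true]
  constructor
  · intro hx
    refine ⟨?_, hx⟩
    rintro rfl
    rw [zero_mul] at hx
    exact ha0 hx.symm
  · exact fun hx => hx.2

theorem card_fix (hF : Fintype.card F = q ^ 2) : Nat.card {a : F // a ^ q = a} = q := by
  classical
  rw [Nat.card_eq_fintype_card, Fintype.card_subtype]
  exact (trace_main hF).1

theorem card_trace_fiber (hF : Fintype.card F = q ^ 2) (c : F) (hc : c ^ q = c) :
    Nat.card {t : F // t + t ^ q = c} = q := by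
  classical
  rw [Nat.card_eq_fintype_card, Fintype.card_subtype]
  exact (trace_main hF).2 c hc

theorem card_norm_fiber (hF : Fintype.card F = q ^ 2) (a : F) (ha : a ^ q = a) (ha0 : a ≠ 0) :
    Nat.card {x : F // x * x ^ q = a} = q + 1 := by
  classical
  rw [Nat.card_eq_fintype_card, Fintype.card_subtype]
  exact norm_main hF a ha ha0

theorem norm_surj (hF : Fintype.card F = q ^ 2) (a : F) (ha : a ^ q = a) :
    ∃ x : F, x * x ^ q = a := by
  by_cases ha0 : a = 0
  · exact ⟨0, by rw [ha0, zero_mul]⟩
  · have := card_norm_fiber hF a ha ha0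
    have hpos : 0 < Nat.card {x : F // x * x ^ q = a} := by omega
    obtain ⟨x⟩ := (Nat.card_pos_iff.1 hpos).1
    exact ⟨x.1, x.2⟩

end

end Cfsg.Agent.Lib.Helper2.Herm
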