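import Mathlib
import Cfsg.Prelude.Def_Classical
import Cfsg.Agent.S0779
import Cfsg.Agent.Lib.Helper2.HermField

set_option autoImplicit false
set_option linter.style.haveILetI false
set_option linter.unusedSectionVars false

namespace Cfsg.Agent.Lib.Helper2.Herm

open Cfsg.Agent.S0779

section
variable {F : Type*} [Field F] [Fintype F] {q : ℕ}

theorem cnt_unif (hF : Fintype.card F = q ^ 2) (n : ℕ) (a : F) (ha : a ^ q = a) (ha0 : a ≠ 0) :
    Nat.card {v : Fin n → F // Cfsg.hermForm n F q v v = a} =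
      Nat.card {v : Fin n → F // Cfsg.hermForm n F q v v = 1} := by
  obtain ⟨l, hl⟩ := norm_surj hF a ha
  have hl0 : l ≠ 0 := by
    rintro rfl
    rw [zero_mul] at hl
    exact ha0 hl.symm
  apply Nat.card_congr
  refine
    { toFun := fun v => ⟨l⁻¹ • v.1, ?_⟩
      invFun := fun v => ⟨l • v.1, ?_⟩
      left_inv := fun v => Subtype.ext (smul_inv_smul₀ hl0 v.1)
      right_inv := fun v => Subtype.ext (inv_smul_smul₀ hl0 v.1) }
  · rw [herm_smul_left, herm_smul_right, v.2, ← hl, inv_pow]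
    have : l ^ q ≠ 0 := pow_ne_zero q hl0
    field_simp
  · rw [herm_smul_left, herm_smul_right, v.2, mul_one, hl]

theorem cnt_total (hF : Fintype.card F = q ^ 2) (n : ℕ) :
    Nat.card {v : Fin n → F // Cfsg.hermForm n F q v v = 0} +
      (q - 1) * Nat.card {v : Fin n → F // Cfsg.hermForm n F q v v = 1} = q ^ (2 * n) := by
  classical
  have hq := one_lt_q hF
  obtain ⟨hKq, -⟩ := trace_main hF
  set K := Finset.univ.filter (fun a : F => a ^ q = a) with hK
  have h0K : (0 : F) ∈ K := by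
    rw [hK, Finset.mem_filter]; exact ⟨Finset.mem_univ _, zero_pow (by omega)⟩
  have h1 := sum_fibers (fun v : Fin n → F => Cfsg.hermForm n F q v v)
  have hcard : Nat.card (Fin n → F) = q ^ (2 * n) := by
    rw [Nat.card_eq_fintype_card, Fintype.card_fun, Fintype.card_fin, hF, ← pow_mul]
  rw [hcard] at h1
  have h2 : ∑ a : F, Nat.card {v : Fin n → F // Cfsg.hermForm n F q v v = a} =
      ∑ a ∈ K, Nat.card {v : Fin n → F // Cfsg.hermForm n F q v v = a} := by
    symm
    apply Finset.sum_subset (Finset.subset_univ K)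
    intro a _ haK
    rw [Nat.card_eq_zero]
    left
    constructor
    rintro ⟨v, hv⟩
    apply haK
    rw [hK, Finset.mem_filter]
    exact ⟨Finset.mem_univ _, by rw [← hv]; exact herm_pow_q n hF v v⟩
  rw [h2, ← Finset.add_sum_erase K _ h0K] at h1
  have h4 : ∀ a ∈ K.erase 0, Nat.card {v : Fin n → F // Cfsg.hermForm n F q v v = a} =
      Nat.card {v : Fin n → F // Cfsg.hermForm n F q v v = 1} := by
    intro a ha
    rw [Finset.mem_erase, hK, Finset.mem_filter] at ha
    exact cnt_unif hF n a ha.2.2 ha.1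
  rw [Finset.sum_congr rfl h4, Finset.sum_const, smul_eq_mul, Finset.card_erase_of_mem h0K,
    hKq] at h1
  exact h1.symm

theorem herm_cons (n : ℕ) (v : Fin (n + 1) → F) :
    Cfsg.hermForm (n + 1) F q v v =
      v 0 * v 0 ^ q + Cfsg.hermForm n F q (Fin.tail v) (Fin.tail v) := by
  unfold Cfsg.hermForm
  rw [Fin.sum_univ_succ]
  rfl

theorem cnt_succ_zero (hF : Fintype.card F = q ^ 2) (n : ℕ) :
    Nat.card {v : Fin (n + 1) → F // Cfsg.hermForm (n + 1) F q v v = 0} =
      Nat.card {v : Fin n → F // Cfsg.hermForm n F q v v = 0} +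
        (q ^ 2 - 1) * Nat.card {v : Fin n → F // Cfsg.hermForm n F q v v = 1} := by
  classical
  have hq := one_lt_q hF
  have h1 := sum_fibers
    (fun v : {v : Fin (n + 1) → F // Cfsg.hermForm (n + 1) F q v v = 0} => v.1 0)
  have hfib : ∀ x : F,
      Nat.card {v : {v : Fin (n + 1) → F // Cfsg.hermForm (n + 1) F q v v = 0} // v.1 0 = x} =
        Nat.card {w : Fin n → F // Cfsg.hermForm n F q w w = -(x * x ^ q)} := by
    intro x
    apply Nat.card_congr
    refine
      { toFun := fun v => ⟨Fin.tail v.1.1, ?_⟩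
        invFun := fun w => ⟨⟨Fin.cons x w.1, ?_⟩, rfl⟩
        left_inv := fun v => ?_
        right_inv := fun w => ?_ }
    · have h := v.1.2
      rw [herm_cons, v.2] at h
      exact eq_neg_of_add_eq_zero_right h
    · rw [herm_cons, Fin.cons_zero, Fin.tail_cons, w.2, add_neg_cancel]
    · apply Subtype.ext
      apply Subtype.ext
      show Fin.cons x (Fin.tail v.1.1) = v.1.1
      have hx : v.1.1 0 = x := v.2
      have h2 : (Fin.cons (v.1.1 0) (Fin.tail v.1.1) : Fin (n + 1) → F) = v.1.1 :=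
        Fin.cons_self_tail _
      rw [hx] at h2
      exact h2
    · apply Subtype.ext
      show Fin.tail (Fin.cons x w.1 : Fin (n + 1) → F) = w.1
      exact Fin.tail_cons _ _
  rw [Finset.sum_congr rfl (fun x _ => hfib x)] at h1
  rw [h1, ← Finset.add_sum_erase Finset.univ _ (Finset.mem_univ (0 : F))]
  have h5 : ∀ x ∈ Finset.univ.erase (0 : F),
      Nat.card {w : Fin n → F // Cfsg.hermForm n F q w w = -(x * x ^ q)} =
        Nat.card {w : Fin n → F // Cfsg.hermForm n F q w w = 1} := by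
    intro x hx
    have hx0 : x ≠ 0 := Finset.ne_of_mem_erase hx
    apply cnt_unif hF n
    · rw [neg_pow_q hF, mul_pow, pow_q_q hF, mul_comm]
    · exact neg_ne_zero.2 (mul_ne_zero hx0 (pow_ne_zero q hx0))
  rw [Finset.sum_congr rfl h5, Finset.sum_const, smul_eq_mul,
    Finset.card_erase_of_mem (Finset.mem_univ _), Finset.card_univ, hF, zero_mul, neg_zero]

theorem z_rec (hF : Fintype.card F = q ^ 2) (n : ℕ) :
    Nat.card {v : Fin (n + 1) → F // Cfsg.hermForm (n + 1) F q v v = 0} +
      q * Nat.card {v : Fin n → F // Cfsg.hermForm n F q v v = 0} = (q + 1) * q ^ (2 * n) := by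
  have hq := one_lt_q hF
  have h1 := cnt_succ_zero hF n
  have h2 := cnt_total hF n
  rw [h1, q_arith hq, ← h2]
  ring

theorem cnt_zero_zero :
    Nat.card {v : Fin 0 → F // Cfsg.hermForm 0 F q v v = 0} = 1 := by
  have h : ∀ v : Fin 0 → F, Cfsg.hermForm 0 F q v v = 0 := fun v => by
    unfold Cfsg.hermForm; simp
  rw [Nat.card_congr (Equiv.subtypeUnivEquiv h)]
  simp

/-- closed forms in additive shape -/
theorem z_one (hF : Fintype.card F = q ^ 2) :
    Nat.card {v : Fin 1 → F // Cfsg.hermForm 1 F q v v = 0} = 1 := by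
  have h : Nat.card {v : Fin 1 → F // Cfsg.hermForm 1 F q v v = 0} +
      q * Nat.card {v : Fin 0 → F // Cfsg.hermForm 0 F q v v = 0} = (q + 1) * q ^ (2 * 0) :=
    z_rec hF 0
  rw [cnt_zero_zero] at h
  simp only [mul_zero, pow_zero, mul_one] at h
  omega

theorem z_two (hF : Fintype.card F = q ^ 2) :
    Nat.card {v : Fin 2 → F // Cfsg.hermForm 2 F q v v = 0} + q = q ^ 3 + q ^ 2 := by
  have h := z_rec hF 1
  rw [z_one hF] at h
  simp only [Nat.reduceAdd, mul_one] at h
  rw [h]; ring

theorem z_three (hF : Fintype.card F = q ^ 2) :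
    Nat.card {v : Fin 3 → F // Cfsg.hermForm 3 F q v v = 0} + q ^ 3 = q ^ 5 + q ^ 2 := by
  have h := z_rec hF 2
  have h2 := z_two hF
  simp only [Nat.reduceAdd, Nat.reduceMul] at h
  have e : q * (Nat.card {v : Fin 2 → F // Cfsg.hermForm 2 F q v v = 0} + q) =
      q * (q ^ 3 + q ^ 2) := by rw [h2]
  nlinarith [h, e]

theorem z_four (hF : Fintype.card F = q ^ 2) :
    Nat.card {v : Fin 4 → F // Cfsg.hermForm 4 F q v v = 0} + q ^ 3 = q ^ 7 + q ^ 4 := by
  have h := z_rec hF 3
  have h2 := z_three hF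
  simp only [Nat.reduceAdd, Nat.reduceMul] at h
  have e : q * (Nat.card {v : Fin 3 → F // Cfsg.hermForm 3 F q v v = 0} + q ^ 3) =
      q * (q ^ 5 + q ^ 2) := by rw [h2]
  nlinarith [h, e]

theorem z_five (hF : Fintype.card F = q ^ 2) :
    Nat.card {v : Fin 5 → F // Cfsg.hermForm 5 F q v v = 0} + q ^ 5 = q ^ 9 + q ^ 4 := by
  have h := z_rec hF 4
  have h2 := z_four hF
  simp only [Nat.reduceAdd, Nat.reduceMul] at h
  have e : q * (Nat.card {v : Fin 4 → F // Cfsg.hermForm 4 F q v v = 0} + q ^ 3) =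
      q * (q ^ 7 + q ^ 4) := by rw [h2]
  nlinarith [h, e]

end

end Cfsg.Agent.Lib.Helper2.Herm
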