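import Mathlib
import Cfsg.Prelude.Def_Classical
import Cfsg.Agent.S0779
import Cfsg.Agent.Lib.Helper2.HermField
import Cfsg.Agent.Lib.Helper2.HermCount

set_option autoImplicit false
set_option linter.style.haveILetI false
set_option linter.unusedSectionVars false

namespace Cfsg.Agent.Lib.Helper2.Herm

open Cfsg.Agent.S0779

section
variable {F : Type*} [Field F] [Fintype F] {q : ℕ}

theorem exists_herm_one (n : ℕ) (v : Fin n → F) (hv : v ≠ 0) :
    ∃ w0 : Fin n → F, Cfsg.hermForm n F q w0 v = 1 := by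
  classical
  obtain ⟨i, hi⟩ := Function.ne_iff.1 hv
  have hi' : v i ^ q ≠ 0 := pow_ne_zero q hi
  refine ⟨Pi.single i ((v i ^ q)⁻¹), ?_⟩
  unfold Cfsg.hermForm
  rw [Finset.sum_eq_single i]
  · rw [Pi.single_eq_same, inv_mul_cancel₀ hi']
  · intro j _ hj
    rw [Pi.single_eq_of_ne hj, zero_mul]
  · intro h
    exact absurd (Finset.mem_univ i) h

/-- the affine hyperplane `h(w, v) = 1` -/
theorem card_H1 (hF : Fintype.card F = q ^ 2) (n : ℕ) (v : Fin n → F) (hv : v ≠ 0) :
    q ^ 2 * Nat.card {w : Fin n → F // Cfsg.hermForm n F q w v = 1} = q ^ (2 * n) := by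
  obtain ⟨w0, hw0⟩ := exists_herm_one (q := q) n v hv
  have hcard : Nat.card (Fin n → F) = q ^ (2 * n) := by
    classical
    rw [Nat.card_eq_fintype_card, Fintype.card_fun, Fintype.card_fin, hF, ← pow_mul]
  have hfib : ∀ l : F, Nat.card {w : Fin n → F // Cfsg.hermForm n F q w v = l} =
      Nat.card {w : Fin n → F // Cfsg.hermForm n F q w v = 1} := by
    intro l
    apply Nat.card_congr
    refine
      { toFun := fun w => ⟨w.1 + (1 - l) • w0, ?_⟩
        invFun := fun w => ⟨w.1 + (-(1 - l)) • w0, ?_⟩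
        left_inv := fun w => ?_
        right_inv := fun w => ?_ }
    · rw [herm_add_left, herm_smul_left, w.2, hw0]; ring
    · rw [herm_add_left, herm_smul_left, w.2, hw0]; ring
    · apply Subtype.ext
      show w.1 + (1 - l) • w0 + (-(1 - l)) • w0 = w.1
      rw [neg_smul, add_neg_cancel_right]
    · apply Subtype.ext
      show w.1 + (-(1 - l)) • w0 + (1 - l) • w0 = w.1
      rw [neg_smul, neg_add_cancel_right]
  have h1 := card_fibers (fun w : Fin n → F => Cfsg.hermForm n F q w v) _ hfib
  rw [hcard, Nat.card_eq_fintype_card (α := F), hF] at h1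
  exact h1.symm

/-- key expansion along an isotropic vector -/
theorem herm_add_smul_self (hF : Fintype.card F = q ^ 2) (n : ℕ) (v w : Fin n → F)
    (hv0 : Cfsg.hermForm n F q v v = 0) (hwv : Cfsg.hermForm n F q w v = 1) (t : F) :
    Cfsg.hermForm n F q (w + t • v) (w + t • v) = Cfsg.hermForm n F q w w + (t + t ^ q) := by
  have hvw : Cfsg.hermForm n F q v w = 1 := by
    rw [← herm_pow_q n hF w v, hwv, one_pow]
  rw [herm_add_left, herm_add_right n hF, herm_add_right n hF, herm_smul_left, herm_smul_left,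
    herm_smul_right, herm_smul_right, hv0, hwv, hvw]
  ring

theorem herm_self_fix (hF : Fintype.card F = q ^ 2) (n : ℕ) (w : Fin n → F) :
    (Cfsg.hermForm n F q w w) ^ q = Cfsg.hermForm n F q w w := herm_pow_q n hF w w

/-- isotropic vectors on the affine hyperplane -/
theorem card_A1 (hF : Fintype.card F = q ^ 2) (n : ℕ) (v : Fin n → F)
    (hv0 : Cfsg.hermForm n F q v v = 0) :
    Nat.card {w : Fin n → F // Cfsg.hermForm n F q w w = 0 ∧ Cfsg.hermForm n F q w v = 1} * q =
      Nat.card {w : Fin n → F // Cfsg.hermForm n F q w v = 1} := by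
  have hq := one_lt_q hF
  -- the incidence set
  have hP1 : Nat.card {p : {w : Fin n → F // Cfsg.hermForm n F q w v = 1} × F //
      Cfsg.hermForm n F q (p.1.1 + p.2 • v) (p.1.1 + p.2 • v) = 0} =
      Nat.card {w : Fin n → F // Cfsg.hermForm n F q w v = 1} * q := by
    apply card_fibers (fun p : {p : {w : Fin n → F // Cfsg.hermForm n F q w v = 1} × F //
      Cfsg.hermForm n F q (p.1.1 + p.2 • v) (p.1.1 + p.2 • v) = 0} => p.1.1)
    intro w
    have hc := card_trace_fiber hF (-(Cfsg.hermForm n F q w.1 w.1))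
      (by rw [neg_pow_q hF, herm_self_fix hF])
    refine (Nat.card_congr ?_).trans hc
    refine
      { toFun := fun p => ⟨p.1.1.2, ?_⟩
        invFun := fun t => ⟨⟨(w, t.1), ?_⟩, rfl⟩
        left_inv := fun p => ?_
        right_inv := fun t => rfl }
    · have h := p.1.2
      have hw : p.1.1.1 = w := p.2
      rw [hw, herm_add_smul_self hF n v w.1 hv0 w.2] at h
      exact eq_neg_of_add_eq_zero_right h
    · show Cfsg.hermForm n F q (w.1 + t.1 • v) (w.1 + t.1 • v) = 0
      rw [herm_add_smul_self hF n v w.1 hv0 w.2, t.2, add_neg_cancel]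
    · have hw : p.1.1.1 = w := p.2
      exact Subtype.ext (Subtype.ext (Prod.ext hw.symm rfl))
  have hP2 : Nat.card {p : {w : Fin n → F // Cfsg.hermForm n F q w v = 1} × F //
      Cfsg.hermForm n F q (p.1.1 + p.2 • v) (p.1.1 + p.2 • v) = 0} =
      Nat.card {w : Fin n → F // Cfsg.hermForm n F q w w = 0 ∧ Cfsg.hermForm n F q w v = 1} *
        q ^ 2 := by
    rw [← hF, ← Nat.card_eq_fintype_card (α := F), ← Nat.card_prod]
    apply Nat.card_congr
    refine
      { toFun := fun p => (⟨p.1.1.1 + p.1.2 • v, p.2, ?_⟩, p.1.2)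
        invFun := fun s => ⟨(⟨s.1.1 + (-s.2) • v, ?_⟩, s.2), ?_⟩
        left_inv := fun p => ?_
        right_inv := fun s => ?_ }
    · rw [herm_add_left, herm_smul_left, hv0, p.1.1.2, mul_zero, add_zero]
    · rw [herm_add_left, herm_smul_left, hv0, s.1.2.2, mul_zero, add_zero]
    · show Cfsg.hermForm n F q (s.1.1 + (-s.2) • v + s.2 • v) (s.1.1 + (-s.2) • v + s.2 • v) = 0
      rw [neg_smul, neg_add_cancel_right]
      exact s.1.2.1
    · apply Subtype.ext
      apply Prod.ext
      · apply Subtype.ext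
        show p.1.1.1 + p.1.2 • v + (-p.1.2) • v = p.1.1.1
        rw [neg_smul, add_neg_cancel_right]
      · rfl
    · apply Prod.ext
      · apply Subtype.ext
        show s.1.1 + (-s.2) • v + s.2 • v = s.1.1
        rw [neg_smul, neg_add_cancel_right]
      · rfl
  rw [hP1] at hP2
  have h3 : Nat.card {w : Fin n → F // Cfsg.hermForm n F q w v = 1} * q =
      (Nat.card {w : Fin n → F // Cfsg.hermForm n F q w w = 0 ∧
        Cfsg.hermForm n F q w v = 1} * q) * q := by
    rw [hP2]; ring
  exact (Nat.eq_of_mul_eq_mul_right (by omega) h3).symm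

/-- isotropic vectors orthogonal to an isotropic vector -/
theorem card_A0 (hF : Fintype.card F = q ^ 2) (n : ℕ) (v : Fin n → F) :
    Nat.card {w : Fin n → F // Cfsg.hermForm n F q w w = 0 ∧ Cfsg.hermForm n F q w v = 0} +
      (q ^ 2 - 1) *
        Nat.card {w : Fin n → F // Cfsg.hermForm n F q w w = 0 ∧ Cfsg.hermForm n F q w v = 1} =
      Nat.card {w : Fin n → F // Cfsg.hermForm n F q w w = 0} := by
  classical
  have h1 := sum_fibers
    (fun w : {w : Fin n → F // Cfsg.hermForm n F q w w = 0} => Cfsg.hermForm n F q w.1 v)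
  have hfib : ∀ l : F,
      Nat.card {w : {w : Fin n → F // Cfsg.hermForm n F q w w = 0} //
        Cfsg.hermForm n F q w.1 v = l} =
      Nat.card {w : Fin n → F // Cfsg.hermForm n F q w w = 0 ∧ Cfsg.hermForm n F q w v = l} :=
    fun l => Nat.card_congr (Equiv.subtypeSubtypeEquivSubtypeInter
      (fun w : Fin n → F => Cfsg.hermForm n F q w w = 0)
      (fun w : Fin n → F => Cfsg.hermForm n F q w v = l))
  rw [Finset.sum_congr rfl (fun l _ => hfib l)] at h1
  rw [h1, ← Finset.add_sum_erase Finset.univ _ (Finset.mem_univ (0 : F))]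
  have h5 : ∀ l ∈ Finset.univ.erase (0 : F),
      Nat.card {w : Fin n → F // Cfsg.hermForm n F q w w = 0 ∧ Cfsg.hermForm n F q w v = l} =
      Nat.card {w : Fin n → F // Cfsg.hermForm n F q w w = 0 ∧ Cfsg.hermForm n F q w v = 1} := by
    intro l hl
    have hl0 : l ≠ 0 := Finset.ne_of_mem_erase hl
    apply Nat.card_congr
    refine
      { toFun := fun w => ⟨l⁻¹ • w.1, ?_, ?_⟩
        invFun := fun w => ⟨l • w.1, ?_, ?_⟩
        left_inv := fun w => Subtype.ext (smul_inv_smul₀ hl0 w.1)
        right_inv := fun w => Subtype.ext (inv_smul_smul₀ hl0 w.1) }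
    · rw [herm_smul_left, herm_smul_right, w.2.1, mul_zero, mul_zero]
    · rw [herm_smul_left, w.2.2, inv_mul_cancel₀ hl0]
    · rw [herm_smul_left, herm_smul_right, w.2.1, mul_zero, mul_zero]
    · rw [herm_smul_left, w.2.2, mul_one]
  rw [Finset.sum_congr rfl h5, Finset.sum_const, smul_eq_mul,
    Finset.card_erase_of_mem (Finset.mem_univ _), Finset.card_univ, hF]

end

end Cfsg.Agent.Lib.Helper2.Herm
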