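import Mathlib
import Cfsg.Prelude.Def_Classical
import Cfsg.Agent.S0779
import Cfsg.Agent.Lib.Helper2.HermField
import Cfsg.Agent.Lib.Helper2.HermCount
import Cfsg.Agent.Lib.Helper2.HermPerp

set_option autoImplicit false
set_option linter.style.haveILetI false
set_option linter.unusedSectionVars false

namespace Cfsg.Agent.Lib.Helper2.Herm

open Cfsg.Agent.S0779

theorem card_add_of_imp {α : Type*} [Finite α] (p r : α → Prop) (h : ∀ x, r x → p x) :
    Nat.card {x // p x ∧ ¬ r x} + Nat.card {x // r x} = Nat.card {x // p x} := by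
  classical
  haveI := Fintype.ofFinite α
  rw [Nat.card_eq_fintype_card, Nat.card_eq_fintype_card, Nat.card_eq_fintype_card,
    Fintype.card_subtype, Fintype.card_subtype, Fintype.card_subtype]
  have h1 : (Finset.univ.filter (fun x => p x ∧ ¬ r x)) =
      (Finset.univ.filter p) \ (Finset.univ.filter r) := by
    ext x; simp
  have h2 : Finset.univ.filter r ⊆ Finset.univ.filter p := by
    intro x hx
    rw [Finset.mem_filter] at hx ⊢
    exact ⟨hx.1, h x hx.2⟩
  rw [h1, Finset.card_sdiff_add_card_eq_card h2]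

section
variable {F : Type*} [Field F] [Fintype F] {q : ℕ}

theorem finSubH (n : ℕ) : Finite (Submodule F (Fin n → F)) :=
  Finite.of_injective (fun W : Submodule F (Fin n → F) => (W : Set (Fin n → F)))
    SetLike.coe_injective

theorem herm_zero_right (hF : Fintype.card F = q ^ 2) (n : ℕ) (x : Fin n → F) :
    Cfsg.hermForm n F q x 0 = 0 := by
  have := herm_add_right n hF x 0 0
  rw [add_zero] at this
  simpa using this

theorem herm_zero_left (n : ℕ) (x : Fin n → F) :
    Cfsg.hermForm n F q 0 x = 0 := by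
  have := herm_add_left (q := q) n 0 0 x
  rw [add_zero] at this
  simpa using this

theorem herm_ti_span (hF : Fintype.card F = q ^ 2) (n : ℕ) {k : ℕ} (z : Fin k → (Fin n → F))
    (hz : ∀ i j, Cfsg.hermForm n F q (z i) (z j) = 0) :
    ∀ u ∈ Submodule.span F (Set.range z), ∀ w ∈ Submodule.span F (Set.range z),
      Cfsg.hermForm n F q u w = 0 := by
  have h1 : ∀ w ∈ Submodule.span F (Set.range z), ∀ i, Cfsg.hermForm n F q (z i) w = 0 := by
    intro w hw i
    refine Submodule.span_induction (p := fun w _ => Cfsg.hermForm n F q (z i) w = 0)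
      ?_ ?_ ?_ ?_ hw
    · rintro _ ⟨j, rfl⟩
      exact hz i j
    · exact herm_zero_right hF n _
    · intro a b _ _ ha hb
      rw [herm_add_right n hF, ha, hb, add_zero]
    · intro c a _ ha
      rw [herm_smul_right, ha, mul_zero]
  intro u hu w hw
  refine Submodule.span_induction (p := fun u _ => Cfsg.hermForm n F q u w = 0) ?_ ?_ ?_ ?_ hu
  · rintro _ ⟨i, rfl⟩
    exact h1 w hw i
  · exact herm_zero_left n _
  · intro a b _ _ ha hb
    rw [herm_add_left, ha, hb, add_zero]
  · intro c a _ ha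
    rw [herm_smul_left, ha, mul_zero]

theorem pair_facts (hF : Fintype.card F = q ^ 2) (n : ℕ) (v w : Fin n → F) (hv : v ≠ 0)
    (hv0 : Cfsg.hermForm n F q v v = 0) (hw0 : Cfsg.hermForm n F q w w = 0)
    (hwv : Cfsg.hermForm n F q w v = 0) (hw : ∀ a : F, a • v ≠ w) :
    Module.finrank F ↥(Submodule.span F (Set.range ![v, w])) = 2 ∧
    (∀ u ∈ Submodule.span F (Set.range ![v, w]), ∀ x ∈ Submodule.span F (Set.range ![v, w]),
      Cfsg.hermForm n F q u x = 0) := by
  have hvw : Cfsg.hermForm n F q v w = 0 := by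
    rw [← herm_pow_q n hF w v, hwv, zero_pow]
    have := one_lt_q hF
    omega
  constructor
  · have hli : LinearIndependent F ![v, w] := (LinearIndependent.pair_iff' hv).2 hw
    rw [finrank_span_eq_card hli, Fintype.card_fin]
  · apply herm_ti_span hF n
    intro i j
    fin_cases i <;> fin_cases j
    · exact hv0
    · exact hvw
    · exact hwv
    · exact hw0

theorem card_multiples (hF : Fintype.card F = q ^ 2) (n : ℕ) (v : Fin n → F) (hv : v ≠ 0) :
    Nat.card {w : Fin n → F // ∃ a : F, a • v = w} = q ^ 2 := by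
  have hinj : Function.Injective (fun a : F => a • v) := smul_left_injective F hv
  rw [← hF, ← Nat.card_eq_fintype_card]
  exact (Nat.card_congr (Equiv.ofInjective _ hinj)).symm

theorem card_mem (hF : Fintype.card F = q ^ 2) (n : ℕ) (W : Submodule F (Fin n → F))
    (hW : Module.finrank F W = 2) :
    Nat.card {x : Fin n → F // x ∈ W} = (q ^ 2) ^ 2 := by
  have := Module.natCard_eq_pow_finrank (K := F) (V := ↥W)
  rw [hW, Nat.card_eq_fintype_card (α := F), hF] at this
  exact this

theorem card_Frv (hF : Fintype.card F = q ^ 2) (n : ℕ) (v : Fin n → F) (hv : v ≠ 0)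
    (hv0 : Cfsg.hermForm n F q v v = 0) :
    Nat.card {w : Fin n → F // (Cfsg.hermForm n F q w w = 0 ∧ Cfsg.hermForm n F q w v = 0) ∧
      ∀ a : F, a • v ≠ w} + q ^ 2 =
      Nat.card {w : Fin n → F // Cfsg.hermForm n F q w w = 0 ∧ Cfsg.hermForm n F q w v = 0} := by
  have h1 : Nat.card {w : Fin n → F // (Cfsg.hermForm n F q w w = 0 ∧
      Cfsg.hermForm n F q w v = 0) ∧ ¬ ∃ a : F, a • v = w} +
      Nat.card {w : Fin n → F // ∃ a : F, a • v = w} =
      Nat.card {w : Fin n → F // Cfsg.hermForm n F q w w = 0 ∧ Cfsg.hermForm n F q w v = 0} :=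
    card_add_of_imp
      (fun w : Fin n → F => Cfsg.hermForm n F q w w = 0 ∧ Cfsg.hermForm n F q w v = 0)
      (fun w => ∃ a : F, a • v = w) (by
        rintro w ⟨a, rfl⟩
        constructor
        · show Cfsg.hermForm n F q (a • v) (a • v) = 0
          rw [herm_smul_left, herm_smul_right, hv0, mul_zero, mul_zero]
        · show Cfsg.hermForm n F q (a • v) v = 0
          rw [herm_smul_left, hv0, mul_zero])
  rw [card_multiples hF n v hv] at h1
  rw [← h1]
  congr 1
  exact Nat.card_congr (Equiv.subtypeEquivRight (fun w => and_congr Iff.rfl not_exists.symm))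

/-- totally isotropic planes through an isotropic vector -/
theorem card_TIv (hF : Fintype.card F = q ^ 2) (n : ℕ) (v : Fin n → F) (hv : v ≠ 0)
    (hv0 : Cfsg.hermForm n F q v v = 0) :
    Nat.card {W : Submodule F (Fin n → F) // Module.finrank F W = 2 ∧ v ∈ W ∧
      ∀ u ∈ W, ∀ w ∈ W, Cfsg.hermForm n F q u w = 0} * ((q ^ 2) ^ 2 - q ^ 2) + q ^ 2 =
      Nat.card {w : Fin n → F // Cfsg.hermForm n F q w w = 0 ∧ Cfsg.hermForm n F q w v = 0} := by
  classical
  haveI := finSubH (F := F) n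
  let sp : {w : Fin n → F // (Cfsg.hermForm n F q w w = 0 ∧ Cfsg.hermForm n F q w v = 0) ∧
      ∀ a : F, a • v ≠ w} →
      {W : Submodule F (Fin n → F) // Module.finrank F W = 2 ∧ v ∈ W ∧
        ∀ u ∈ W, ∀ w ∈ W, Cfsg.hermForm n F q u w = 0} :=
    fun w => ⟨Submodule.span F (Set.range ![v, w.1]),
      (pair_facts hF n v w.1 hv hv0 w.2.1.1 w.2.1.2 w.2.2).1,
      Submodule.subset_span ⟨0, rfl⟩, (pair_facts hF n v w.1 hv hv0 w.2.1.1 w.2.1.2 w.2.2).2⟩
  have hfib : ∀ W, Nat.card {w // sp w = W} = (q ^ 2) ^ 2 - q ^ 2 := by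
    intro W
    have hcount : Nat.card {w : Fin n → F // w ∈ W.1 ∧ ∀ a : F, a • v ≠ w} =
        (q ^ 2) ^ 2 - q ^ 2 := by
      have h1 : Nat.card {w : Fin n → F // w ∈ W.1 ∧ ¬ ∃ a : F, a • v = w} =
          Nat.card {w : Fin n → F // w ∈ W.1} -
            Nat.card {w : Fin n → F // ∃ a : F, a • v = w} :=
        card_sub_of_imp (fun w : Fin n → F => w ∈ W.1) (fun w => ∃ a : F, a • v = w)
          (by
            rintro w ⟨a, rfl⟩
            exact W.1.smul_mem a W.2.2.1)
      rw [card_mem hF n W.1 W.2.1, card_multiples hF n v hv] at h1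
      rw [← h1]
      exact Nat.card_congr (Equiv.subtypeEquivRight (fun w => and_congr Iff.rfl not_exists.symm))
    rw [← hcount]
    apply Nat.card_congr
    refine
      { toFun := fun w => ⟨w.1.1, ?_, w.1.2.2⟩
        invFun := fun w => ⟨⟨w.1, ⟨W.2.2.2 w.1 w.2.1 w.1 w.2.1,
          W.2.2.2 w.1 w.2.1 v W.2.2.1⟩, w.2.2⟩, ?_⟩
        left_inv := fun w => rfl
        right_inv := fun w => rfl }
    · have h' : Submodule.span F (Set.range ![v, w.1.1]) = W.1 := congrArg Subtype.val w.2
      rw [← h']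
      exact Submodule.subset_span ⟨1, rfl⟩
    · apply Subtype.ext
      show Submodule.span F (Set.range ![v, w.1]) = W.1
      apply Submodule.eq_of_le_of_finrank_eq
      · rw [Submodule.span_le]
        rintro _ ⟨i, rfl⟩
        fin_cases i
        · exact W.2.2.1
        · exact w.2.1
      · rw [(pair_facts hF n v w.1 hv hv0 (W.2.2.2 w.1 w.2.1 w.1 w.2.1)
          (W.2.2.2 w.1 w.2.1 v W.2.2.1) w.2.2).1, W.2.1]
  have hmain := card_fibers sp ((q ^ 2) ^ 2 - q ^ 2) hfib
  rw [← hmain]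
  exact card_Frv hF n v hv hv0

/-- flags (nonzero vector, totally isotropic plane containing it) -/
abbrev Fl (F : Type*) [Field F] (q n : ℕ) : Type _ :=
  {p : (Fin n → F) × Submodule F (Fin n → F) // p.1 ≠ 0 ∧
    Module.finrank F p.2 = 2 ∧ p.1 ∈ p.2 ∧ ∀ u ∈ p.2, ∀ w ∈ p.2, Cfsg.hermForm n F q u w = 0}

theorem card_TI (hF : Fintype.card F = q ^ 2) (n : ℕ) (nv : ℕ)
    (hnv : ∀ v : Fin n → F, v ≠ 0 → Cfsg.hermForm n F q v v = 0 →
      Nat.card {W : Submodule F (Fin n → F) // Module.finrank F W = 2 ∧ v ∈ W ∧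
        ∀ u ∈ W, ∀ w ∈ W, Cfsg.hermForm n F q u w = 0} = nv) :
    Nat.card {W : Submodule F (Fin n → F) // Module.finrank F W = 2 ∧
      ∀ u ∈ W, ∀ v ∈ W, Cfsg.hermForm n F q u v = 0} * ((q ^ 2) ^ 2 - 1) + nv =
      Nat.card {v : Fin n → F // Cfsg.hermForm n F q v v = 0} * nv := by
  classical
  haveI := finSubH (F := F) n
  let pr1 : Fl F q n → {v : Fin n → F // Cfsg.hermForm n F q v v = 0 ∧ ¬ v = 0} :=
    fun p => ⟨p.1.1, p.2.2.2.2 _ p.2.2.2.1 _ p.2.2.2.1, p.2.1⟩
  let pr2 : Fl F q n → {W : Submodule F (Fin n → F) // Module.finrank F W = 2 ∧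
      ∀ u ∈ W, ∀ v ∈ W, Cfsg.hermForm n F q u v = 0} := fun p => ⟨p.1.2, p.2.2.1, p.2.2.2.2⟩
  have h1 : Nat.card (Fl F q n) =
      Nat.card {v : Fin n → F // Cfsg.hermForm n F q v v = 0 ∧ ¬ v = 0} * nv := by
    apply card_fibers pr1
    intro v
    rw [← hnv v.1 v.2.2 v.2.1]
    apply Nat.card_congr
    refine
      { toFun := fun p => ⟨p.1.1.2, p.1.2.2.1, ?_, p.1.2.2.2.2⟩
        invFun := fun W => ⟨⟨(v.1, W.1), v.2.2, W.2.1, W.2.2.1, W.2.2.2⟩, rfl⟩
        left_inv := fun p => ?_
        right_inv := fun W => rfl }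
    · have h : p.1.1.1 = v.1 := congrArg Subtype.val p.2
      rw [← h]
      exact p.1.2.2.2.1
    · have h : p.1.1.1 = v.1 := congrArg Subtype.val p.2
      exact Subtype.ext (Subtype.ext (Prod.ext h.symm rfl))
  have h2 : Nat.card (Fl F q n) = Nat.card {W : Submodule F (Fin n → F) //
      Module.finrank F W = 2 ∧ ∀ u ∈ W, ∀ v ∈ W, Cfsg.hermForm n F q u v = 0} *
      ((q ^ 2) ^ 2 - 1) := by
    apply card_fibers pr2
    intro W
    have hcount : Nat.card {x : Fin n → F // x ∈ W.1 ∧ x ≠ 0} = (q ^ 2) ^ 2 - 1 := by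
      have h1 : Nat.card {x : Fin n → F // x ∈ W.1 ∧ ¬ x = 0} =
          Nat.card {x : Fin n → F // x ∈ W.1} - Nat.card {x : Fin n → F // x = 0} :=
        card_sub_of_imp (fun x : Fin n → F => x ∈ W.1) (fun x => x = 0)
          (by
            rintro x rfl
            exact W.1.zero_mem)
      have h3 : Nat.card {x : Fin n → F // x = 0} = 1 := by
        rw [Nat.card_eq_fintype_card, Fintype.card_subtype_eq]
      rw [card_mem hF n W.1 W.2.1, h3] at h1
      exact h1
    rw [← hcount]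
    apply Nat.card_congr
    refine
      { toFun := fun p => ⟨p.1.1.1, ?_, p.1.2.1⟩
        invFun := fun x => ⟨⟨(x.1, W.1), x.2.2, W.2.1, x.2.1, W.2.2⟩, rfl⟩
        left_inv := fun p => ?_
        right_inv := fun x => rfl }
    · have h : p.1.1.2 = W.1 := congrArg Subtype.val p.2
      rw [← h]
      exact p.1.2.2.2.1
    · have h : p.1.1.2 = W.1 := congrArg Subtype.val p.2
      exact Subtype.ext (Subtype.ext (Prod.ext rfl h.symm))
  have h3 : Nat.card {v : Fin n → F // Cfsg.hermForm n F q v v = 0 ∧ ¬ v = 0} + 1 =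
      Nat.card {v : Fin n → F // Cfsg.hermForm n F q v v = 0} := by
    have h4 := card_add_of_imp (fun v : Fin n → F => Cfsg.hermForm n F q v v = 0)
      (fun v => v = 0) (by
        rintro v rfl
        exact herm_zero_left n _)
    have h5 : Nat.card {x : Fin n → F // x = 0} = 1 := by
      rw [Nat.card_eq_fintype_card, Fintype.card_subtype_eq]
    rw [h5] at h4
    exact h4
  rw [← h2, h1, ← h3]
  ring

end

end Cfsg.Agent.Lib.Helper2.Herm
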