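import Mathlib
import Cfsg.Prelude.Def_Classical
import Cfsg.Agent.S0779
import Cfsg.Agent.Lib.Helper2.HermField
import Cfsg.Agent.Lib.Helper2.HermCount
import Cfsg.Agent.Lib.Helper2.HermPerp
import Cfsg.Agent.Lib.Helper2.HermLines

set_option autoImplicit false
set_option linter.style.haveILetI false
set_option linter.unusedSectionVars false

namespace Cfsg.Agent.Lib.Helper2.Herm

open Cfsg.Agent.S0779

theorem solve2 (q z' u' Z U : ℕ) (hq : 1 < q)
    (h1 : z' + (q ^ 2 - 1) * u' = Z + (q ^ 2 - 1) * U)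
    (h2 : z' + (q - 1) * u' = Z + (q - 1) * U) : z' = Z ∧ u' = U := by
  obtain ⟨r, rfl⟩ : ∃ r, q = r + 2 := ⟨q - 2, by omega⟩
  have e1 : (r + 2) ^ 2 - 1 = r ^ 2 + 4 * r + 3 := Nat.sub_eq_of_eq_add (by ring)
  have e2 : r + 2 - 1 = r + 1 := by omega
  rw [e1] at h1
  rw [e2] at h2
  zify at h1 h2 ⊢
  have h3 : ((r : ℤ) ^ 2 + 3 * r + 2) * ((u' : ℤ) - U) = 0 := by linear_combination h1 - h2
  have h4 : ((r : ℤ) ^ 2 + 3 * r + 2) ≠ 0 := by positivity
  have h5 : (u' : ℤ) - U = 0 := by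
    rcases mul_eq_zero.1 h3 with h | h
    · exact absurd h h4
    · exact h
  have h6 : (u' : ℤ) = U := by linarith
  refine ⟨?_, h6⟩
  rw [h6] at h2
  linarith

section
variable {F : Type*} [Field F] [Fintype F] {q : ℕ}

/-- `{w ∈ W | h(w,u) = 0}` -/
def perpSub (n : ℕ) (q : ℕ) (W : Submodule F (Fin n → F)) (u : Fin n → F) :
    Submodule F (Fin n → F) where
  carrier := {w | w ∈ W ∧ Cfsg.hermForm n F q w u = 0}
  add_mem' := by
    rintro a b ⟨ha, ha'⟩ ⟨hb, hb'⟩
    exact ⟨W.add_mem ha hb, by rw [herm_add_left, ha', hb', add_zero]⟩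
  zero_mem' := ⟨W.zero_mem, herm_zero_left n _⟩
  smul_mem' := by
    rintro c a ⟨ha, ha'⟩
    exact ⟨W.smul_mem c ha, by rw [herm_smul_left, ha', mul_zero]⟩

theorem mem_perpSub {n : ℕ} {W : Submodule F (Fin n → F)} {u w : Fin n → F} :
    w ∈ perpSub n q W u ↔ w ∈ W ∧ Cfsg.hermForm n F q w u = 0 := Iff.rfl

theorem nc_unif (hF : Fintype.card F = q ^ 2) (n : ℕ) (W : Submodule F (Fin n → F)) (a : F)
    (ha : a ^ q = a) (ha0 : a ≠ 0) :
    Nat.card {v : Fin n → F // v ∈ W ∧ Cfsg.hermForm n F q v v = a} =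
      Nat.card {v : Fin n → F // v ∈ W ∧ Cfsg.hermForm n F q v v = 1} := by
  obtain ⟨l, hl⟩ := norm_surj hF a ha
  have hl0 : l ≠ 0 := by
    rintro rfl
    rw [zero_mul] at hl
    exact ha0 hl.symm
  apply Nat.card_congr
  refine
    { toFun := fun v => ⟨l⁻¹ • v.1, W.smul_mem _ v.2.1, ?_⟩
      invFun := fun v => ⟨l • v.1, W.smul_mem _ v.2.1, ?_⟩
      left_inv := fun v => Subtype.ext (smul_inv_smul₀ hl0 v.1)
      right_inv := fun v => Subtype.ext (inv_smul_smul₀ hl0 v.1) }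
  · rw [herm_smul_left, herm_smul_right, v.2.2, ← hl, inv_pow]
    have : l ^ q ≠ 0 := pow_ne_zero q hl0
    field_simp
  · rw [herm_smul_left, herm_smul_right, v.2.2, mul_one, hl]

theorem nc_total (hF : Fintype.card F = q ^ 2) (n : ℕ) (W : Submodule F (Fin n → F)) :
    Nat.card {v : Fin n → F // v ∈ W ∧ Cfsg.hermForm n F q v v = 0} +
      (q - 1) * Nat.card {v : Fin n → F // v ∈ W ∧ Cfsg.hermForm n F q v v = 1} =
      Nat.card {v : Fin n → F // v ∈ W} := by
  classical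
  have hq := one_lt_q hF
  obtain ⟨hKq, -⟩ := trace_main hF
  set K := Finset.univ.filter (fun a : F => a ^ q = a) with hK
  have h0K : (0 : F) ∈ K := by
    rw [hK, Finset.mem_filter]; exact ⟨Finset.mem_univ _, zero_pow (by omega)⟩
  have h1 := sum_fibers (fun v : {v : Fin n → F // v ∈ W} => Cfsg.hermForm n F q v.1 v.1)
  have hfib : ∀ a : F,
      Nat.card {v : {v : Fin n → F // v ∈ W} // Cfsg.hermForm n F q v.1 v.1 = a} =
      Nat.card {v : Fin n → F // v ∈ W ∧ Cfsg.hermForm n F q v v = a} :=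
    fun a => Nat.card_congr (Equiv.subtypeSubtypeEquivSubtypeInter
      (fun v : Fin n → F => v ∈ W) (fun v : Fin n → F => Cfsg.hermForm n F q v v = a))
  rw [Finset.sum_congr rfl (fun a _ => hfib a)] at h1
  have h2 : ∑ a : F, Nat.card {v : Fin n → F // v ∈ W ∧ Cfsg.hermForm n F q v v = a} =
      ∑ a ∈ K, Nat.card {v : Fin n → F // v ∈ W ∧ Cfsg.hermForm n F q v v = a} := by
    symm
    apply Finset.sum_subset (Finset.subset_univ K)
    intro a _ haK
    rw [Nat.card_eq_zero]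
    left
    constructor
    rintro ⟨v, -, hv⟩
    apply haK
    rw [hK, Finset.mem_filter]
    exact ⟨Finset.mem_univ _, by rw [← hv]; exact herm_pow_q n hF v v⟩
  rw [h2, ← Finset.add_sum_erase K _ h0K] at h1
  have h4 : ∀ a ∈ K.erase 0,
      Nat.card {v : Fin n → F // v ∈ W ∧ Cfsg.hermForm n F q v v = a} =
      Nat.card {v : Fin n → F // v ∈ W ∧ Cfsg.hermForm n F q v v = 1} := by
    intro a ha
    rw [Finset.mem_erase, hK, Finset.mem_filter] at ha
    exact nc_unif hF n W a ha.2.2 ha.1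
  rw [Finset.sum_congr rfl h4, Finset.sum_const, smul_eq_mul, Finset.card_erase_of_mem h0K,
    hKq] at h1
  exact h1.symm

theorem herm_add_smul_orth (hF : Fintype.card F = q ^ 2) (n : ℕ) (u w : Fin n → F)
    (hu1 : Cfsg.hermForm n F q u u = 1) (hwu : Cfsg.hermForm n F q w u = 0) (a : F) :
    Cfsg.hermForm n F q (w + a • u) (w + a • u) = Cfsg.hermForm n F q w w + a * a ^ q := by
  have huw : Cfsg.hermForm n F q u w = 0 := by
    rw [← herm_pow_q n hF w u, hwu, zero_pow]
    have := one_lt_q hF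
    omega
  rw [herm_add_left, herm_add_right n hF, herm_add_right n hF, herm_smul_left, herm_smul_left,
    herm_smul_right, herm_smul_right, hu1, hwu, huw]
  ring

theorem nc_decomp (hF : Fintype.card F = q ^ 2) (n : ℕ) (W : Submodule F (Fin n → F))
    (u : Fin n → F) (huW : u ∈ W) (hu1 : Cfsg.hermForm n F q u u = 1) (c : F) :
    Nat.card {w : Fin n → F // w ∈ W ∧ Cfsg.hermForm n F q w w = c} =
      ∑ a : F, Nat.card {w : Fin n → F // w ∈ perpSub n q W u ∧
        Cfsg.hermForm n F q w w = c - a * a ^ q} := by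
  have h1 := sum_fibers
    (fun w : {w : Fin n → F // w ∈ W ∧ Cfsg.hermForm n F q w w = c} =>
      Cfsg.hermForm n F q w.1 u)
  rw [h1]
  apply Finset.sum_congr rfl
  intro a _
  apply Nat.card_congr
  refine
    { toFun := fun w => ⟨w.1.1 + (-a) • u, ⟨W.add_mem w.1.2.1 (W.smul_mem _ huW), ?_⟩, ?_⟩
      invFun := fun w => ⟨⟨w.1 + a • u, W.add_mem w.2.1.1 (W.smul_mem _ huW), ?_⟩, ?_⟩
      left_inv := fun w => ?_
      right_inv := fun w => ?_ }
  · rw [herm_add_left, herm_smul_left, hu1, w.2]; ring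
  · have hwu : Cfsg.hermForm n F q (w.1.1 + (-a) • u) u = 0 := by
      rw [herm_add_left, herm_smul_left, hu1, w.2]; ring
    have h2 := herm_add_smul_orth hF n u (w.1.1 + (-a) • u) hu1 hwu a
    have e : w.1.1 + (-a) • u + a • u = w.1.1 := by rw [neg_smul, neg_add_cancel_right]
    rw [e, w.1.2.2] at h2
    exact eq_sub_of_add_eq h2.symm
  · rw [herm_add_smul_orth hF n u w.1 hu1 w.2.1.2 a, w.2.2]; ring
  · show Cfsg.hermForm n F q (w.1 + a • u) u = a
    rw [herm_add_left, herm_smul_left, hu1, w.2.1.2]; ring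
  · apply Subtype.ext
    apply Subtype.ext
    show w.1.1 + (-a) • u + a • u = w.1.1
    rw [neg_smul, neg_add_cancel_right]
  · apply Subtype.ext
    show w.1 + a • u + (-a) • u = w.1
    rw [neg_smul, add_neg_cancel_right]

theorem card_decomp (hF : Fintype.card F = q ^ 2) (n : ℕ) (W : Submodule F (Fin n → F))
    (u : Fin n → F) (huW : u ∈ W) (hu1 : Cfsg.hermForm n F q u u = 1) :
    Nat.card {w : Fin n → F // w ∈ W} =
      q ^ 2 * Nat.card {w : Fin n → F // w ∈ perpSub n q W u} := by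
  have h1 := card_fibers
    (fun w : {w : Fin n → F // w ∈ W} => Cfsg.hermForm n F q w.1 u)
    (Nat.card {w : Fin n → F // w ∈ perpSub n q W u}) ?_
  · rw [h1, Nat.card_eq_fintype_card (α := F), hF]
  intro a
  apply Nat.card_congr
  refine
    { toFun := fun w => ⟨w.1.1 + (-a) • u, W.add_mem w.1.2 (W.smul_mem _ huW), ?_⟩
      invFun := fun w => ⟨⟨w.1 + a • u, W.add_mem w.2.1 (W.smul_mem _ huW)⟩, ?_⟩
      left_inv := fun w => ?_
      right_inv := fun w => ?_ }
  · rw [herm_add_left, herm_smul_left, hu1, w.2]; ring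
  · show Cfsg.hermForm n F q (w.1 + a • u) u = a
    rw [herm_add_left, herm_smul_left, hu1, w.2.2]; ring
  · apply Subtype.ext
    apply Subtype.ext
    show w.1.1 + (-a) • u + a • u = w.1.1
    rw [neg_smul, neg_add_cancel_right]
  · apply Subtype.ext
    show w.1 + a • u + (-a) • u = w.1
    rw [neg_smul, add_neg_cancel_right]

/-- the isotropic / norm-one counts of `W` agree with those of the standard `m`-space -/
def Std (n : ℕ) (q : ℕ) (W : Submodule F (Fin n → F)) (m : ℕ) : Prop :=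
  Nat.card {w : Fin n → F // w ∈ W ∧ Cfsg.hermForm n F q w w = 0} =
    Nat.card {v : Fin m → F // Cfsg.hermForm m F q v v = 0} ∧
  Nat.card {w : Fin n → F // w ∈ W ∧ Cfsg.hermForm n F q w w = 1} =
    Nat.card {v : Fin m → F // Cfsg.hermForm m F q v v = 1}

theorem std_top (n : ℕ) : Std n q (⊤ : Submodule F (Fin n → F)) n :=
  ⟨Nat.card_congr (Equiv.subtypeEquivRight
      (fun _ => ⟨fun h => h.2, fun h => ⟨Submodule.mem_top, h⟩⟩)),
    Nat.card_congr (Equiv.subtypeEquivRight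
      (fun _ => ⟨fun h => h.2, fun h => ⟨Submodule.mem_top, h⟩⟩))⟩

theorem std_step (hF : Fintype.card F = q ^ 2) (n : ℕ) (W : Submodule F (Fin n → F)) (m' : ℕ)
    (hS : Std n q W m') (u : Fin n → F) (huW : u ∈ W) (hu1 : Cfsg.hermForm n F q u u = 1) :
    1 ≤ m' ∧ Std n q (perpSub n q W u) (m' - 1) := by
  classical
  have hq := one_lt_q hF
  have hq2 : 0 < q ^ 2 := pow_pos (by omega) 2
  have hW : Nat.card {w : Fin n → F // w ∈ W} = q ^ (2 * m') := by
    rw [← nc_total hF n W, hS.1, hS.2, cnt_total hF m']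
  have hdec := card_decomp hF n W u huW hu1
  have hm : 1 ≤ m' := by
    by_contra h
    have h0 : m' = 0 := by omega
    rw [hW, h0] at hdec
    simp only [mul_zero, pow_zero] at hdec
    have h3 : q ^ 2 ∣ 1 := ⟨_, hdec⟩
    have h4 : q ^ 2 ≤ 1 := Nat.le_of_dvd one_pos h3
    nlinarith
  refine ⟨hm, ?_⟩
  obtain ⟨m, rfl⟩ : ∃ m, m' = m + 1 := ⟨m' - 1, by omega⟩
  rw [Nat.add_sub_cancel]
  have hW' : Nat.card {w : Fin n → F // w ∈ perpSub n q W u} = q ^ (2 * m) := by
    rw [hW] at hdec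
    have h3 : q ^ 2 * Nat.card {w : Fin n → F // w ∈ perpSub n q W u} = q ^ 2 * q ^ (2 * m) := by
      rw [← hdec]; ring
    exact Nat.eq_of_mul_eq_mul_left hq2 h3
  have h0 := nc_decomp hF n W u huW hu1 0
  rw [← Finset.add_sum_erase Finset.univ _ (Finset.mem_univ (0 : F))] at h0
  have h5 : ∀ x ∈ Finset.univ.erase (0 : F),
      Nat.card {w : Fin n → F // w ∈ perpSub n q W u ∧
        Cfsg.hermForm n F q w w = 0 - x * x ^ q} =
      Nat.card {w : Fin n → F // w ∈ perpSub n q W u ∧ Cfsg.hermForm n F q w w = 1} := by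
    intro x hx
    have hx0 : x ≠ 0 := Finset.ne_of_mem_erase hx
    apply nc_unif hF n
    · rw [zero_sub, neg_pow_q hF, mul_pow, pow_q_q hF, mul_comm]
    · rw [zero_sub]
      exact neg_ne_zero.2 (mul_ne_zero hx0 (pow_ne_zero q hx0))
  rw [Finset.sum_congr rfl h5, Finset.sum_const, smul_eq_mul,
    Finset.card_erase_of_mem (Finset.mem_univ _), Finset.card_univ, hF, zero_mul, sub_zero,
    hS.1, cnt_succ_zero hF m] at h0
  have ht := nc_total hF n (perpSub n q W u)
  rw [hW', ← cnt_total hF m] at ht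
  exact solve2 q _ _ _ _ hq h0.symm ht

end

end Cfsg.Agent.Lib.Helper2.Herm
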