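import Mathlib
import Cfsg.Prelude.Def_Classical
import Cfsg.Prelude.Def_LieClassical
import Cfsg.Agent.S0779
import Cfsg.Agent.Lib.Helper2.HermFrame

set_option autoImplicit false
set_option linter.style.haveILetI false
set_option linter.unusedSectionVars false

namespace Cfsg.Agent.Lib.Helper2.Herm

open Cfsg.Agent.S0779 Matrix

section
variable {F : Type*} [Field F] [Fintype F] {q : ℕ}

/-- vectors orthogonal to all members of a family -/
def frameSub (n : ℕ) (q : ℕ) {k : ℕ} (e : Fin k → (Fin n → F)) : Submodule F (Fin n → F) where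
  carrier := {w | ∀ i, Cfsg.hermForm n F q w (e i) = 0}
  add_mem' := by
    intro a b ha hb i
    rw [herm_add_left, ha i, hb i, add_zero]
  zero_mem' := fun i => herm_zero_left n _
  smul_mem' := by
    intro c a ha i
    rw [herm_smul_left, ha i, mul_zero]

theorem mem_frameSub {n k : ℕ} {e : Fin k → (Fin n → F)} {w : Fin n → F} :
    w ∈ frameSub n q e ↔ ∀ i, Cfsg.hermForm n F q w (e i) = 0 := Iff.rfl

theorem frameSub_cons (n k : ℕ) (u : Fin n → F) (e : Fin k → (Fin n → F)) :
    frameSub n q (Fin.cons u e : Fin (k + 1) → (Fin n → F)) = perpSub n q (frameSub n q e) u := by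
  ext w
  rw [mem_frameSub, mem_perpSub, mem_frameSub, Fin.forall_fin_succ]
  simp only [Fin.cons_zero, Fin.cons_succ]
  exact and_comm

/-- orthonormal families -/
def IsON (n : ℕ) (q : ℕ) {k : ℕ} (e : Fin k → (Fin n → F)) : Prop :=
  ∀ i j, Cfsg.hermForm n F q (e i) (e j) = if i = j then 1 else 0

theorem isON_tail {n k : ℕ} {e : Fin (k + 1) → (Fin n → F)} (he : IsON n q e) :
    IsON n q (Fin.tail e) := by
  intro i j
  have := he i.succ j.succ
  simp only [Fin.succ_inj] at this
  exact this

theorem isON_cons (hF : Fintype.card F = q ^ 2) {n k : ℕ} (u : Fin n → F)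
    (e : Fin k → (Fin n → F)) (he : IsON n q e) (hu1 : Cfsg.hermForm n F q u u = 1)
    (hue : ∀ i, Cfsg.hermForm n F q u (e i) = 0) :
    IsON n q (Fin.cons u e : Fin (k + 1) → (Fin n → F)) := by
  have hq := one_lt_q hF
  intro i j
  refine Fin.cases ?_ (fun i => ?_) i <;> refine Fin.cases ?_ (fun j => ?_) j
  · simp only [Fin.cons_zero, if_true]
    exact hu1
  · simp only [Fin.cons_zero, Fin.cons_succ]
    rw [hue j, if_neg (Fin.succ_ne_zero j).symm]
  · simp only [Fin.cons_zero, Fin.cons_succ]
    rw [← herm_pow_q n hF u (e i), hue i, zero_pow (by omega), if_neg (Fin.succ_ne_zero i)]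
  · simp only [Fin.cons_succ, Fin.succ_inj]
    exact he i j

theorem std_frame (hF : Fintype.card F = q ^ 2) (n : ℕ) :
    ∀ (k : ℕ) (e : Fin k → (Fin n → F)), IsON n q e →
      k ≤ n ∧ Std n q (frameSub n q e) (n - k) := by
  intro k
  induction k with
  | zero =>
    intro e _
    refine ⟨Nat.zero_le n, ?_⟩
    have h1 : frameSub n q e = ⊤ := by
      ext w
      rw [mem_frameSub]
      exact ⟨fun _ => Submodule.mem_top, fun _ i => i.elim0⟩
    rw [h1, Nat.sub_zero]
    exact std_top n
  | succ k ih =>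
    intro e he
    obtain ⟨hk, hS⟩ := ih (Fin.tail e) (isON_tail he)
    have hu1 : Cfsg.hermForm n F q (e 0) (e 0) = 1 := by
      have := he 0 0
      rwa [if_pos rfl] at this
    have huW : e 0 ∈ frameSub n q (Fin.tail e) := by
      intro i
      have := he 0 i.succ
      rwa [if_neg (Fin.succ_ne_zero i).symm] at this
    obtain ⟨h1, h2⟩ := std_step hF n _ _ hS (e 0) huW hu1
    have h3 : frameSub n q e = perpSub n q (frameSub n q (Fin.tail e)) (e 0) := by
      rw [← frameSub_cons, Fin.cons_self_tail]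
    rw [h3]
    refine ⟨by omega, ?_⟩
    have h4 : n - (k + 1) = n - k - 1 := by omega
    rw [h4]
    exact h2

theorem card_frames_succ (hF : Fintype.card F = q ^ 2) (n k : ℕ) :
    Nat.card {e : Fin (k + 1) → (Fin n → F) // IsON n q e} =
      Nat.card {e : Fin k → (Fin n → F) // IsON n q e} *
        Nat.card {v : Fin (n - k) → F // Cfsg.hermForm (n - k) F q v v = 1} := by
  have hq := one_lt_q hF
  apply card_fibers
    (fun e' : {e : Fin (k + 1) → (Fin n → F) // IsON n q e} =>
      (⟨Fin.tail e'.1, isON_tail e'.2⟩ : {e : Fin k → (Fin n → F) // IsON n q e}))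
  intro e
  rw [← (std_frame hF n k e.1 e.2).2.2]
  apply Nat.card_congr
  refine
    { toFun := fun e' => ⟨e'.1.1 0, ?_, ?_⟩
      invFun := fun u => ⟨⟨Fin.cons u.1 e.1, isON_cons hF u.1 e.1 e.2 u.2.2 u.2.1⟩, ?_⟩
      left_inv := fun e' => ?_
      right_inv := fun u => ?_ }
  · intro i
    have h1 : Fin.tail e'.1.1 = e.1 := congrArg Subtype.val e'.2
    have h2 := e'.1.2 0 i.succ
    rw [if_neg (Fin.succ_ne_zero i).symm] at h2
    rw [← h1]
    exact h2
  · have h2 := e'.1.2 0 0
    rwa [if_pos rfl] at h2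
  · apply Subtype.ext
    show Fin.tail (Fin.cons u.1 e.1 : Fin (k + 1) → (Fin n → F)) = e.1
    exact Fin.tail_cons _ _
  · have h1 : Fin.tail e'.1.1 = e.1 := congrArg Subtype.val e'.2
    apply Subtype.ext
    apply Subtype.ext
    show (Fin.cons (e'.1.1 0) e.1 : Fin (k + 1) → (Fin n → F)) = e'.1.1
    rw [← h1]
    exact Fin.cons_self_tail _
  · apply Subtype.ext
    rfl

theorem card_frames (hF : Fintype.card F = q ^ 2) (n : ℕ) :
    ∀ k : ℕ, Nat.card {e : Fin k → (Fin n → F) // IsON n q e} =
      ∏ j ∈ Finset.range k,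
        Nat.card {v : Fin (n - j) → F // Cfsg.hermForm (n - j) F q v v = 1} := by
  intro k
  induction k with
  | zero =>
    rw [Finset.prod_range_zero]
    have h : ∀ e : Fin 0 → (Fin n → F), IsON n q e := fun e i => i.elim0
    rw [Nat.card_congr (Equiv.subtypeUnivEquiv h)]
    simp
  | succ k ih =>
    rw [card_frames_succ hF n k, ih, Finset.prod_range_succ]

/-- the standard basis is orthonormal -/
theorem herm_single (hF : Fintype.card F = q ^ 2) (n : ℕ) (i j : Fin n) :
    Cfsg.hermForm n F q (Pi.single i 1) (Pi.single j 1) = if i = j then 1 else 0 := by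
  have hq := one_lt_q hF
  unfold Cfsg.hermForm
  rw [Finset.sum_eq_single i]
  · rw [Pi.single_eq_same, one_mul]
    by_cases hij : i = j
    · rw [if_pos hij, hij, Pi.single_eq_same, one_pow]
    · rw [if_neg hij, Pi.single_eq_of_ne hij, zero_pow (by omega)]
  · intro k _ hk
    rw [Pi.single_eq_of_ne hk, zero_mul]
  · intro h
    exact absurd (Finset.mem_univ i) h

theorem herm_eq_dot (n : ℕ) (u v : Fin n → F) :
    Cfsg.hermForm n F q u v = u ⬝ᵥ (fun i => v i ^ q) := rfl

theorem mulVec_pow_q (hF : Fintype.card F = q ^ 2) (n : ℕ) (M : Matrix (Fin n) (Fin n) F)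
    (v : Fin n → F) :
    (fun k => (M *ᵥ v) k ^ q) = (M.map (fun x => x ^ q)) *ᵥ (fun j => v j ^ q) := by
  funext k
  show (∑ j, M k j * v j) ^ q = ∑ j, (M k j) ^ q * (v j) ^ q
  rw [sum_pow_q hF]
  apply Finset.sum_congr rfl
  intro j _
  rw [mul_pow]

/-- matrices with orthonormal columns preserve the form -/
theorem preserves_of_ON (hF : Fintype.card F = q ^ 2) (n : ℕ) (M : Matrix (Fin n) (Fin n) F)
    (hM : IsON n q (fun i k => M k i)) (u v : Fin n → F) :
    Cfsg.hermForm n F q (M *ᵥ u) (M *ᵥ v) = Cfsg.hermForm n F q u v := by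
  have h1 : Mᵀ * M.map (fun x => x ^ q) = 1 := by
    ext i j
    rw [Matrix.mul_apply, Matrix.one_apply]
    exact hM i j
  rw [herm_eq_dot, herm_eq_dot, mulVec_pow_q hF, dotProduct_comm, Matrix.dotProduct_mulVec,
    ← Matrix.mulVec_transpose, dotProduct_comm, Matrix.mulVec_mulVec, h1, Matrix.one_mulVec]

theorem ON_of_preserves (hF : Fintype.card F = q ^ 2) (n : ℕ) (M : Matrix (Fin n) (Fin n) F)
    (hM : ∀ u v : Fin n → F,
      Cfsg.hermForm n F q (M *ᵥ u) (M *ᵥ v) = Cfsg.hermForm n F q u v) :
    IsON n q (fun i k => M k i) := by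
  intro i j
  have h := hM (Pi.single i 1) (Pi.single j 1)
  rw [herm_single hF, Matrix.mulVec_single_one, Matrix.mulVec_single_one] at h
  exact h

/-- `GU_n` is in bijection with orthonormal frames -/
theorem card_GU_eq_frames (hF : Fintype.card F = q ^ 2) (n : ℕ) :
    Nat.card (Cfsg.GU n F q) = Nat.card {e : Fin n → (Fin n → F) // IsON n q e} := by
  apply Nat.card_congr
  refine
    { toFun := fun A => ⟨fun i k => (A.1 : Matrix (Fin n) (Fin n) F) k i,
        ON_of_preserves hF n _ A.2⟩
      invFun := fun e => ⟨⟨Matrix.of (fun k i => e.1 i k),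
          (Matrix.of (fun k i => e.1 i k)).map (fun x => x ^ q) |>.transpose, ?_, ?_⟩, ?_⟩
      left_inv := fun A => ?_
      right_inv := fun e => rfl }
  · apply mul_eq_one_comm.1
    ext j i
    rw [Matrix.mul_apply, Matrix.one_apply]
    have := e.2 i j
    have h2 : (if j = i then (1 : F) else 0) = if i = j then 1 else 0 := by
      by_cases hij : i = j
      · rw [if_pos hij, if_pos hij.symm]
      · rw [if_neg hij, if_neg (fun h => hij h.symm)]
    rw [h2, ← this]
    unfold Cfsg.hermForm
    apply Finset.sum_congr rfl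
    intro k _
    show e.1 j k ^ q * e.1 i k = e.1 i k * e.1 j k ^ q
    ring
  · ext j i
    rw [Matrix.mul_apply, Matrix.one_apply]
    have := e.2 i j
    have h2 : (if j = i then (1 : F) else 0) = if i = j then 1 else 0 := by
      by_cases hij : i = j
      · rw [if_pos hij, if_pos hij.symm]
      · rw [if_neg hij, if_neg (fun h => hij h.symm)]
    rw [h2, ← this]
    unfold Cfsg.hermForm
    apply Finset.sum_congr rfl
    intro k _
    show e.1 j k ^ q * e.1 i k = e.1 i k * e.1 j k ^ q
    ring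
  · intro u v
    exact preserves_of_ON hF n _ e.2 u v
  · apply Subtype.ext
    apply Units.ext
    rfl

end

end Cfsg.Agent.Lib.Helper2.Herm
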