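import Mathlib
import Cfsg.Prelude.Def_Classical
import Cfsg.Prelude.Def_LieClassical
import Cfsg.Agent.S0779
import Cfsg.Agent.Lib.Helper2.HermFrame2

set_option autoImplicit false
set_option linter.style.haveILetI false
set_option linter.unusedSectionVars false

namespace Cfsg.Agent.Lib.Helper2.Herm

open Cfsg.Agent.S0779 Matrix

section
variable {F : Type*} [Field F] [Fintype F] {q : ℕ}

theorem conjT_mul (n : ℕ) (M : Matrix (Fin n) (Fin n) F)
    (hM : IsON n q (fun i k => M k i)) : (M.map (fun x => x ^ q))ᵀ * M = 1 := by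
  ext j i
  rw [Matrix.mul_apply, Matrix.one_apply]
  have := hM i j
  have h2 : (if j = i then (1 : F) else 0) = if i = j then 1 else 0 := by
    by_cases hij : i = j
    · rw [if_pos hij, if_pos hij.symm]
    · rw [if_neg hij, if_neg (fun h => hij h.symm)]
  rw [h2, ← this]
  unfold Cfsg.hermForm
  apply Finset.sum_congr rfl
  intro k _
  show M k j ^ q * M k i = M k i * M k j ^ q
  ring

/-- the GU element of a matrix with orthonormal columns -/
def guOfON (hF : Fintype.card F = q ^ 2) (n : ℕ) (M : Matrix (Fin n) (Fin n) F)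
    (hM : IsON n q (fun i k => M k i)) : ↥(Cfsg.GU n F q) :=
  ⟨⟨M, (M.map (fun x => x ^ q))ᵀ, mul_eq_one_comm.1 (conjT_mul n M hM), conjT_mul n M hM⟩,
    fun u v => preserves_of_ON hF n M hM u v⟩

theorem guOfON_val (hF : Fintype.card F = q ^ 2) (n : ℕ) (M : Matrix (Fin n) (Fin n) F)
    (hM : IsON n q (fun i k => M k i)) :
    ((guOfON hF n M hM).1 : Matrix (Fin n) (Fin n) F) = M := rfl

/-- `x ↦ x ^ q` as a ring hom -/
def powHom (hF : Fintype.card F = q ^ 2) : F →+* F where
  toFun := fun x => x ^ q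
  map_one' := one_pow q
  map_mul' := fun a b => mul_pow a b q
  map_zero' := zero_pow (by have := one_lt_q hF; omega)
  map_add' := fun a b => add_pow_q hF a b

theorem det_norm (hF : Fintype.card F = q ^ 2) (n : ℕ) (M : Matrix (Fin n) (Fin n) F)
    (hM : IsON n q (fun i k => M k i)) : M.det * M.det ^ q = 1 := by
  have h1 := congrArg Matrix.det (conjT_mul n M hM)
  rw [Matrix.det_mul, Matrix.det_transpose, Matrix.det_one] at h1
  have h3 : (M.map (fun x => x ^ q)).det = M.det ^ q := by
    have := RingHom.map_det (powHom hF) M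
    rw [RingHom.mapMatrix_apply] at this
    exact this.symm
  rw [h3] at h1
  rw [mul_comm]
  exact h1

theorem diag_ON (hF : Fintype.card F = q ^ 2) (n : ℕ) (d : Fin n → F)
    (hd : ∀ i, d i * d i ^ q = 1) : IsON n q (fun i k => Matrix.diagonal d k i) := by
  have hq := one_lt_q hF
  intro i j
  show ∑ k, Matrix.diagonal d k i * Matrix.diagonal d k j ^ q = _
  rw [Finset.sum_eq_single i]
  · rw [Matrix.diagonal_apply_eq]
    by_cases hij : i = j
    · rw [if_pos hij, ← hij, Matrix.diagonal_apply_eq]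
      exact hd i
    · rw [if_neg hij, Matrix.diagonal_apply_ne _ hij, zero_pow (by omega), mul_zero]
  · intro k _ hk
    rw [Matrix.diagonal_apply_ne _ hk, zero_mul]
  · intro h
    exact absurd (Finset.mem_univ i) h

/-- the determinant on `GU` -/
def detGU (n : ℕ) (F : Type*) [Field F] (q : ℕ) : ↥(Cfsg.GU n F q) →* Fˣ :=
  (Matrix.GeneralLinearGroup.det).comp (Cfsg.GU n F q).subtype

theorem detGU_val (n : ℕ) (A : ↥(Cfsg.GU n F q)) :
    ((detGU n F q A : Fˣ) : F) = (A.1 : Matrix (Fin n) (Fin n) F).det := rfl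

theorem card_range_detGU (hF : Fintype.card F = q ^ 2) (n : ℕ) (hn : 1 ≤ n) :
    Nat.card (detGU n F q).range = q + 1 := by
  classical
  rw [← card_norm_fiber hF 1 (one_pow q) one_ne_zero]
  apply Nat.card_congr
  refine
    { toFun := fun y => ⟨((y.1 : Fˣ) : F), ?_⟩
      invFun := fun x => ⟨Units.mk0 x.1 ?_, ?_⟩
      left_inv := fun y => Subtype.ext (Units.ext rfl)
      right_inv := fun x => Subtype.ext rfl }
  · obtain ⟨A, hA⟩ := y.2
    rw [← hA, detGU_val]
    exact det_norm hF n _ (ON_of_preserves hF n _ A.2)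
  · intro h
    have := x.2
    rw [h, zero_mul] at this
    exact zero_ne_one this
  · have hd : ∀ i, (Function.update (fun _ : Fin n => (1 : F)) ⟨0, hn⟩ x.1) i *
        (Function.update (fun _ : Fin n => (1 : F)) ⟨0, hn⟩ x.1) i ^ q = 1 := by
      intro i
      by_cases hi : i = ⟨0, hn⟩
      · rw [hi, Function.update_self]
        exact x.2
      · rw [Function.update_of_ne hi, one_pow, mul_one]
    refine ⟨guOfON hF n _ (diag_ON hF n _ hd), ?_⟩
    apply Units.ext
    rw [detGU_val, guOfON_val, Matrix.det_diagonal,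
      Finset.prod_update_of_mem (Finset.mem_univ _), Finset.prod_const_one, mul_one]
    rfl

theorem card_ker_detGU (n : ℕ) :
    Nat.card (detGU n F q).ker = Nat.card (Cfsg.SU n F q) := by
  apply Nat.card_congr
  refine
    { toFun := fun A => ⟨⟨(A.1.1 : Matrix (Fin n) (Fin n) F), ?_⟩, ?_⟩
      invFun := fun B => ⟨⟨Matrix.SpecialLinearGroup.toGL B.1, B.2⟩, ?_⟩
      left_inv := fun A => Subtype.ext (Subtype.ext (Units.ext rfl))
      right_inv := fun B => Subtype.ext (Subtype.ext rfl) }
  · have h := A.2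
    rw [MonoidHom.mem_ker] at h
    have h2 := congrArg Units.val h
    rw [detGU_val] at h2
    exact h2
  · exact A.1.2
  · rw [MonoidHom.mem_ker]
    exact Matrix.SpecialLinearGroup.coeToGL_det B.1

theorem card_GU_eq (hF : Fintype.card F = q ^ 2) (n : ℕ) (hn : 1 ≤ n) :
    (q + 1) * Nat.card (Cfsg.SU n F q) = Nat.card (Cfsg.GU n F q) := by
  rw [← (detGU n F q).ker.card_mul_index, Subgroup.index_ker, card_range_detGU hF n hn,
    card_ker_detGU, mul_comm]

end

end Cfsg.Agent.Lib.Helper2.Herm
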