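import Mathlib
import Cfsg.Prelude.Def_Classical
import Cfsg.Prelude.Def_LieClassical
import Cfsg.Agent.S0779
import Cfsg.Agent.Lib.Helper2.HermFrame3

set_option autoImplicit false
set_option linter.style.haveILetI false
set_option linter.unusedSectionVars false

namespace Cfsg.Agent.Lib.Helper2.Herm

open Cfsg.Agent.S0779 Matrix

section
variable {F : Type*} [Field F] [Fintype F] {q : ℕ}

/-- an `SU` element from a form-preserving matrix of determinant one -/
def suOfPres (n : ℕ) (M : Matrix (Fin n) (Fin n) F)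
    (hM : ∀ u v : Fin n → F,
      Cfsg.hermForm n F q (M *ᵥ u) (M *ᵥ v) = Cfsg.hermForm n F q u v)
    (hdet : M.det = 1) : ↥(Cfsg.SU n F q) :=
  ⟨⟨M, hdet⟩, hM⟩

theorem suOfPres_val (n : ℕ) (M : Matrix (Fin n) (Fin n) F)
    (hM : ∀ u v : Fin n → F,
      Cfsg.hermForm n F q (M *ᵥ u) (M *ᵥ v) = Cfsg.hermForm n F q u v)
    (hdet : M.det = 1) :
    ((suOfPres n M hM hdet).1.1 : Matrix (Fin n) (Fin n) F) = M := rfl

theorem su_pres (n : ℕ) (B : ↥(Cfsg.SU n F q)) (u v : Fin n → F) :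
    Cfsg.hermForm n F q ((B.1.1 : Matrix (Fin n) (Fin n) F) *ᵥ u)
      ((B.1.1 : Matrix (Fin n) (Fin n) F) *ᵥ v) = Cfsg.hermForm n F q u v := B.2 u v

theorem su_mul_val (n : ℕ) (A B : ↥(Cfsg.SU n F q)) :
    ((A * B).1.1 : Matrix (Fin n) (Fin n) F) = A.1.1 * B.1.1 := rfl

/-- diagonal elements of `SU` -/
def suDiag (hF : Fintype.card F = q ^ 2) (n : ℕ) (d : Fin n → F)
    (hd : ∀ i, d i * d i ^ q = 1) (hdet : ∏ i, d i = 1) : ↥(Cfsg.SU n F q) :=
  suOfPres n (Matrix.diagonal d)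
    (fun u v => preserves_of_ON hF n _ (diag_ON hF n d hd) u v)
    (by rw [Matrix.det_diagonal, hdet])

theorem exists_norm_one_sq_ne (hF : Fintype.card F = q ^ 2) :
    ∃ μ : F, μ * μ ^ q = 1 ∧ μ * μ ≠ 1 := by
  classical
  have hq := one_lt_q hF
  by_contra hcon
  push Not at hcon
  have hcard := card_norm_fiber hF 1 (one_pow q) one_ne_zero
  have hle : Nat.card {x : F // x * x ^ q = 1} ≤ Nat.card Bool := by
    apply Nat.card_le_card_of_injective (fun x : {x : F // x * x ^ q = 1} => decide (x.1 = 1))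
    intro x y hxy0
    have hxy : decide (x.1 = 1) = decide (y.1 = 1) := hxy0
    have hx := mul_self_eq_one_iff.1 (hcon x.1 x.2)
    have hy := mul_self_eq_one_iff.1 (hcon y.1 y.2)
    apply Subtype.ext
    by_cases hx1 : x.1 = 1
    · have hy1 : y.1 = 1 := by
        have : decide (y.1 = 1) = true := by rw [← hxy]; exact decide_eq_true hx1
        exact of_decide_eq_true this
      rw [hx1, hy1]
    · have hy1 : ¬ y.1 = 1 := by
        have : decide (y.1 = 1) = false := by rw [← hxy]; exact decide_eq_false hx1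
        exact of_decide_eq_false this
      rcases hx with h | h
      · exact absurd h hx1
      · rcases hy with h' | h'
        · exact absurd h' hy1
        · rw [h, h']
  rw [hcard] at hle
  simp at hle
  omega

theorem card_scalars (hF : Fintype.card F = q ^ 2) (n : ℕ) :
    Nat.card {l : F // l * l ^ q = 1 ∧ l ^ n = 1} = Nat.gcd n (q + 1) := by
  classical
  have hq := one_lt_q hF
  have hcyc := IsCyclic.card_powMonoidHom_ker Fˣ (Nat.gcd n (q + 1))
  have hU : Nat.card Fˣ = q ^ 2 - 1 := by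
    rw [Nat.card_units, Nat.card_eq_fintype_card, hF]
  have hdvd : Nat.gcd n (q + 1) ∣ q ^ 2 - 1 := by
    rw [q_arith hq]
    exact Dvd.dvd.mul_right (Nat.gcd_dvd_right n (q + 1)) _
  rw [hU, Nat.gcd_eq_right hdvd] at hcyc
  rw [← hcyc]
  apply Nat.card_congr
  refine
    { toFun := fun l => ⟨Units.mk0 l.1 ?_, ?_⟩
      invFun := fun u => ⟨((u.1 : Fˣ) : F), ?_⟩
      left_inv := fun l => Subtype.ext rfl
      right_inv := fun u => Subtype.ext (Units.ext rfl) }
  · intro h
    have := l.2.1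
    rw [h, zero_mul] at this
    exact zero_ne_one this
  · rw [MonoidHom.mem_ker, powMonoidHom_apply]
    apply Units.ext
    rw [Units.val_pow_eq_pow_val, Units.val_mk0, Units.val_one]
    exact pow_gcd_eq_one.2 ⟨l.2.2, by rw [pow_succ']; exact l.2.1⟩
  · have h := u.2
    rw [MonoidHom.mem_ker, powMonoidHom_apply] at h
    have h2 := congrArg Units.val h
    rw [Units.val_pow_eq_pow_val, Units.val_one] at h2
    obtain ⟨h3, h4⟩ := pow_gcd_eq_one.1 h2
    exact ⟨by rw [← pow_succ']; exact h4, h3⟩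

theorem center_offdiag (hF : Fintype.card F = q ^ 2) (n : ℕ) (Z : ↥(Cfsg.SU n F q))
    (hZ : ∀ B : ↥(Cfsg.SU n F q), (B.1.1 : Matrix (Fin n) (Fin n) F) * Z.1.1 = Z.1.1 * B.1.1)
    (i j : Fin n) (hij : i ≠ j) : (Z.1.1 : Matrix (Fin n) (Fin n) F) i j = 0 := by
  classical
  obtain ⟨μ, hμ1, hμ2⟩ := exists_norm_one_sq_ne hF
  have hμ0 : μ ≠ 0 := by
    rintro rfl
    rw [zero_mul] at hμ1
    exact zero_ne_one hμ1
  set d : Fin n → F := Function.update (Function.update (fun _ => (1 : F)) i μ) j μ⁻¹ with hd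
  have hdj : d j = μ⁻¹ := by rw [hd, Function.update_self]
  have hdi : d i = μ := by
    rw [hd, Function.update_of_ne hij, Function.update_self]
  have hdn : ∀ k, d k * d k ^ q = 1 := by
    intro k
    by_cases hkj : k = j
    · rw [hkj, hdj, inv_pow, ← mul_inv, hμ1, inv_one]
    · by_cases hki : k = i
      · rw [hki, hdi]; exact hμ1
      · rw [hd, Function.update_of_ne hkj, Function.update_of_ne hki, one_pow, mul_one]
  have hdet : ∏ k, d k = 1 := by
    rw [hd, Finset.prod_update_of_mem (Finset.mem_univ j)]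
    have hi : i ∈ Finset.univ \ {j} := by
      rw [Finset.mem_sdiff, Finset.mem_singleton]
      exact ⟨Finset.mem_univ _, hij⟩
    rw [Finset.prod_update_of_mem hi, Finset.prod_const_one, mul_one, inv_mul_cancel₀ hμ0]
  have h := hZ (suDiag hF n d hdn hdet)
  have h2 := congrFun (congrFun h i) j
  have h3 : ((suDiag hF n d hdn hdet).1.1 : Matrix (Fin n) (Fin n) F) = Matrix.diagonal d := rfl
  rw [h3, Matrix.diagonal_mul, Matrix.mul_diagonal, hdi, hdj] at h2
  have h4 : (μ - μ⁻¹) * (Z.1.1 : Matrix (Fin n) (Fin n) F) i j = 0 := by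
    rw [sub_mul, h2]; ring
  rcases mul_eq_zero.1 h4 with h5 | h5
  · exfalso
    apply hμ2
    have h6 : μ = μ⁻¹ := sub_eq_zero.1 h5
    calc μ * μ = μ * μ⁻¹ := by rw [← h6]
      _ = 1 := mul_inv_cancel₀ hμ0
  · exact h5

/-- a signed transposition in `SU` -/
theorem exists_su_entry (hF : Fintype.card F = q ^ 2) (n : ℕ) (i j : Fin n) (hij : i ≠ j) :
    ∃ B : ↥(Cfsg.SU n F q), (B.1.1 : Matrix (Fin n) (Fin n) F) i j = 1 := by
  classical
  have hq := one_lt_q hF
  set d : Fin n → F := Function.update (fun _ => (1 : F)) i (-1) with hd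
  have hdn : ∀ k, d k * d k ^ q = 1 := by
    intro k
    by_cases hki : k = i
    · rw [hki, hd, Function.update_self, neg_pow_q hF, one_pow]; ring
    · rw [hd, Function.update_of_ne hki, one_pow, mul_one]
  have hdj : d j = 1 := by rw [hd, Function.update_of_ne hij.symm]
  have hpres : ∀ u v : Fin n → F,
      Cfsg.hermForm n F q (((Equiv.swap i j).permMatrix F * Matrix.diagonal d) *ᵥ u)
        (((Equiv.swap i j).permMatrix F * Matrix.diagonal d) *ᵥ v) =
      Cfsg.hermForm n F q u v := by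
    intro u v
    rw [← Matrix.mulVec_mulVec, ← Matrix.mulVec_mulVec, Matrix.permMatrix_mulVec,
      Matrix.permMatrix_mulVec]
    have h1 : Cfsg.hermForm n F q ((Matrix.diagonal d *ᵥ u) ∘ ⇑(Equiv.swap i j))
        ((Matrix.diagonal d *ᵥ v) ∘ ⇑(Equiv.swap i j)) =
        Cfsg.hermForm n F q (Matrix.diagonal d *ᵥ u) (Matrix.diagonal d *ᵥ v) := by
      unfold Cfsg.hermForm
      exact Equiv.sum_comp (Equiv.swap i j)
        (fun k => (Matrix.diagonal d *ᵥ u) k * (Matrix.diagonal d *ᵥ v) k ^ q)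
    rw [h1]
    exact preserves_of_ON hF n _ (diag_ON hF n d hdn) u v
  have hdet : ((Equiv.swap i j).permMatrix F * Matrix.diagonal d).det = 1 := by
    rw [Matrix.det_mul, Matrix.det_permutation, Equiv.Perm.sign_swap hij, Matrix.det_diagonal,
      hd, Finset.prod_update_of_mem (Finset.mem_univ i), Finset.prod_const_one]
    simp
  refine ⟨suOfPres n _ hpres hdet, ?_⟩
  rw [suOfPres_val, Matrix.mul_diagonal, hdj, mul_one]
  simp [Equiv.Perm.permMatrix, PEquiv.toMatrix_apply, Equiv.toPEquiv_apply]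

theorem center_diag_eq (hF : Fintype.card F = q ^ 2) (n : ℕ) (Z : ↥(Cfsg.SU n F q))
    (hZ : ∀ B : ↥(Cfsg.SU n F q), (B.1.1 : Matrix (Fin n) (Fin n) F) * Z.1.1 = Z.1.1 * B.1.1)
    (i j : Fin n) (hij : i ≠ j) :
    (Z.1.1 : Matrix (Fin n) (Fin n) F) i i = (Z.1.1 : Matrix (Fin n) (Fin n) F) j j := by
  classical
  obtain ⟨B, hB⟩ := exists_su_entry hF n i j hij
  have h := congrFun (congrFun (hZ B) i) j
  rw [Matrix.mul_apply, Matrix.mul_apply, Finset.sum_eq_single j, Finset.sum_eq_single i, hB,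
    one_mul, mul_one] at h
  · exact h.symm
  · intro k _ hk
    rw [center_offdiag hF n Z hZ i k hk.symm, zero_mul]
  · intro h'
    exact absurd (Finset.mem_univ i) h'
  · intro k _ hk
    rw [center_offdiag hF n Z hZ k j hk, mul_zero]
  · intro h'
    exact absurd (Finset.mem_univ j) h'

theorem center_scalar (hF : Fintype.card F = q ^ 2) (n : ℕ) (Z : ↥(Cfsg.SU n F q))
    (hZ : ∀ B : ↥(Cfsg.SU n F q), (B.1.1 : Matrix (Fin n) (Fin n) F) * Z.1.1 = Z.1.1 * B.1.1)
    (i0 : Fin n) :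
    (Z.1.1 : Matrix (Fin n) (Fin n) F) =
      Matrix.diagonal (fun _ => (Z.1.1 : Matrix (Fin n) (Fin n) F) i0 i0) := by
  ext a b
  by_cases hab : a = b
  · rw [hab, Matrix.diagonal_apply_eq]
    by_cases hb : b = i0
    · rw [hb]
    · exact center_diag_eq hF n Z hZ b i0 hb
  · rw [Matrix.diagonal_apply_ne _ hab]
    exact center_offdiag hF n Z hZ a b hab

theorem card_center_SU (hF : Fintype.card F = q ^ 2) (n : ℕ) (hn : 2 ≤ n) :
    Nat.card (Subgroup.center ↥(Cfsg.SU n F q)) = Nat.gcd n (q + 1) := by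
  classical
  have hq := one_lt_q hF
  rw [← card_scalars hF n]
  have hcomm : ∀ Z : ↥(Subgroup.center ↥(Cfsg.SU n F q)), ∀ B : ↥(Cfsg.SU n F q),
      (B.1.1 : Matrix (Fin n) (Fin n) F) * Z.1.1.1 = Z.1.1.1 * B.1.1 := by
    intro Z B
    have h := Subgroup.mem_center_iff.1 Z.2 B
    exact congrArg (fun X : ↥(Cfsg.SU n F q) => (X.1.1 : Matrix (Fin n) (Fin n) F)) h
  have hsc : ∀ Z : ↥(Subgroup.center ↥(Cfsg.SU n F q)),
      (Z.1.1.1 : Matrix (Fin n) (Fin n) F) =
        Matrix.diagonal (fun _ => (Z.1.1.1 : Matrix (Fin n) (Fin n) F) ⟨0, by omega⟩ ⟨0, by omega⟩) :=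
    fun Z => center_scalar hF n Z.1 (hcomm Z) ⟨0, by omega⟩
  apply Nat.card_congr
  refine
    { toFun := fun Z => ⟨(Z.1.1.1 : Matrix (Fin n) (Fin n) F) ⟨0, by omega⟩ ⟨0, by omega⟩, ?_, ?_⟩
      invFun := fun l => ⟨suDiag hF n (fun _ => l.1) (fun _ => l.2.1)
        (by rw [Finset.prod_const, Finset.card_univ, Fintype.card_fin]; exact l.2.2), ?_⟩
      left_inv := fun Z => ?_
      right_inv := fun l => ?_ }
  · have hON := ON_of_preserves hF n _ (su_pres n Z.1)
    have h1 := hON ⟨0, by omega⟩ ⟨0, by omega⟩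
    rw [if_pos rfl] at h1
    have h1' : ∑ k, (Z.1.1.1 : Matrix (Fin n) (Fin n) F) k ⟨0, by omega⟩ *
        (Z.1.1.1 : Matrix (Fin n) (Fin n) F) k ⟨0, by omega⟩ ^ q = 1 := h1
    rw [Finset.sum_eq_single (⟨0, by omega⟩ : Fin n)] at h1'
    · exact h1'
    · intro k _ hk
      have : (Z.1.1.1 : Matrix (Fin n) (Fin n) F) k ⟨0, by omega⟩ = 0 := by
        rw [hsc Z, Matrix.diagonal_apply_ne _ hk]
      rw [this, zero_mul]
    · intro h'
      exact absurd (Finset.mem_univ _) h'
  · have h1 : (Z.1.1.1 : Matrix (Fin n) (Fin n) F).det = 1 := Z.1.1.2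
    rw [hsc Z, Matrix.det_diagonal, Finset.prod_const, Finset.card_univ, Fintype.card_fin] at h1
    exact h1
  · rw [Subgroup.mem_center_iff]
    intro B
    apply Subtype.ext
    apply Subtype.ext
    show (B.1.1 : Matrix (Fin n) (Fin n) F) * Matrix.diagonal (fun _ => l.1) =
      Matrix.diagonal (fun _ => l.1) * B.1.1
    ext a b
    rw [Matrix.mul_diagonal, Matrix.diagonal_mul, mul_comm]
  · apply Subtype.ext
    apply Subtype.ext
    apply Subtype.ext
    exact (hsc Z).symm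
  · apply Subtype.ext
    show Matrix.diagonal (fun _ => l.1) (⟨0, by omega⟩ : Fin n) ⟨0, by omega⟩ = l.1
    rw [Matrix.diagonal_apply_eq]

end

end Cfsg.Agent.Lib.Helper2.Herm
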