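import Mathlib

set_option autoImplicit false
set_option linter.style.haveILetI false
set_option linter.deprecated false

namespace Cfsg.Agent.Lib.Helper2

/-- A finite commutative domain of characteristic `q` containing an element of prime order `p`, all
of whose elements are fixed by the `q ^ e`-th power map (`e` the order of `q` modulo `p`), has
exactly `q ^ e` elements. -/
theorem card_eq_of_frob (K : Type*) [CommRing K] [IsDomain K] [Fintype K] (q : ℕ)
    [hq : Fact q.Prime] [CharP K q] (p : ℕ) [hp : Fact p.Prime] (t : K) (ht : t ^ p = 1)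
    (ht1 : t ≠ 1) (he : 0 < orderOf (q : ZMod p))
    (hfrob : ∀ k : K, k ^ q ^ orderOf (q : ZMod p) = k) :
    Fintype.card K = q ^ orderOf (q : ZMod p) := by
  classical
  letI : Field K := Fintype.fieldOfDomain K
  obtain ⟨d, -, hd⟩ := FiniteField.card K q
  have hq1 : 1 < q ^ orderOf (q : ZMod p) := Nat.one_lt_pow he.ne' hq.out.one_lt
  have hle : Fintype.card K ≤ q ^ orderOf (q : ZMod p) := by
    have h1 := Polynomial.card_le_degree_of_subset_roots
      (p := (Polynomial.X ^ (q ^ orderOf (q : ZMod p)) - Polynomial.X : Polynomial K))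
      (Z := Finset.univ) (by
        intro k _
        rw [Polynomial.mem_roots (FiniteField.X_pow_card_sub_X_ne_zero K hq1)]
        simp only [Polynomial.IsRoot.def, Polynomial.eval_sub, Polynomial.eval_pow,
          Polynomial.eval_X]
        rw [sub_eq_zero]
        exact hfrob k)
    rwa [FiniteField.X_pow_card_sub_X_natDegree_eq K hq1, Finset.card_univ] at h1
  have hde : (d : ℕ) ≤ orderOf (q : ZMod p) := by
    rw [hd] at hle
    exact (Nat.pow_le_pow_iff_right hq.out.one_lt).mp hle
  have ht0 : t ≠ 0 := by
    rintro rfl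
    rw [zero_pow hp.out.ne_zero] at ht
    exact zero_ne_one ht
  have h2 := FiniteField.pow_card_sub_one_eq_one t ht0
  have ho : orderOf t = p := orderOf_eq_prime ht ht1
  have hdvd : p ∣ q ^ (d : ℕ) - 1 := by
    rw [← ho, ← hd]; exact orderOf_dvd_of_pow_eq_one h2
  have hpow : (q : ZMod p) ^ (d : ℕ) = 1 := by
    have h3 : ((q ^ (d : ℕ) - 1 : ℕ) : ZMod p) = 0 := (ZMod.natCast_eq_zero_iff _ _).mpr hdvd
    have h4 : q ^ (d : ℕ) = (q ^ (d : ℕ) - 1) + 1 :=
      (Nat.sub_add_cancel (Nat.one_le_pow _ _ hq.out.pos)).symm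
    calc (q : ZMod p) ^ (d : ℕ) = ((q ^ (d : ℕ) : ℕ) : ZMod p) := by push_cast; rfl
      _ = (((q ^ (d : ℕ) - 1) + 1 : ℕ) : ZMod p) := by rw [← h4]
      _ = 1 := by rw [Nat.cast_add, h3]; simp
  have hed : orderOf (q : ZMod p) ∣ (d : ℕ) := orderOf_dvd_of_pow_eq_one hpow
  have : orderOf (q : ZMod p) ≤ d := Nat.le_of_dvd d.pos hed
  rw [hd, le_antisymm hde this]

theorem orderOf_zmod_pos {p q : ℕ} [hp : Fact p.Prime] (hq : q.Prime) (hpq : p ≠ q) :
    0 < orderOf (q : ZMod p) := by
  rw [orderOf_pos_iff, isOfFinOrder_iff_pow_eq_one]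
  refine ⟨p - 1, Nat.sub_pos_of_lt hp.out.one_lt, ZMod.pow_card_sub_one_eq_one ?_⟩
  intro h
  rw [ZMod.natCast_eq_zero_iff] at h
  exact hpq ((Nat.prime_dvd_prime_iff_eq hp.out hq).mp h)

section IrrPrime

variable {V : Type*} [AddCommGroup V]

theorem singleton_comm_end (τ : AddMonoid.End V) :
    ∀ a ∈ ({τ} : Set (AddMonoid.End V)), ∀ b ∈ ({τ} : Set (AddMonoid.End V)), a * b = b * a := by
  intro a ha b hb
  rw [Set.mem_singleton_iff] at ha hb
  rw [ha, hb]

open scoped IsMulCommutative

theorem end_mul_apply (f g : AddMonoid.End V) (w : V) : (f * g) w = f (g w) := rfl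
theorem end_zero_apply (w : V) : (0 : AddMonoid.End V) w = 0 := rfl
theorem end_one_apply (w : V) : (1 : AddMonoid.End V) w = w := rfl
theorem end_add_apply (f g : AddMonoid.End V) (w : V) : (f + g) w = f w + g w := rfl
theorem end_sub_apply (f g : AddMonoid.End V) (w : V) : (f - g) w = f w - g w := rfl
theorem end_neg_apply (f : AddMonoid.End V) (w : V) : (-f) w = -(f w) := rfl

variable [Finite V]

/-- An elementary abelian `q`-group on which an automorphism of prime order `p ≠ q` acts
irreducibly has order `q ^ e`, `e` the multiplicative order of `q` modulo `p`. -/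
theorem card_of_irreducible_prime_order {p q : ℕ} [hp : Fact p.Prime] [hq : Fact q.Prime]
    (hpq : p ≠ q) (hVq : ∀ v : V, q • v = 0) [hV : Nontrivial V]
    (τ : AddMonoid.End V) (hτp : τ ^ p = 1) (hτ1 : τ ≠ 1)
    (hirr : ∀ W : AddSubgroup V, (∀ w ∈ W, τ w ∈ W) → W = ⊥ ∨ W = ⊤) :
    Nat.card V = q ^ orderOf (q : ZMod p) := by
  classical
  haveI : IsMulCommutative (Subring.closure ({τ} : Set (AddMonoid.End V))) :=
    Subring.isMulCommutative_closure (singleton_comm_end τ)
  obtain ⟨v0, hv0⟩ := exists_ne (0 : V)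
  have hτK : τ ∈ Subring.closure ({τ} : Set (AddMonoid.End V)) :=
    Subring.subset_closure (Set.mem_singleton τ)
  have cmul : ∀ a b : Subring.closure ({τ} : Set (AddMonoid.End V)),
      ((a * b : Subring.closure ({τ} : Set (AddMonoid.End V))) : AddMonoid.End V) =
        (a : AddMonoid.End V) * (b : AddMonoid.End V) := fun _ _ => rfl
  have cadd : ∀ a b : Subring.closure ({τ} : Set (AddMonoid.End V)),
      ((a + b : Subring.closure ({τ} : Set (AddMonoid.End V))) : AddMonoid.End V) =
        (a : AddMonoid.End V) + (b : AddMonoid.End V) := fun _ _ => rfl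
  have csub : ∀ a b : Subring.closure ({τ} : Set (AddMonoid.End V)),
      ((a - b : Subring.closure ({τ} : Set (AddMonoid.End V))) : AddMonoid.End V) =
        (a : AddMonoid.End V) - (b : AddMonoid.End V) := fun _ _ => rfl
  have cneg : ∀ a : Subring.closure ({τ} : Set (AddMonoid.End V)),
      ((-a : Subring.closure ({τ} : Set (AddMonoid.End V))) : AddMonoid.End V) =
        -(a : AddMonoid.End V) := fun _ => rfl
  have czero : ((0 : Subring.closure ({τ} : Set (AddMonoid.End V))) : AddMonoid.End V) = 0 := rfl
  have cone : ((1 : Subring.closure ({τ} : Set (AddMonoid.End V))) : AddMonoid.End V) = 1 := rfl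
  have hcomm' : ∀ k : Subring.closure ({τ} : Set (AddMonoid.End V)),
      (k : AddMonoid.End V) * τ = τ * (k : AddMonoid.End V) := by
    intro k
    have := mul_comm k ⟨τ, hτK⟩
    exact congrArg Subtype.val this
  have hinj : ∀ k : Subring.closure ({τ} : Set (AddMonoid.End V)), k ≠ 0 →
      Function.Injective (k : AddMonoid.End V) := by
    intro k hk
    let W : AddSubgroup V :=
      { carrier := {w | (k : AddMonoid.End V) w = 0}
        add_mem' := by
          intro a b ha hb
          rw [Set.mem_setOf_eq] at ha hb ⊢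
          rw [map_add, ha, hb, add_zero]
        zero_mem' := map_zero _
        neg_mem' := by
          intro a ha
          rw [Set.mem_setOf_eq] at ha ⊢
          rw [map_neg, ha, neg_zero] }
    have hker := hirr W (by
      intro w hw
      have hw' : (k : AddMonoid.End V) w = 0 := hw
      show (k : AddMonoid.End V) (τ w) = 0
      have h1 := congrArg (fun f : AddMonoid.End V => f w) (hcomm' k)
      simp only [end_mul_apply] at h1
      rw [h1, hw', map_zero])
    rcases hker with h | h
    · rw [injective_iff_map_eq_zero]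
      intro a ha
      have : a ∈ W := ha
      rw [h] at this
      exact (AddSubgroup.mem_bot).mp this
    · exfalso
      apply hk
      apply Subtype.ext
      rw [czero]
      ext w
      have : w ∈ W := by rw [h]; trivial
      rw [end_zero_apply]
      exact this
  haveI : Nontrivial (Subring.closure ({τ} : Set (AddMonoid.End V))) := by
    refine ⟨⟨0, 1, ?_⟩⟩
    intro h
    have h1 := congrArg (fun f : Subring.closure ({τ} : Set (AddMonoid.End V)) =>
      (f : AddMonoid.End V) v0) h
    simp only [czero, cone, end_zero_apply, end_one_apply] at h1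
    exact hv0 h1.symm
  haveI : NoZeroDivisors (Subring.closure ({τ} : Set (AddMonoid.End V))) := ⟨by
    intro a b hab
    by_contra hcon
    push Not at hcon
    apply hcon.2
    have hb0 : ∀ w, (b : AddMonoid.End V) w = 0 := by
      intro w
      apply hinj a hcon.1
      have h1 := congrArg (fun f : Subring.closure ({τ} : Set (AddMonoid.End V)) =>
        (f : AddMonoid.End V) w) hab
      simp only [cmul, czero, end_mul_apply, end_zero_apply] at h1
      rw [h1, map_zero]
    apply Subtype.ext
    rw [czero]
    ext w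
    rw [end_zero_apply]
    exact hb0 w⟩
  haveI : IsDomain (Subring.closure ({τ} : Set (AddMonoid.End V))) := NoZeroDivisors.to_isDomain _
  haveI : Finite (AddMonoid.End V) :=
    Finite.of_injective (fun f : AddMonoid.End V => (f : V → V)) DFunLike.coe_injective
  haveI : Fintype (Subring.closure ({τ} : Set (AddMonoid.End V))) := Fintype.ofFinite _
  have hbij : Function.Bijective
      (fun k : Subring.closure ({τ} : Set (AddMonoid.End V)) => (k : AddMonoid.End V) v0) := by
    constructor
    · intro k1 k2 h
      by_contra hne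
      have hsub : k1 - k2 ≠ 0 := sub_ne_zero.mpr hne
      apply hv0
      apply hinj _ hsub
      rw [csub, end_sub_apply, map_zero]
      exact sub_eq_zero.mpr h
    · let W : AddSubgroup V :=
        { carrier := Set.range
            (fun k : Subring.closure ({τ} : Set (AddMonoid.End V)) => (k : AddMonoid.End V) v0)
          add_mem' := by
            rintro _ _ ⟨a, rfl⟩ ⟨b, rfl⟩
            exact ⟨a + b, by simp only [cadd, end_add_apply]⟩
          zero_mem' := ⟨0, by simp only [czero, end_zero_apply]⟩
          neg_mem' := by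
            rintro _ ⟨a, rfl⟩
            exact ⟨-a, by simp only [cneg, end_neg_apply]⟩ }
      have hW := hirr W (by
        rintro _ ⟨a, rfl⟩
        exact ⟨⟨τ, hτK⟩ * a, by simp only [cmul, end_mul_apply]⟩)
      have hv0W : v0 ∈ W := ⟨1, by simp only [cone, end_one_apply]⟩
      rcases hW with h | h
      · exfalso
        rw [h] at hv0W
        exact hv0 ((AddSubgroup.mem_bot).mp hv0W)
      · intro v
        have : v ∈ W := by rw [h]; trivial
        exact this
  have hcard : Nat.card V = Fintype.card (Subring.closure ({τ} : Set (AddMonoid.End V))) := by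
    rw [← Nat.card_eq_fintype_card]
    exact (Nat.card_eq_of_bijective _ hbij).symm
  have hq0 : ((q : ℕ) : Subring.closure ({τ} : Set (AddMonoid.End V))) = 0 := by
    apply Subtype.ext
    rw [czero]
    have : (((q : ℕ) : Subring.closure ({τ} : Set (AddMonoid.End V))) : AddMonoid.End V) =
        ((q : ℕ) : AddMonoid.End V) := rfl
    rw [this]
    ext w
    rw [AddMonoid.End.natCast_apply, hVq w, end_zero_apply]
  haveI : CharP (Subring.closure ({τ} : Set (AddMonoid.End V))) q := by
    have h := CharP.ringChar_of_prime_eq_zero hq.out hq0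
    exact h ▸ ringChar.charP _
  have he := orderOf_zmod_pos (p := p) hq.out hpq
  have hmod : q ^ orderOf (q : ZMod p) % p = 1 := by
    have h1 : ((q ^ orderOf (q : ZMod p) : ℕ) : ZMod p) = ((1 : ℕ) : ZMod p) := by
      push_cast
      exact pow_orderOf_eq_one _
    have h2 := (ZMod.natCast_eq_natCast_iff' _ _ _).mp h1
    rw [h2, Nat.mod_eq_of_lt hp.out.one_lt]
  have hτpK : (⟨τ, hτK⟩ : Subring.closure ({τ} : Set (AddMonoid.End V))) ^ p = 1 := by
    apply Subtype.ext
    have : (((⟨τ, hτK⟩ : Subring.closure ({τ} : Set (AddMonoid.End V))) ^ p :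
        Subring.closure ({τ} : Set (AddMonoid.End V))) : AddMonoid.End V) = τ ^ p := rfl
    rw [this, hτp, cone]
  have hτfrob : (⟨τ, hτK⟩ : Subring.closure ({τ} : Set (AddMonoid.End V))) ^
      q ^ orderOf (q : ZMod p) = ⟨τ, hτK⟩ := by
    have h1 : q ^ orderOf (q : ZMod p) = p * (q ^ orderOf (q : ZMod p) / p) + 1 := by
      have := Nat.div_add_mod (q ^ orderOf (q : ZMod p)) p
      rw [hmod] at this
      exact this.symm
    rw [h1, pow_succ, pow_mul, hτpK, one_pow, one_mul]
  have hfrob : ∀ k : Subring.closure ({τ} : Set (AddMonoid.End V)),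
      k ^ q ^ orderOf (q : ZMod p) = k := by
    rintro ⟨k, hk⟩
    refine Subring.closure_induction
      (p := fun x hx => (⟨x, hx⟩ : Subring.closure ({τ} : Set (AddMonoid.End V))) ^
        q ^ orderOf (q : ZMod p) = ⟨x, hx⟩) ?_ ?_ ?_ ?_ ?_ ?_ hk
    · intro x hx
      rw [Set.mem_singleton_iff] at hx
      subst hx
      exact hτfrob
    · exact zero_pow (pow_ne_zero _ hq.out.ne_zero)
    · exact one_pow _
    · intro x y hx hy ihx ihy
      have := add_pow_char_pow (⟨x, hx⟩ : Subring.closure ({τ} : Set (AddMonoid.End V)))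
        ⟨y, hy⟩ q (orderOf (q : ZMod p))
      rw [ihx, ihy] at this
      exact this
    · intro x hx ihx
      have h1 := add_pow_char_pow (-(⟨x, hx⟩ : Subring.closure ({τ} : Set (AddMonoid.End V))))
        ⟨x, hx⟩ q (orderOf (q : ZMod p))
      rw [neg_add_cancel, zero_pow (pow_ne_zero _ hq.out.ne_zero), ihx] at h1
      exact (eq_neg_of_add_eq_zero_left h1.symm)
    · intro x y hx hy ihx ihy
      have := mul_pow (⟨x, hx⟩ : Subring.closure ({τ} : Set (AddMonoid.End V))) ⟨y, hy⟩
        (q ^ orderOf (q : ZMod p))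
      rw [ihx, ihy] at this
      exact this
  have hτ1K : (⟨τ, hτK⟩ : Subring.closure ({τ} : Set (AddMonoid.End V))) ≠ 1 := by
    intro h
    exact hτ1 (congrArg Subtype.val h)
  rw [hcard]
  exact card_eq_of_frob _ q p ⟨τ, hτK⟩ hτpK hτ1K he hfrob

end IrrPrime

end Cfsg.Agent.Lib.Helper2
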