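import Mathlib
import Cfsg.Agent.Lib.Helper2.IrrPrime
import Cfsg.Agent.Lib.Helper2.Conj
import Cfsg.Agent.Lib.Helper2.Index

set_option autoImplicit false
set_option linter.style.haveILetI false
set_option linter.deprecated false

open Pointwise
open scoped IsMulCommutative

namespace Cfsg.Agent.Lib.Helper2

/-- A minimal normal elementary abelian `q`-subgroup `A` of `G = A ⟨x⟩`, with `x` of prime order
`p ≠ q` not centralizing `A`, has order `q ^ e`, `e` the multiplicative order of `q` mod `p`. -/
theorem card_minimal_normal_of_prime_index {G : Type*} [Group G] [Finite G] {p q : ℕ}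
    [hp : Fact p.Prime] [hq : Fact q.Prime] (hpq : p ≠ q) (A : Subgroup G) [hAn : A.Normal]
    (hAc : IsMulCommutative A) (hAq : ∀ a ∈ A, a ^ q = 1) (hA1 : A ≠ ⊥)
    (hmin : ∀ B : Subgroup G, B.Normal → B ≤ A → B = ⊥ ∨ B = A) (x : G) (hxp : x ^ p = 1)
    (hsup : A ⊔ Subgroup.zpowers x = ⊤) (hxA : ∃ a ∈ A, x * a ≠ a * x) :
    Nat.card A = q ^ orderOf (q : ZMod p) := by
  classical
  haveI := hAc
  let c : ↥A →* ↥A :=
    { toFun := fun a => ⟨x * a.1 * x⁻¹, hAn.conj_mem a.1 a.2 x⟩
      map_one' := by apply Subtype.ext; simp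
      map_mul' := by intro a b; apply Subtype.ext; simp }
  let τ : AddMonoid.End (Additive ↥A) := MonoidHom.toAdditive c
  have hτ : ∀ w : Additive ↥A,
      ((Additive.toMul (τ w) : ↥A) : G) = x * ((Additive.toMul w : ↥A) : G) * x⁻¹ := fun w => rfl
  have hτn : ∀ n : ℕ, ∀ w : Additive ↥A,
      ((Additive.toMul ((τ ^ n) w) : ↥A) : G) =
        x ^ n * ((Additive.toMul w : ↥A) : G) * (x ^ n)⁻¹ := by
    intro n
    induction n with
    | zero => intro w; rw [pow_zero, end_one_apply]; simp
    | succ n ih =>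
      intro w
      rw [pow_succ', end_mul_apply, hτ, ih]
      simp [pow_succ', mul_assoc]
  haveI : Nontrivial (Additive ↥A) := (Subgroup.nontrivial_iff_ne_bot A).2 hA1
  have hVq : ∀ v : Additive ↥A, q • v = 0 := by
    intro v
    have h1 : (Additive.toMul v) ^ q = 1 := by
      apply Subtype.ext
      rw [Subgroup.coe_pow]
      exact hAq _ (Additive.toMul v).2
    have h2 : q • v = Additive.ofMul ((Additive.toMul v) ^ q) := rfl
    rw [h2, h1]; rfl
  have hτp : τ ^ p = 1 := by
    refine DFunLike.ext _ _ fun w => ?_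
    rw [end_one_apply]
    have h := hτn p w
    rw [hxp] at h
    have h2 : (Additive.toMul ((τ ^ p) w)) = Additive.toMul w := by
      apply Subtype.ext; rw [h]; simp
    exact Additive.toMul.injective h2
  have hτ1 : τ ≠ 1 := by
    intro h
    obtain ⟨a, ha, hne⟩ := hxA
    apply hne
    have h1 := hτ (Additive.ofMul ⟨a, ha⟩)
    rw [h, end_one_apply] at h1
    have h2 : a = x * a * x⁻¹ := h1
    calc x * a = x * a * x⁻¹ * x := by group
      _ = a * x := by rw [← h2]
  have hirr : ∀ W : AddSubgroup (Additive ↥A), (∀ w ∈ W, τ w ∈ W) → W = ⊥ ∨ W = ⊤ := by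
    intro W hW
    let B : Subgroup G :=
      { carrier := {g | ∃ h : g ∈ A, Additive.ofMul (⟨g, h⟩ : ↥A) ∈ W}
        one_mem' := ⟨A.one_mem, W.zero_mem⟩
        mul_mem' := by
          rintro a b ⟨ha, hwa⟩ ⟨hb, hwb⟩
          exact ⟨A.mul_mem ha hb, W.add_mem hwa hwb⟩
        inv_mem' := by
          rintro a ⟨ha, hwa⟩
          exact ⟨A.inv_mem ha, W.neg_mem hwa⟩ }
    have hBA : B ≤ A := fun g hg => hg.1
    have hAB : A ≤ Subgroup.normalizer (B : Set G) := by
      apply le_normalizer_of_commute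
      intro a ha b hb
      have := hAc.is_comm.comm ⟨a, ha⟩ ⟨b, hBA hb⟩
      exact congrArg Subtype.val this
    have hxB : x ∈ Subgroup.normalizer (B : Set G) := by
      have h1 : B ≤ MulAut.conj x⁻¹ • B := by
        intro b hb
        rw [mem_conj_smul_iff, inv_inv]
        obtain ⟨hbA, hbW⟩ := hb
        exact ⟨hAn.conj_mem b hbA x, hW _ hbW⟩
      have h2 := conj_smul_eq_of_le h1
      have h3 : x⁻¹ ∈ Subgroup.normalizer (B : Set G) :=
        (mem_normalizer_iff_conj_smul_eq B x⁻¹).2 h2
      simpa using (Subgroup.normalizer (B : Set G)).inv_mem h3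
    have hBn : B.Normal := by
      have : Subgroup.normalizer (B : Set G) = ⊤ := by
        rw [eq_top_iff, ← hsup]
        exact sup_le hAB ((Subgroup.zpowers_le).2 hxB)
      exact Subgroup.normalizer_eq_top_iff.1 this
    rcases hmin B hBn hBA with h | h
    · left
      rw [eq_bot_iff]
      intro w hw
      have hmem : ((Additive.toMul w : ↥A) : G) ∈ B := ⟨(Additive.toMul w).2, hw⟩
      rw [h, Subgroup.mem_bot] at hmem
      rw [AddSubgroup.mem_bot]
      have : Additive.toMul w = 1 := Subtype.ext hmem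
      exact Additive.toMul.injective this
    · right
      rw [eq_top_iff]
      intro w _
      have hmem : ((Additive.toMul w : ↥A) : G) ∈ B := by rw [h]; exact (Additive.toMul w).2
      obtain ⟨_, hw⟩ := hmem
      exact hw
  have := card_of_irreducible_prime_order hpq hVq τ hτp hτ1 hirr
  exact this

end Cfsg.Agent.Lib.Helper2
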