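import Mathlib

set_option autoImplicit false

namespace Cfsg.Agent.Lib.Helper2.SemiConj

open Polynomial Module

universe u v

variable {F : Type v} [Field F]

theorem aeval_restrict_apply {V : Type u} [AddCommGroup V] [Module F V]
    (f : Module.End F V) {W : Submodule F V} (hW : W ∈ f.invtSubmodule)
    (P : F[X]) : ∀ w : W, ((aeval (f.restrict hW) P) w : V) = (aeval f P) (w : V) := by
  induction P using Polynomial.induction_on with
  | C a =>
    intro w
    rw [aeval_C, aeval_C, Module.algebraMap_end_apply, Module.algebraMap_end_apply,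
      Submodule.coe_smul]
  | add p q hp hq =>
    intro w
    rw [map_add, map_add, LinearMap.add_apply, LinearMap.add_apply, Submodule.coe_add, hp, hq]
  | monomial n a ih =>
    intro w
    have e1 : aeval (f.restrict hW) (C a * X ^ (n + 1))
        = aeval (f.restrict hW) (C a * X ^ n) * (f.restrict hW) := by
      rw [pow_succ, ← mul_assoc, map_mul, aeval_X]
    have e2 : aeval f (C a * X ^ (n + 1)) = aeval f (C a * X ^ n) * f := by
      rw [pow_succ, ← mul_assoc, map_mul, aeval_X]
    rw [e1, e2, Module.End.mul_apply, Module.End.mul_apply, ih]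
    rfl

theorem commute_aeval {V : Type u} [AddCommGroup V] [Module F V] (B : Module.End F V) (c : F[X]) :
    (aeval B c) * B = B * (aeval B c) := by
  calc (aeval B c) * B = aeval B (c * X) := by rw [map_mul, aeval_X]
    _ = aeval B (X * c) := by rw [mul_comm]
    _ = B * aeval B c := by rw [map_mul, aeval_X]

theorem ker_aeval_invt {V : Type u} [AddCommGroup V] [Module F V] (B : Module.End F V) (c : F[X]) :
    LinearMap.ker (aeval B c) ∈ B.invtSubmodule := by
  rw [Module.End.mem_invtSubmodule]
  intro u hu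
  rw [Submodule.mem_comap, LinearMap.mem_ker]
  rw [LinearMap.mem_ker] at hu
  have h1 : (aeval B c) (B u) = ((aeval B c) * B) u := rfl
  rw [h1, commute_aeval B c, Module.End.mul_apply, hu, map_zero]

/-- Splitting off an irreducible summand inside a given nonzero invariant subspace. -/
theorem decomp {V : Type u} [AddCommGroup V] [Module F V] [FiniteDimensional F V]
    (A : Module.End F V) (hss : A.IsSemisimple)
    (K : Submodule F V) (hK : K ∈ A.invtSubmodule) (hK0 : K ≠ ⊥) :
    ∃ (μ : F[X]) (W W' : Submodule F V) (T : AdjoinRoot μ ≃ₗ[F] W)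
      (hW : W ∈ A.invtSubmodule) (hW' : W' ∈ A.invtSubmodule),
      μ.Monic ∧ Irreducible μ ∧ W ≤ K ∧ W ≠ ⊥ ∧ IsCompl W W' ∧
      (∀ l, T (AdjoinRoot.root μ * l) = (A.restrict hW) (T l)) ∧
      (∀ P : F[X], (∀ w ∈ W, aeval A P w = 0) → μ ∣ P) ∧
      (∀ w ∈ W, aeval A μ w = 0) ∧
      A.charpoly = μ * (A.restrict hW').charpoly ∧ Module.End.IsSemisimple (A.restrict hW') ∧
      finrank F W' < finrank F V := by
  classical
  have hex : ∃ d : ℕ, ∃ W : Submodule F V, W ∈ A.invtSubmodule ∧ W ≤ K ∧ W ≠ ⊥ ∧
      finrank F W = d := ⟨_, K, hK, le_rfl, hK0, rfl⟩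
  obtain ⟨W, hWinv, hWK, hW0, hWd⟩ := Nat.find_spec hex
  have hWmin : ∀ W' : Submodule F V, W' ∈ A.invtSubmodule → W' ≤ K → W' ≠ ⊥ →
      finrank F W ≤ finrank F W' := by
    intro W' h1 h1' h2
    rw [hWd]
    exact Nat.find_min' hex ⟨W', h1, h1', h2, rfl⟩
  obtain ⟨W', hW'inv, hcompl⟩ := (Module.End.isSemisimple_iff.1 hss) W hWinv
  obtain ⟨B, hB⟩ : ∃ B : Module.End F W, B = A.restrict hWinv := ⟨_, rfl⟩
  obtain ⟨B', hB'⟩ : ∃ B' : Module.End F W', B' = A.restrict hW'inv := ⟨_, rfl⟩
  have hBcoe : ∀ w : W, ((B w : W) : V) = A (w : V) := by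
    intro w; rw [hB]; rfl
  have hB'coe : ∀ w : W', ((B' w : W') : V) = A (w : V) := by
    intro w; rw [hB']; rfl
  have hirrW : ∀ U : Submodule F W, (∀ u ∈ U, B u ∈ U) → U = ⊥ ∨ U = ⊤ := by
    intro U hU
    by_cases hU0 : U = ⊥
    · exact Or.inl hU0
    · right
      have h1 : U.map W.subtype ∈ A.invtSubmodule := by
        rw [Module.End.mem_invtSubmodule]
        rintro _ ⟨u, hu, rfl⟩
        rw [Submodule.mem_comap]
        exact ⟨B u, hU u hu, hBcoe u⟩
      have h2 : U.map W.subtype ≠ ⊥ := by
        obtain ⟨u, hu, hu0⟩ := (Submodule.ne_bot_iff U).1 hU0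
        rw [Submodule.ne_bot_iff]
        exact ⟨(u : V), ⟨u, hu, rfl⟩, fun h => hu0 (Submodule.coe_eq_zero.1 h)⟩
      have h1' : U.map W.subtype ≤ K := (Submodule.map_subtype_le W U).trans hWK
      have h3 := hWmin _ h1 h1' h2
      rw [Submodule.finrank_map_subtype_eq] at h3
      exact Submodule.eq_top_of_finrank_eq (le_antisymm (Submodule.finrank_le U) h3)
  haveI : Nontrivial W := by
    rw [Submodule.nontrivial_iff_ne_bot]; exact hW0
  obtain ⟨μ, hμ⟩ : ∃ μ : F[X], μ = minpoly F B := ⟨_, rfl⟩
  have hint : IsIntegral F B := Algebra.IsIntegral.isIntegral B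
  have hmonic : μ.Monic := hμ ▸ minpoly.monic hint
  have haeval : aeval B μ = 0 := hμ ▸ minpoly.aeval F B
  have hmin : ∀ P : F[X], aeval B P = 0 → μ ∣ P := fun P hP => hμ ▸ minpoly.dvd F B hP
  have hμ0 : μ ≠ 0 := hmonic.ne_zero
  have hker : ∀ c : F[X], ∀ u ∈ LinearMap.ker (aeval B c), B u ∈ LinearMap.ker (aeval B c) := by
    intro c u hu
    exact (Module.End.mem_invtSubmodule B).1 (ker_aeval_invt B c) hu
  have hirr : Irreducible μ := by
    rw [irreducible_iff]
    constructor
    · intro hu
      have h1 := hmonic.eq_one_of_isUnit hu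
      rw [h1, map_one] at haeval
      exact one_ne_zero haeval
    · intro a b hab
      rcases hirrW (LinearMap.ker (aeval B a)) (hker a) with h | h
      · left
        have hb : aeval B b = 0 := by
          apply LinearMap.ext
          intro w
          have h1 : (aeval B b) w ∈ LinearMap.ker (aeval B a) := by
            rw [LinearMap.mem_ker]
            have h2 : (aeval B a) ((aeval B b) w) = (aeval B (a * b)) w := by
              rw [map_mul]; rfl
            rw [h2, ← hab, haeval]; rfl
          rw [h] at h1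
          exact (Submodule.mem_bot F).1 h1
        obtain ⟨c, hc⟩ := hmin b hb
        have h1 : μ * 1 = μ * (a * c) := by
          rw [mul_one]
          calc μ = a * b := hab
            _ = a * (μ * c) := by rw [hc]
            _ = μ * (a * c) := by ring
        have h2 := mul_left_cancel₀ hμ0 h1
        exact isUnit_iff_exists_inv.2 ⟨c, h2.symm⟩
      · right
        have ha : aeval B a = 0 := by
          apply LinearMap.ext
          intro w
          have h1 : w ∈ LinearMap.ker (aeval B a) := by rw [h]; trivial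
          exact LinearMap.mem_ker.1 h1
        obtain ⟨c, hc⟩ := hmin a ha
        have h1 : μ * 1 = μ * (b * c) := by
          rw [mul_one]
          calc μ = a * b := hab
            _ = (μ * c) * b := by rw [hc]
            _ = μ * (b * c) := by ring
        have h2 := mul_left_cancel₀ hμ0 h1
        exact isUnit_iff_exists_inv.2 ⟨c, h2.symm⟩
  haveI : Fact (Irreducible μ) := ⟨hirr⟩
  haveI hfin : Module.Finite F (AdjoinRoot μ) := (AdjoinRoot.powerBasis hμ0).finite
  have hkerμ : ∀ a ∈ Ideal.span {μ}, aeval B a = 0 := by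
    intro a ha
    obtain ⟨c, rfl⟩ := Ideal.mem_span_singleton.1 ha
    rw [map_mul, haeval, zero_mul]
  let φ : AdjoinRoot μ →ₐ[F] Module.End F W :=
    Ideal.Quotient.liftₐ (Ideal.span {μ}) (aeval B) hkerμ
  have hφmk : ∀ P : F[X], φ (AdjoinRoot.mk μ P) = aeval B P := fun P => rfl
  have hφroot : φ (AdjoinRoot.root μ) = B := by
    rw [← AdjoinRoot.mk_X, hφmk, aeval_X]
  obtain ⟨w₀, hw₀⟩ := exists_ne (0 : W)
  let T : AdjoinRoot μ →ₗ[F] W :=
    { toFun := fun l => φ l w₀
      map_add' := fun a b => by rw [map_add, LinearMap.add_apply]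
      map_smul' := fun c a => by rw [map_smul, LinearMap.smul_apply, RingHom.id_apply] }
  have hTapp : ∀ l, T l = φ l w₀ := fun l => rfl
  have hTmul : ∀ l l', φ l (T l') = T (l * l') := by
    intro l l'
    rw [hTapp, hTapp, map_mul]; rfl
  have hTinj : Function.Injective T := by
    rw [injective_iff_map_eq_zero]
    intro l hl
    by_contra hl0
    apply hw₀
    have h1 : φ l⁻¹ * φ l = 1 := by rw [← map_mul, inv_mul_cancel₀ hl0, map_one]
    have h2 : w₀ = (φ l⁻¹ * φ l) w₀ := by rw [h1]; rfl
    have h3 : (φ l⁻¹ * φ l) w₀ = φ l⁻¹ (T l) := rfl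
    rw [h3, hl, map_zero] at h2
    exact h2
  have hTsurj : Function.Surjective T := by
    rw [← LinearMap.range_eq_top]
    rcases hirrW (LinearMap.range T) (by
      rintro _ ⟨l, rfl⟩
      exact ⟨AdjoinRoot.root μ * l, by rw [← hTmul, hφroot]⟩) with h | h
    · exfalso
      apply hw₀
      have h1 : T 1 ∈ LinearMap.range T := ⟨1, rfl⟩
      rw [h] at h1
      have h2 : T 1 = w₀ := by rw [hTapp, map_one]; rfl
      rw [← h2]
      exact (Submodule.mem_bot F).1 h1
    · exact h
  let Te : AdjoinRoot μ ≃ₗ[F] W := LinearEquiv.ofBijective T ⟨hTinj, hTsurj⟩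
  have hTe : ∀ l, Te l = T l := fun l => rfl
  have hBzero : ∀ P : F[X], (∀ w ∈ W, aeval A P w = 0) → aeval B P = 0 := by
    intro P hP
    apply LinearMap.ext
    intro w
    apply Subtype.ext
    rw [hB, aeval_restrict_apply A hWinv P w]
    exact hP w w.2
  have hchB : B.charpoly = μ := by
    apply eq_of_monic_of_dvd_of_natDegree_le hmonic (LinearMap.charpoly_monic B)
    · rw [hμ]; exact LinearMap.minpoly_dvd_charpoly B
    · rw [LinearMap.charpoly_natDegree, ← Te.finrank_eq, (AdjoinRoot.powerBasis hμ0).finrank,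
        AdjoinRoot.powerBasis_dim]
  let e : (W × W') ≃ₗ[F] V := Submodule.prodEquivOfIsCompl W W' hcompl
  have he : ∀ y : W × W', e y = (y.1 : V) + (y.2 : V) := fun y => rfl
  have hAe : ∀ y : W × W', A (e y) = e (B y.1, B' y.2) := by
    intro y
    rw [he, he, map_add, hBcoe, hB'coe]
  have hconj : e.conj (B.prodMap B') = A := by
    apply LinearMap.ext
    intro v
    obtain ⟨y, rfl⟩ := e.surjective v
    rw [LinearEquiv.conj_apply, LinearMap.comp_apply, LinearMap.comp_apply, LinearEquiv.coe_coe,
      LinearEquiv.coe_coe, LinearEquiv.symm_apply_apply, hAe]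
    rfl
  refine ⟨μ, W, W', Te, hWinv, hW'inv, hmonic, hirr, hWK, hW0, hcompl, ?_, ?_, ?_, ?_, ?_, ?_⟩
  · intro l
    rw [hTe, hTe, ← hB, ← hφroot, hTmul]
  · intro P hP
    exact hmin P (hBzero P hP)
  · intro w hw
    have h1 := aeval_restrict_apply A hWinv μ ⟨w, hw⟩
    rw [← hB, haeval] at h1
    exact h1.symm
  · have h9 := congrArg LinearMap.charpoly hconj
    rw [← h9, LinearEquiv.charpoly_conj, LinearMap.charpoly_prodMap, hchB, hB']
  · exact hss.restrict hW'inv
  · have h1 := Submodule.finrank_add_eq_of_isCompl hcompl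
    have h2 : 0 < finrank F W := Module.finrank_pos
    omega

/-- An irreducible factor of the characteristic polynomial of a semisimple endomorphism kills a
nonzero vector. -/
theorem exists_ker_ne_zero (d : ℕ) : ∀ {V : Type u} [AddCommGroup V] [Module F V]
    [FiniteDimensional F V] (B : Module.End F V), finrank F V = d → B.IsSemisimple →
    ∀ μ : F[X], Irreducible μ → μ ∣ B.charpoly → ∃ v : V, v ≠ 0 ∧ aeval B μ v = 0 := by
  induction d using Nat.strong_induction_on with
  | _ d ih =>
    intro V _ _ _ B hd hss μ hμ hdvd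
    rcases Nat.eq_zero_or_pos d with hd0 | hd0
    · exfalso
      have h1 : B.charpoly.natDegree = 0 := by rw [LinearMap.charpoly_natDegree, hd, hd0]
      have h2 : B.charpoly = 1 := (LinearMap.charpoly_monic B).natDegree_eq_zero.1 h1
      rw [h2] at hdvd
      exact hμ.not_isUnit (isUnit_of_dvd_one hdvd)
    · haveI : Nontrivial V := Module.finrank_pos_iff.1 (hd ▸ hd0)
      obtain ⟨ν, U, U', T, hU, hU', hνm, hνi, -, hU0, hc, -, -, hkill, hch, hss', hlt⟩ :=
        decomp B hss ⊤ (by simp [Module.End.mem_invtSubmodule]) top_ne_bot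
      rw [hch] at hdvd
      rcases hμ.prime.dvd_or_dvd hdvd with h | h
      · have hassoc : Associated μ ν := hμ.associated_of_dvd hνi h
        obtain ⟨c, hc'⟩ := hassoc.symm.dvd
        obtain ⟨u, hu, hu0⟩ := (Submodule.ne_bot_iff U).1 hU0
        refine ⟨u, hu0, ?_⟩
        rw [hc', mul_comm, map_mul, Module.End.mul_apply, hkill u hu, map_zero]
      · obtain ⟨u', hu'0, hu'⟩ := ih (finrank F U') (hd ▸ hlt) (B.restrict hU') rfl hss' μ hμ h
        refine ⟨(u' : V), fun h0 => hu'0 (Submodule.coe_eq_zero.1 h0), ?_⟩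
        rw [← aeval_restrict_apply B hU' μ u', hu']
        rfl

/-- Semisimple endomorphisms with the same characteristic polynomial are conjugate. -/
theorem conj_of_charpoly_eq (d : ℕ) : ∀ {V V' : Type u} [AddCommGroup V] [Module F V]
    [FiniteDimensional F V] [AddCommGroup V'] [Module F V'] [FiniteDimensional F V']
    (A : Module.End F V) (B : Module.End F V'), finrank F V = d → A.IsSemisimple →
    B.IsSemisimple → A.charpoly = B.charpoly → ∃ e : V ≃ₗ[F] V', ∀ v, e (A v) = B (e v) := by
  induction d using Nat.strong_induction_on with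
  | _ d ih =>
    intro V V' _ _ _ _ _ _ A B hd hssA hssB hch
    have hd' : finrank F V' = d := by
      rw [← LinearMap.charpoly_natDegree B, ← hch, LinearMap.charpoly_natDegree, hd]
    rcases Nat.eq_zero_or_pos d with hd0 | hd0
    · haveI : Subsingleton V := Module.finrank_zero_iff.1 (hd.trans hd0)
      haveI : Subsingleton V' := Module.finrank_zero_iff.1 (hd'.trans hd0)
      exact ⟨LinearEquiv.ofSubsingleton V V', fun v => Subsingleton.elim _ _⟩
    · haveI : Nontrivial V := Module.finrank_pos_iff.1 (hd ▸ hd0)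
      obtain ⟨μ, W, W', TA, hW, hW', hμm, hμi, -, hW0, hcA, hTA, -, -, hchA, hssA', hltA⟩ :=
        decomp A hssA ⊤ (by simp [Module.End.mem_invtSubmodule]) top_ne_bot
      have hμB : μ ∣ B.charpoly := by rw [← hch, hchA]; exact dvd_mul_right _ _
      obtain ⟨v, hv0, hv⟩ := exists_ker_ne_zero d B hd' hssB μ hμi hμB
      have hK0 : LinearMap.ker (aeval B μ) ≠ ⊥ := by
        rw [Submodule.ne_bot_iff]
        exact ⟨v, LinearMap.mem_ker.2 hv, hv0⟩
      obtain ⟨ν, U, U', TB, hU, hU', hνm, hνi, hUK, hU0, hcB, hTB, hdvdν, -, hchB, hssB', hltB⟩ :=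
        decomp B hssB (LinearMap.ker (aeval B μ)) (ker_aeval_invt B μ) hK0
      have hνμ : ν = μ := by
        have h1 : ν ∣ μ := hdvdν μ (fun u hu => LinearMap.mem_ker.1 (hUK hu))
        exact eq_of_monic_of_associated hνm hμm (hνi.associated_of_dvd hμi h1)
      subst hνμ
      have hch' : (A.restrict hW').charpoly = (B.restrict hU').charpoly := by
        have h1 : ν * (A.restrict hW').charpoly = ν * (B.restrict hU').charpoly := by
          rw [← hchA, ← hchB, hch]
        exact mul_left_cancel₀ hνm.ne_zero h1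
      obtain ⟨e', he'⟩ := ih (finrank F W') (hd ▸ hltA) (A.restrict hW') (B.restrict hU') rfl
        hssA' hssB' hch'
      let eW : W ≃ₗ[F] U := TA.symm.trans TB
      have heW : ∀ w : W, eW ((A.restrict hW) w) = (B.restrict hU) (eW w) := by
        intro w
        obtain ⟨l, rfl⟩ := TA.surjective w
        rw [← hTA]
        change TB (TA.symm (TA _)) = (B.restrict hU) (TB (TA.symm (TA l)))
        rw [LinearEquiv.symm_apply_apply, LinearEquiv.symm_apply_apply, hTB]
      let eV : (W × W') ≃ₗ[F] V := Submodule.prodEquivOfIsCompl W W' hcA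
      let eV' : (U × U') ≃ₗ[F] V' := Submodule.prodEquivOfIsCompl U U' hcB
      have heV : ∀ y : W × W', eV y = (y.1 : V) + (y.2 : V) := fun y => rfl
      have heV' : ∀ y : U × U', eV' y = (y.1 : V') + (y.2 : V') := fun y => rfl
      have hAe : ∀ y : W × W', A (eV y) = eV ((A.restrict hW) y.1, (A.restrict hW') y.2) := by
        intro y
        rw [heV, heV, map_add]
        rfl
      have hBe : ∀ y : U × U', B (eV' y) = eV' ((B.restrict hU) y.1, (B.restrict hU') y.2) := by
        intro y
        rw [heV', heV', map_add]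
        rfl
      refine ⟨eV.symm.trans ((eW.prodCongr e').trans eV'), ?_⟩
      intro v
      obtain ⟨y, rfl⟩ := eV.surjective v
      rw [hAe]
      change eV' ((eW.prodCongr e') (eV.symm (eV _))) = B (eV' ((eW.prodCongr e') (eV.symm (eV y))))
      rw [LinearEquiv.symm_apply_apply, LinearEquiv.symm_apply_apply, hBe]
      change eV' (eW _, e' _) = eV' ((B.restrict hU) (eW y.1), (B.restrict hU') (e' y.2))
      rw [heW, he']

end Cfsg.Agent.Lib.Helper2.SemiConj
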