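import Mathlib
import Cfsg.Agent.S2388

namespace Cfsg.Agent.Lib.Helper2.SemiClasses

open Polynomial Module

universe u

theorem prodMap_pow_apply {R M N : Type*} [CommRing R] [AddCommGroup M] [Module R M]
    [AddCommGroup N] [Module R N]
    (f : Module.End R M) (g : Module.End R N) (k : ℕ) (v : M × N) :
    ((f.prodMap g) ^ k) v = ((f ^ k) v.1, (g ^ k) v.2) := by
  induction k generalizing v with
  | zero => simp
  | succ k ih =>
    rw [pow_succ, Module.End.mul_apply, ih, pow_succ, pow_succ]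
    rfl

theorem exists_model {F : Type u} [Field F] [Fintype F] (p : ℕ) [Fact p.Prime] [CharP F p] :
    ∀ (d : ℕ) (f : F[X]), f.Monic → f.natDegree = d → f.coeff 0 ≠ 0 →
    ∃ (V : Type u) (_ : AddCommGroup V) (_ : Module F V) (_ : FiniteDimensional F V)
      (A : Module.End F V) (k : ℕ), ¬ p ∣ k ∧ k ≠ 0 ∧ A ^ k = 1 ∧ LinearMap.charpoly A = f := by
  intro d
  induction d using Nat.strong_induction_on with
  | _ d ih =>
    intro f hf hd h0
    classical
    have hp : p.Prime := Fact.out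
    by_cases hd0 : d = 0
    · subst hd0
      have hf1 : f = 1 := (Polynomial.Monic.natDegree_eq_zero hf).1 hd
      refine ⟨PUnit.{u+1}, inferInstance, inferInstance, inferInstance, 1, 1, ?_, one_ne_zero,
        pow_one _, ?_⟩
      · intro h; exact hp.one_lt.ne' (Nat.dvd_one.1 h)
      · rw [hf1]
        apply (Polynomial.Monic.natDegree_eq_zero (LinearMap.charpoly_monic _)).1
        rw [LinearMap.charpoly_natDegree]
        exact Module.finrank_zero_of_subsingleton
    · have hnu : ¬ IsUnit f := by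
        intro hu
        have := Polynomial.natDegree_eq_zero_of_isUnit hu
        omega
      obtain ⟨μ₀, hirr₀, hdvd₀⟩ := WfDvdMonoid.exists_irreducible_factor hnu hf.ne_zero
      obtain ⟨μ, hμ⟩ : ∃ μ : F[X], μ = normalize μ₀ := ⟨_, rfl⟩
      have hμm : μ.Monic := by rw [hμ]; exact Polynomial.monic_normalize hirr₀.ne_zero
      have hμirr : Irreducible μ := by rw [hμ]; exact (associated_normalize μ₀).irreducible hirr₀
      have hμdvd : μ ∣ f := by rw [hμ]; exact normalize_dvd_iff.2 hdvd₀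
      obtain ⟨f', hf'⟩ := hμdvd
      have hf'm : f'.Monic := by
        apply Polynomial.Monic.of_mul_monic_left hμm
        rw [← hf']; exact hf
      have hdeg : f.natDegree = μ.natDegree + f'.natDegree := by
        rw [hf']; exact Polynomial.Monic.natDegree_mul hμm hf'm
      have hμpos : 0 < μ.natDegree := hμirr.natDegree_pos
      have hc0 : f.coeff 0 = μ.coeff 0 * f'.coeff 0 := by rw [hf', Polynomial.mul_coeff_zero]
      have hμ0c : μ.coeff 0 ≠ 0 := by
        intro h; apply h0; rw [hc0, h, zero_mul]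
      have hf'0 : f'.coeff 0 ≠ 0 := by
        intro h; apply h0; rw [hc0, h, mul_zero]
      obtain ⟨V', i1, i2, i3, A', k', hpk', hk'0, hA'k, hA'f⟩ :=
        ih f'.natDegree (by omega) f' hf'm rfl hf'0
      let _ := i1
      let _ := i2
      have _ := i3
      haveI : Fact (Irreducible μ) := ⟨hμirr⟩
      have hμne : μ ≠ 0 := hμm.ne_zero
      haveI : Module.Finite F (AdjoinRoot μ) := Polynomial.Monic.finite_adjoinRoot hμm
      haveI : Finite (AdjoinRoot μ) := Module.finite_of_finite F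
      letI : Fintype (AdjoinRoot μ) := Fintype.ofFinite _
      haveI : CharP (AdjoinRoot μ) p :=
        charP_of_injective_algebraMap (algebraMap F (AdjoinRoot μ)).injective p
      have hroot : AdjoinRoot.root μ ≠ 0 := by
        intro h
        have h1 := AdjoinRoot.eval₂_root μ
        rw [h, Polynomial.eval₂_at_zero] at h1
        exact hμ0c ((map_eq_zero (AdjoinRoot.of μ)).1 h1)
      have hcardE : 2 ≤ Fintype.card (AdjoinRoot μ) := Fintype.one_lt_card
      obtain ⟨m, -, hm⟩ := FiniteField.card (AdjoinRoot μ) p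
      have hpE : p ∣ Fintype.card (AdjoinRoot μ) := by
        rw [hm]; exact dvd_pow_self p m.ne_zero
      have hk1 : ¬ p ∣ (Fintype.card (AdjoinRoot μ) - 1) := by
        intro h
        have h2 : Fintype.card (AdjoinRoot μ) - 1 + 1 = Fintype.card (AdjoinRoot μ) := by omega
        have h3 : p ∣ Fintype.card (AdjoinRoot μ) - 1 + 1 := by rw [h2]; exact hpE
        have h4 : p ∣ 1 := (Nat.dvd_add_right h).1 h3
        exact hp.one_lt.ne' (Nat.dvd_one.1 h4)
      have hRk : (Algebra.lmul F (AdjoinRoot μ) (AdjoinRoot.root μ)) ^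
          (Fintype.card (AdjoinRoot μ) - 1) = 1 := by
        rw [← map_pow, FiniteField.pow_card_sub_one_eq_one _ hroot, map_one]
      have hRc : LinearMap.charpoly (Algebra.lmul F (AdjoinRoot μ) (AdjoinRoot.root μ)) = μ := by
        have h1 := charpoly_leftMulMatrix (AdjoinRoot.powerBasis hμne)
        rw [AdjoinRoot.powerBasis_gen hμne, Algebra.leftMulMatrix_apply,
          LinearMap.charpoly_toMatrix,
          AdjoinRoot.minpoly_root hμne, hμm.leadingCoeff, inv_one, Polynomial.C_1, mul_one] at h1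
        exact h1
      refine ⟨AdjoinRoot μ × V', inferInstance, inferInstance, inferInstance,
        (Algebra.lmul F (AdjoinRoot μ) (AdjoinRoot.root μ)).prodMap A',
        (Fintype.card (AdjoinRoot μ) - 1) * k', ?_, ?_, ?_, ?_⟩
      · intro h
        rcases (Nat.Prime.dvd_mul hp).1 h with h | h
        · exact hk1 h
        · exact hpk' h
      · exact Nat.mul_ne_zero (by omega) hk'0
      · apply LinearMap.ext
        intro v
        have e1 : (Algebra.lmul F (AdjoinRoot μ) (AdjoinRoot.root μ)) ^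
            ((Fintype.card (AdjoinRoot μ) - 1) * k') = 1 := by rw [pow_mul, hRk, one_pow]
        have e2 : A' ^ ((Fintype.card (AdjoinRoot μ) - 1) * k') = 1 := by
          rw [Nat.mul_comm, pow_mul, hA'k, one_pow]
        rw [prodMap_pow_apply, e1, e2]
        rfl
      · rw [LinearMap.charpoly_prodMap, hRc, hA'f, hf']

theorem exists_gl {F : Type u} [Field F] [Fintype F] (p : ℕ) [Fact p.Prime] [CharP F p] (n : ℕ)
    (f : F[X]) (hf : f.Monic) (hd : f.natDegree = n) (h0 : f.coeff 0 ≠ 0) :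
    ∃ g : GL (Fin n) F, (g : Matrix (Fin n) (Fin n) F).charpoly = f ∧ (orderOf g).Coprime p := by
  obtain ⟨V, i1, i2, i3, A, k, hpk, hk0, hAk, hAf⟩ := exists_model p n f hf hd h0
  letI := i1
  letI := i2
  haveI := i3
  have hp : p.Prime := Fact.out
  have hfin : finrank F V = n := by rw [← LinearMap.charpoly_natDegree A, hAf, hd]
  let b : Basis (Fin n) F V := Module.finBasisOfFinrankEq F V hfin
  obtain ⟨M, hM⟩ : ∃ M : Matrix (Fin n) (Fin n) F, M = LinearMap.toMatrixAlgEquiv b A := ⟨_, rfl⟩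
  have hMk : M ^ k = 1 := by rw [hM, ← map_pow, hAk, map_one]
  have hMc : M.charpoly = f := by
    rw [hM, ← hAf]; exact LinearMap.charpoly_toMatrix A b
  refine ⟨Units.ofPowEqOne M k hMk hk0, ?_, ?_⟩
  · rw [Units.val_ofPowEqOne]; exact hMc
  · have h1 : orderOf (Units.ofPowEqOne M k hMk hk0) ∣ k :=
      orderOf_dvd_of_pow_eq_one (Units.pow_ofPowEqOne hMk hk0)
    exact Nat.Coprime.coprime_dvd_left h1 ((Nat.Prime.coprime_iff_not_dvd hp).2 hpk).symm

theorem card_poly {F : Type*} [Field F] [Fintype F] (n : ℕ) (hn : 1 ≤ n) (P : F → Prop) :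
    Nat.card {f : {p : F[X] // p.Monic ∧ p.natDegree = n} // P (f.1.coeff 0)} =
      Nat.card {a : F // P a} * (Fintype.card F) ^ (n - 1) := by
  classical
  let Ξ : {p : F[X] // p.Monic ∧ p.natDegree = n} ≃ (Fin n → F) :=
    (Polynomial.monicEquivDegreeLT n).trans (Polynomial.degreeLTEquiv F n).toEquiv
  have hΞ : ∀ (f : {p : F[X] // p.Monic ∧ p.natDegree = n}) (i : Fin n),
      Ξ f i = f.1.coeff i := by
    intro f i
    have h1 : Ξ f i = (f.1.eraseLead).coeff i := rfl
    rw [h1, Polynomial.eraseLead_coeff_of_ne]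
    rw [f.2.2]; exact i.2.ne
  let i0 : Fin n := ⟨0, hn⟩
  let e1 : {f : {p : F[X] // p.Monic ∧ p.natDegree = n} // P (f.1.coeff 0)} ≃
      {c : Fin n → F // P (c i0)} :=
    Equiv.subtypeEquiv Ξ (fun f => by
      have h : Ξ f i0 = f.1.coeff 0 := hΞ f i0
      rw [h])
  let e2 : {c : Fin n → F // P (c i0)} ≃ {x : F × ({j // j ≠ i0} → F) // P x.1} :=
    Equiv.subtypeEquiv (Equiv.funSplitAt i0 F) (fun c => Iff.rfl)
  let e3 : {x : F × ({j // j ≠ i0} → F) // P x.1} ≃ {a // P a} × ({j // j ≠ i0} → F) :=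
    Equiv.prodSubtypeFstEquivSubtypeProd
  rw [Nat.card_congr (e1.trans (e2.trans e3)), Nat.card_prod, Nat.card_fun,
    Nat.card_eq_fintype_card (α := F)]
  congr 2
  rw [Nat.card_eq_fintype_card]
  have h := Fintype.card_subtype_compl (fun j : Fin n => j = i0)
  rw [Fintype.card_fin, Fintype.card_subtype_eq] at h
  exact h

theorem charpoly_eq_of_isConj {F : Type*} [Field F] {n : ℕ} {g h : GL (Fin n) F}
    (hc : IsConj g h) :
    (g : Matrix (Fin n) (Fin n) F).charpoly = (h : Matrix (Fin n) (Fin n) F).charpoly := by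
  obtain ⟨c, hc⟩ := isConj_iff.1 hc
  rw [← hc, Units.val_mul, Units.val_mul, Matrix.coe_units_inv]
  exact (Matrix.charpoly_units_conj c g.1).symm

theorem gl_count {F : Type u} [Field F] [Fintype F] (p : ℕ) [Fact p.Prime] [CharP F p] (n : ℕ)
    (hn : 1 ≤ n) :
    Nat.card {c : ConjClasses (GL (Fin n) F) //
      ∃ g : GL (Fin n) F, ConjClasses.mk g = c ∧ (orderOf g).Coprime p} =
      (Fintype.card F - 1) * (Fintype.card F) ^ (n - 1) := by
  classical
  have key : ∀ f : {f : {p : F[X] // p.Monic ∧ p.natDegree = n} // f.1.coeff 0 ≠ 0},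
      ∃ g : GL (Fin n) F, (g : Matrix (Fin n) (Fin n) F).charpoly = f.1.1 ∧
        (orderOf g).Coprime p :=
    fun f => exists_gl p n f.1.1 f.1.2.1 f.1.2.2 f.2
  choose G hG1 hG2 using key
  let Ψ : {f : {p : F[X] // p.Monic ∧ p.natDegree = n} // f.1.coeff 0 ≠ 0} →
      {c : ConjClasses (GL (Fin n) F) //
        ∃ g : GL (Fin n) F, ConjClasses.mk g = c ∧ (orderOf g).Coprime p} :=
    fun f => ⟨ConjClasses.mk (G f), G f, rfl, hG2 f⟩
  have hinj : Function.Injective Ψ := by
    intro f f' h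
    have h1 : ConjClasses.mk (G f) = ConjClasses.mk (G f') := congrArg Subtype.val h
    have h2 := charpoly_eq_of_isConj (ConjClasses.mk_eq_mk_iff_isConj.1 h1)
    rw [hG1, hG1] at h2
    exact Subtype.ext (Subtype.ext h2)
  have hsurj : Function.Surjective Ψ := by
    rintro ⟨c, g, rfl, hg⟩
    have hdet : (g : Matrix (Fin n) (Fin n) F).det ≠ 0 :=
      ((Matrix.isUnit_iff_isUnit_det _).1 g.isUnit).ne_zero
    have hc0 : (g : Matrix (Fin n) (Fin n) F).charpoly.coeff 0 ≠ 0 := by
      intro h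
      apply hdet
      rw [Matrix.det_eq_sign_charpoly_coeff, h, mul_zero]
    obtain ⟨f, hf⟩ : ∃ f : {f : {p : F[X] // p.Monic ∧ p.natDegree = n} // f.1.coeff 0 ≠ 0},
        f.1.1 = (g : Matrix (Fin n) (Fin n) F).charpoly :=
      ⟨⟨⟨_, Matrix.charpoly_monic _, by
        rw [Matrix.charpoly_natDegree_eq_dim, Fintype.card_fin]⟩, hc0⟩, rfl⟩
    refine ⟨f, ?_⟩
    apply Subtype.ext
    change ConjClasses.mk (G f) = ConjClasses.mk g
    rw [ConjClasses.mk_eq_mk_iff_isConj]
    have h3 : ((G f : GL (Fin n) F) : Matrix (Fin n) (Fin n) F).charpoly =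
        (g : Matrix (Fin n) (Fin n) F).charpoly := by rw [hG1, hf]
    have hk1 : ((orderOf (G f) : ℕ) : F) ≠ 0 :=
      Cfsg.Agent.S2388.cast_ne_zero_of_coprime p (hG2 f)
    have hk2 : ((orderOf g : ℕ) : F) ≠ 0 := Cfsg.Agent.S2388.cast_ne_zero_of_coprime p hg
    have hp1 : ((G f : GL (Fin n) F) : Matrix (Fin n) (Fin n) F) ^ orderOf (G f) = 1 := by
      rw [← Units.val_pow_eq_pow_val, pow_orderOf_eq_one, Units.val_one]
    have hp2 : (g : Matrix (Fin n) (Fin n) F) ^ orderOf g = 1 := by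
      rw [← Units.val_pow_eq_pow_val, pow_orderOf_eq_one, Units.val_one]
    obtain ⟨P, hP⟩ := Cfsg.Agent.S2388.gl_conj _ _ hk1 hp1 hk2 hp2 h3
    rw [isConj_iff]
    refine ⟨P, ?_⟩
    have h4 : P * G f = g * P := Units.ext (by rw [Units.val_mul, Units.val_mul]; exact hP)
    rw [h4, mul_inv_cancel_right]
  have hS : Nat.card {a : F // a ≠ 0} = Fintype.card F - 1 := by
    have h1 : Nat.card {a : F // a ≠ 0} = Nat.card Fˣ := Nat.card_congr unitsEquivNeZero.symm
    have h2 : Nat.card Fˣ = Fintype.card F - 1 := by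
      rw [Nat.card_eq_fintype_card, Fintype.card_units]
    exact h1.trans h2
  rw [← Nat.card_eq_of_bijective Ψ ⟨hinj, hsurj⟩, card_poly n hn (fun a => a ≠ 0), hS]

theorem sl_count {F : Type u} [Field F] [Fintype F] (p : ℕ) [Fact p.Prime] [CharP F p] (n : ℕ)
    (hn : 1 ≤ n) :
    Nat.card {c : ConjClasses (Matrix.SpecialLinearGroup (Fin n) F) //
      ∃ g : Matrix.SpecialLinearGroup (Fin n) F, ConjClasses.mk g = c ∧ (orderOf g).Coprime p} =
      (Fintype.card F) ^ (n - 1) := by
  classical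
  have key : ∀ f : {f : {p : F[X] // p.Monic ∧ p.natDegree = n} // f.1.coeff 0 = (-1) ^ n},
      ∃ g : Matrix.SpecialLinearGroup (Fin n) F,
        (g : Matrix (Fin n) (Fin n) F).charpoly = f.1.1 ∧ (orderOf g).Coprime p := by
    intro f
    have h0 : f.1.1.coeff 0 ≠ 0 := by
      rw [f.2]; exact pow_ne_zero _ (neg_ne_zero.2 one_ne_zero)
    obtain ⟨g, hg1, hg2⟩ := exists_gl p n f.1.1 f.1.2.1 f.1.2.2 h0
    have hdet : (g : Matrix (Fin n) (Fin n) F).det = 1 := by
      rw [Matrix.det_eq_sign_charpoly_coeff, hg1, f.2, Fintype.card_fin, ← mul_pow, neg_mul_neg,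
        one_mul, one_pow]
    obtain ⟨σ, hσ⟩ : ∃ σ : Matrix.SpecialLinearGroup (Fin n) F,
        (σ : Matrix (Fin n) (Fin n) F) = (g : Matrix (Fin n) (Fin n) F) := ⟨⟨_, hdet⟩, rfl⟩
    refine ⟨σ, by rw [hσ, hg1], ?_⟩
    have h1 : Matrix.SpecialLinearGroup.toGL σ = g := Units.ext hσ
    rw [← orderOf_injective _ Matrix.SpecialLinearGroup.toGL_injective σ, h1]
    exact hg2
  choose G hG1 hG2 using key
  let Ψ : {f : {p : F[X] // p.Monic ∧ p.natDegree = n} // f.1.coeff 0 = (-1) ^ n} →
      {c : ConjClasses (Matrix.SpecialLinearGroup (Fin n) F) //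
        ∃ g : Matrix.SpecialLinearGroup (Fin n) F,
          ConjClasses.mk g = c ∧ (orderOf g).Coprime p} :=
    fun f => ⟨ConjClasses.mk (G f), G f, rfl, hG2 f⟩
  have hinj : Function.Injective Ψ := by
    intro f f' h
    have h1 : ConjClasses.mk (G f) = ConjClasses.mk (G f') := congrArg Subtype.val h
    have h2 := charpoly_eq_of_isConj (MonoidHom.map_isConj
      (Matrix.SpecialLinearGroup.toGL (n := Fin n) (R := F))
      (ConjClasses.mk_eq_mk_iff_isConj.1 h1))
    have h3 : ((G f : Matrix.SpecialLinearGroup (Fin n) F) : Matrix (Fin n) (Fin n) F).charpoly =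
        ((G f' : Matrix.SpecialLinearGroup (Fin n) F) : Matrix (Fin n) (Fin n) F).charpoly := h2
    rw [hG1, hG1] at h3
    exact Subtype.ext (Subtype.ext h3)
  have hsurj : Function.Surjective Ψ := by
    rintro ⟨c, g, rfl, hg⟩
    have hc0 : (g : Matrix (Fin n) (Fin n) F).charpoly.coeff 0 = (-1) ^ n := by
      have h1 := Matrix.det_eq_sign_charpoly_coeff (g : Matrix (Fin n) (Fin n) F)
      rw [Matrix.SpecialLinearGroup.det_coe, Fintype.card_fin] at h1
      have h2 : ((-1 : F)) ^ n * ((-1) ^ n * (g : Matrix (Fin n) (Fin n) F).charpoly.coeff 0) =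
          (g : Matrix (Fin n) (Fin n) F).charpoly.coeff 0 := by
        rw [← mul_assoc, ← mul_pow, neg_mul_neg, one_mul, one_pow, one_mul]
      rw [← h2, ← h1, mul_one]
    obtain ⟨f, hf⟩ : ∃ f : {f : {p : F[X] // p.Monic ∧ p.natDegree = n} //
        f.1.coeff 0 = (-1) ^ n},
        f.1.1 = (g : Matrix (Fin n) (Fin n) F).charpoly :=
      ⟨⟨⟨_, Matrix.charpoly_monic _, by
        rw [Matrix.charpoly_natDegree_eq_dim, Fintype.card_fin]⟩, hc0⟩, rfl⟩
    refine ⟨f, ?_⟩
    apply Subtype.ext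
    change ConjClasses.mk (G f) = ConjClasses.mk g
    rw [ConjClasses.mk_eq_mk_iff_isConj]
    exact Cfsg.Agent.S2388.result p n (G f) g (hG2 f) hg (by rw [hG1, hf])
  haveI : Unique {a : F // a = (-1) ^ n} := Unique.subtypeEq _
  rw [← Nat.card_eq_of_bijective Ψ ⟨hinj, hsurj⟩, card_poly n hn (fun a => a = (-1) ^ n),
    Nat.card_unique, one_mul]

end Cfsg.Agent.Lib.Helper2.SemiClasses
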