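import Mathlib
import Cfsg.Agent.Lib.Helper2.SemiClasses

namespace Cfsg.Agent.Lib.Helper2.JordanType

open Module

universe u

variable {F : Type u} [Field F]

/-- dimension of the kernel of the `k`-th power -/
noncomputable def dk {V : Type u} [AddCommGroup V] [Module F V] (N : Module.End F V) (k : ℕ) : ℕ :=
  finrank F (LinearMap.ker (N ^ k))

section basics

variable {V V' : Type u} [AddCommGroup V] [Module F V] [AddCommGroup V'] [Module F V']

theorem intertwine_pow (N : Module.End F V) (N' : Module.End F V') (e : V ≃ₗ[F] V')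
    (he : ∀ v, e (N v) = N' (e v)) (k : ℕ) (v : V) : e ((N ^ k) v) = (N' ^ k) (e v) := by
  induction k generalizing v with
  | zero => simp
  | succ k ih =>
    rw [pow_succ, pow_succ, Module.End.mul_apply, Module.End.mul_apply, ih, he]

theorem dk_conj (N : Module.End F V) (N' : Module.End F V') (e : V ≃ₗ[F] V')
    (he : ∀ v, e (N v) = N' (e v)) (k : ℕ) : dk N k = dk N' k := by
  unfold dk
  have h : LinearMap.ker (N' ^ k) = (LinearMap.ker (N ^ k)).map (e : V →ₗ[F] V') := by
    ext y
    simp only [LinearMap.mem_ker, Submodule.mem_map, LinearEquiv.coe_coe]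
    constructor
    · intro hy
      refine ⟨e.symm y, ?_, e.apply_symm_apply y⟩
      apply e.injective
      rw [intertwine_pow N N' e he, e.apply_symm_apply, hy, map_zero]
    · rintro ⟨x, hx, rfl⟩
      rw [← intertwine_pow N N' e he, hx, map_zero]
  rw [h, LinearEquiv.finrank_map_eq]

theorem dk_prodMap [FiniteDimensional F V] [FiniteDimensional F V'] (f : Module.End F V)
    (g : Module.End F V') (k : ℕ) : dk (f.prodMap g) k = dk f k + dk g k := by
  unfold dk
  have hmem : ∀ x : V × V', ((f.prodMap g) ^ k) x = 0 ↔ (f ^ k) x.1 = 0 ∧ (g ^ k) x.2 = 0 := by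
    intro x
    rw [Cfsg.Agent.Lib.Helper2.SemiClasses.prodMap_pow_apply, Prod.mk_eq_zero]
  let E : LinearMap.ker ((f.prodMap g) ^ k) ≃ₗ[F]
      (LinearMap.ker (f ^ k)) × (LinearMap.ker (g ^ k)) :=
    { toFun := fun x =>
        (⟨x.1.1, LinearMap.mem_ker.2 ((hmem x.1).1 (LinearMap.mem_ker.1 x.2)).1⟩,
         ⟨x.1.2, LinearMap.mem_ker.2 ((hmem x.1).1 (LinearMap.mem_ker.1 x.2)).2⟩)
      map_add' := fun x y => rfl
      map_smul' := fun c x => rfl
      invFun := fun y => ⟨(y.1.1, y.2.1), LinearMap.mem_ker.2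
        ((hmem _).2 ⟨LinearMap.mem_ker.1 y.1.2, LinearMap.mem_ker.1 y.2.2⟩)⟩
      left_inv := fun x => rfl
      right_inv := fun y => rfl }
  rw [LinearEquiv.finrank_eq E, Module.finrank_prod]

theorem dk_eq_finrank_iff [FiniteDimensional F V] (N : Module.End F V) (k : ℕ) :
    dk N k = finrank F V ↔ N ^ k = 0 := by
  unfold dk
  constructor
  · intro h
    have h1 : LinearMap.ker (N ^ k) = ⊤ := Submodule.eq_top_of_finrank_eq h
    exact LinearMap.ker_eq_top.1 h1
  · intro h
    rw [h, LinearMap.ker_zero, finrank_top]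

theorem dk_le [FiniteDimensional F V] (N : Module.End F V) (k : ℕ) : dk N k ≤ finrank F V :=
  Submodule.finrank_le _

end basics

section shift

/-- coordinate with default value `0` -/
def get {m : ℕ} (c : Fin m → F) (l : ℕ) : F := if h : l < m then c ⟨l, h⟩ else 0

theorem get_of_lt {m : ℕ} (c : Fin m → F) {l : ℕ} (h : l < m) : get c l = c ⟨l, h⟩ := by
  unfold get; rw [dif_pos h]

theorem get_of_le {m : ℕ} (c : Fin m → F) {l : ℕ} (h : m ≤ l) : get c l = 0 := by
  unfold get; rw [dif_neg (by omega)]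

theorem get_add {m : ℕ} (c c' : Fin m → F) (l : ℕ) : get (c + c') l = get c l + get c' l := by
  unfold get
  split_ifs
  · rfl
  · simp

theorem get_smul {m : ℕ} (a : F) (c : Fin m → F) (l : ℕ) : get (a • c) l = a * get c l := by
  unfold get
  split_ifs
  · rfl
  · simp

/-- the nilpotent down-shift on `Fin m → F` -/
def shift (F : Type u) [Field F] (m : ℕ) : Module.End F (Fin m → F) where
  toFun c := fun j => get c (j + 1)
  map_add' c c' := by funext j; exact get_add c c' _
  map_smul' a c := by funext j; exact get_smul a c _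

theorem shift_apply (m : ℕ) (c : Fin m → F) (j : Fin m) : shift F m c j = get c (j + 1) := rfl

theorem get_shift (m : ℕ) (c : Fin m → F) (l : ℕ) : get (shift F m c) l = get c (l + 1) := by
  by_cases h : l < m
  · rw [get_of_lt _ h, shift_apply]
  · rw [get_of_le _ (by omega), get_of_le _ (by omega)]

theorem get_shift_pow (m : ℕ) (k : ℕ) (c : Fin m → F) (l : ℕ) :
    get ((shift F m ^ k) c) l = get c (l + k) := by
  induction k generalizing c with
  | zero => simp
  | succ k ih =>
    rw [pow_succ, Module.End.mul_apply, ih, get_shift]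
    rfl

theorem shift_pow_apply (m : ℕ) (k : ℕ) (c : Fin m → F) (j : Fin m) :
    ((shift F m ^ k) c) j = get c (j + k) := by
  rw [← get_shift_pow, get_of_lt _ j.2]

theorem shift_pow_eq_zero (m : ℕ) : shift F m ^ m = 0 := by
  apply LinearMap.ext
  intro c
  funext j
  rw [shift_pow_apply, get_of_le _ (by omega)]
  rfl

theorem mem_ker_shift_pow (m k : ℕ) (c : Fin m → F) :
    c ∈ LinearMap.ker (shift F m ^ k) ↔ ∀ l : Fin m, k ≤ (l : ℕ) → c l = 0 := by
  rw [LinearMap.mem_ker]
  constructor
  · intro h l hl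
    have h1 := congrFun h ⟨(l : ℕ) - k, by have := l.2; omega⟩
    rw [shift_pow_apply] at h1
    have h2 : ((l : ℕ) - k) + k = l := by omega
    simp only [h2] at h1
    rw [get_of_lt _ l.2] at h1
    exact h1
  · intro h
    funext j
    rw [shift_pow_apply]
    by_cases hj : (j : ℕ) + k < m
    · rw [get_of_lt _ hj]
      exact h ⟨j + k, hj⟩ (by simp)
    · rw [get_of_le _ (by omega)]
      rfl

theorem dk_shift (m k : ℕ) : dk (shift F m) k = min m k := by
  classical
  by_cases hk : m ≤ k
  · rw [min_eq_left hk]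
    have h0 : shift F m ^ k = 0 := by
      obtain ⟨d, rfl⟩ := Nat.exists_eq_add_of_le hk
      rw [pow_add, shift_pow_eq_zero, zero_mul]
    rw [(dk_eq_finrank_iff _ _).2 h0, Module.finrank_fin_fun]
  · have hk' : k ≤ m := by omega
    rw [min_eq_right hk']
    let R : (Fin m → F) →ₗ[F] ({l : Fin m // k ≤ (l : ℕ)} → F) :=
      LinearMap.funLeft F F (Subtype.val : {l : Fin m // k ≤ (l : ℕ)} → Fin m)
    have hR : Function.Surjective R :=
      LinearMap.funLeft_surjective_of_injective F F _ Subtype.val_injective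
    have hker : LinearMap.ker R = LinearMap.ker (shift F m ^ k) := by
      ext c
      rw [mem_ker_shift_pow, LinearMap.mem_ker]
      constructor
      · intro h l hl
        exact congrFun h ⟨l, hl⟩
      · intro h
        funext l
        exact h l.1 l.2
    have hrn := LinearMap.finrank_range_add_finrank_ker R
    rw [LinearMap.range_eq_top.2 hR, finrank_top, Module.finrank_fintype_fun_eq_card,
      Module.finrank_fin_fun, hker] at hrn
    have hcard : Fintype.card {l : Fin m // k ≤ (l : ℕ)} = m - k := by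
      have E : Fin (m - k) ≃ {l : Fin m // k ≤ (l : ℕ)} :=
        { toFun := fun x => ⟨⟨k + x, by have := x.2; omega⟩, by simp⟩
          invFun := fun y => ⟨(y.1 : ℕ) - k, by have := y.1.2; have := y.2; omega⟩
          left_inv := fun x => by
            apply Fin.ext
            simp
          right_inv := fun y => by
            apply Subtype.ext
            apply Fin.ext
            have := y.2
            simp only
            omega }
      rw [← Fintype.card_congr E, Fintype.card_fin]
    unfold dk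
    omega

end shift

section split

variable {V : Type u} [AddCommGroup V] [Module F V] [FiniteDimensional F V]

theorem split (N : Module.End F V) (hnil : IsNilpotent N) (hV : 0 < finrank F V) :
    ∃ (m : ℕ) (U : Type u) (_ : AddCommGroup U) (_ : Module F U) (_ : FiniteDimensional F U)
      (NU : Module.End F U) (e : V ≃ₗ[F] (Fin m → F) × U),
      0 < m ∧ N ^ m = 0 ∧ N ^ (m - 1) ≠ 0 ∧
      (∀ v, e (N v) = ((shift F m).prodMap NU) (e v)) ∧
      finrank F U < finrank F V ∧ IsNilpotent NU := by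
  classical
  haveI hntV : Nontrivial V := Module.nontrivial_of_finrank_pos hV
  have hex : ∃ k, N ^ k = 0 := hnil
  obtain ⟨m, hm, hmin⟩ : ∃ m, N ^ m = 0 ∧ ∀ k, N ^ k = 0 → m ≤ k :=
    ⟨Nat.find hex, Nat.find_spec hex, fun k hk => Nat.find_min' hex hk⟩
  have hm0 : m ≠ 0 := by
    intro h0
    rw [h0, pow_zero] at hm
    obtain ⟨x, hx⟩ := exists_ne (0 : V)
    apply hx
    have := LinearMap.congr_fun hm x
    simpa using this
  obtain ⟨m', rfl⟩ := Nat.exists_eq_succ_of_ne_zero hm0
  have hm'ne : N ^ m' ≠ 0 := by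
    intro h
    have := hmin _ h
    omega
  obtain ⟨v, hv⟩ : ∃ v, (N ^ m') v ≠ 0 := by
    by_contra h
    push Not at h
    exact hm'ne (LinearMap.ext h)
  obtain ⟨φ, hφ⟩ : ∃ φ : Module.Dual F V, φ ((N ^ m') v) ≠ 0 := by
    by_contra h
    push Not at h
    exact hv ((Module.forall_dual_apply_eq_zero_iff F _).1 h)
  have hpow : ∀ l, m' + 1 ≤ l → N ^ l = 0 := by
    intro l hl
    obtain ⟨d, rfl⟩ := Nat.exists_eq_add_of_le hl
    rw [pow_add, hm, zero_mul]
  let ι : (Fin (m' + 1) → F) →ₗ[F] V :=
    Fintype.linearCombination F (fun j : Fin (m' + 1) => (N ^ (m' - (j : ℕ))) v)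
  let T : V →ₗ[F] (Fin (m' + 1) → F) :=
    LinearMap.pi (fun k : Fin (m' + 1) => φ.comp (N ^ (k : ℕ)))
  have hιapp : ∀ c, ι c = ∑ j : Fin (m' + 1), c j • (N ^ (m' - (j : ℕ))) v := by
    intro c
    exact Fintype.linearCombination_apply F _ c
  have hTapp : ∀ w (k : Fin (m' + 1)), T w k = φ ((N ^ (k : ℕ)) w) := by
    intro w k
    rfl
  have hTι : ∀ c (k : Fin (m' + 1)), T (ι c) k =
      ∑ j : Fin (m' + 1), c j * φ ((N ^ ((k : ℕ) + (m' - (j : ℕ)))) v) := by
    intro c k
    rw [hTapp, hιapp, map_sum, map_sum]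
    apply Finset.sum_congr rfl
    intro j _
    rw [map_smul, map_smul, smul_eq_mul, pow_add, Module.End.mul_apply]
  have hinj : ∀ c, T (ι c) = 0 → c = 0 := by
    intro c h
    by_contra hc
    have hne : (Finset.univ.filter (fun j : Fin (m' + 1) => c j ≠ 0)).Nonempty := by
      by_contra hemp
      rw [Finset.not_nonempty_iff_eq_empty] at hemp
      apply hc
      funext j
      by_contra hj
      have hmem : j ∈ Finset.univ.filter (fun j : Fin (m' + 1) => c j ≠ 0) := by
        rw [Finset.mem_filter]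
        exact ⟨Finset.mem_univ _, hj⟩
      rw [hemp] at hmem
      exact absurd hmem (Finset.notMem_empty _)
    obtain ⟨j0, hj0, hmax⟩ := Finset.exists_max_image _ (fun j : Fin (m' + 1) => (j : ℕ)) hne
    have hcj0 : c j0 ≠ 0 := (Finset.mem_filter.1 hj0).2
    have key : T (ι c) j0 = 0 := by rw [h]; rfl
    rw [hTι, Finset.sum_eq_single j0] at key
    · have h1 : (j0 : ℕ) + (m' - (j0 : ℕ)) = m' := by have := j0.2; omega
      rw [h1] at key
      rcases mul_eq_zero.1 key with h2 | h2
      · exact hcj0 h2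
      · exact hφ h2
    · intro j _ hj
      by_cases hlt : (j : ℕ) < j0
      · have h1 : m' + 1 ≤ (j0 : ℕ) + (m' - (j : ℕ)) := by have := j0.2; omega
        rw [hpow _ h1]
        simp
      · have hcj : c j = 0 := by
          by_contra hcj
          have hjm : j ∈ Finset.univ.filter (fun j : Fin (m' + 1) => c j ≠ 0) := by
            rw [Finset.mem_filter]
            exact ⟨Finset.mem_univ _, hcj⟩
          have := hmax j hjm
          apply hj
          apply Fin.ext
          omega
        rw [hcj, zero_mul]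
    · intro h; exact absurd (Finset.mem_univ _) h
  have hBinj : Function.Injective (T.comp ι) := by
    rw [← LinearMap.ker_eq_bot, LinearMap.ker_eq_bot']
    intro c hc
    exact hinj c hc
  have hBsurj : Function.Surjective (T.comp ι) := LinearMap.injective_iff_surjective.1 hBinj
  have hUinv : ∀ u ∈ LinearMap.ker T, N u ∈ LinearMap.ker T := by
    intro u hu
    rw [LinearMap.mem_ker] at hu ⊢
    funext k
    rw [hTapp]
    show φ ((N ^ (k : ℕ)) (N u)) = 0
    rw [← Module.End.mul_apply, ← pow_succ]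
    by_cases hk : (k : ℕ) + 1 < m' + 1
    · have := congrFun hu ⟨k + 1, hk⟩
      rw [hTapp] at this
      exact this
    · rw [hpow _ (by omega)]
      simp
  let NU : Module.End F (LinearMap.ker T) := N.restrict hUinv
  have hιrange : ∀ c, ι c = ∑ j ∈ Finset.range (m' + 1), get c j • (N ^ (m' - j)) v := by
    intro c
    rw [hιapp, ← Fin.sum_univ_eq_sum_range (fun j => get c j • (N ^ (m' - j)) v)]
    apply Finset.sum_congr rfl
    intro j _
    rw [get_of_lt c j.2]
  have hιN : ∀ c, N (ι c) = ι (shift F (m' + 1) c) := by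
    intro c
    rw [hιrange, hιrange, map_sum, Finset.sum_range_succ', Finset.sum_range_succ]
    have h1 : N (get c 0 • (N ^ (m' - 0)) v) = 0 := by
      rw [map_smul, ← Module.End.mul_apply, ← pow_succ', Nat.sub_zero, hm]
      simp
    have h2 : get (shift F (m' + 1) c) m' = 0 := by
      rw [get_shift, get_of_le _ (le_refl _)]
    rw [h1, h2, zero_smul, add_zero, add_zero]
    apply Finset.sum_congr rfl
    intro j hj
    rw [Finset.mem_range] at hj
    rw [map_smul, get_shift, ← Module.End.mul_apply, ← pow_succ']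
    have : m' - (j + 1) + 1 = m' - j := by omega
    rw [this]
  let e' : ((Fin (m' + 1) → F) × LinearMap.ker T) →ₗ[F] V :=
    ι.coprod (LinearMap.ker T).subtype
  have he'app : ∀ x, e' x = ι x.1 + (x.2 : V) := by
    intro x
    rfl
  have he'inj : Function.Injective e' := by
    rw [← LinearMap.ker_eq_bot, LinearMap.ker_eq_bot']
    intro x hx
    rw [he'app] at hx
    have h1 : T (ι x.1) = 0 := by
      have h2 := congrArg T hx
      rw [map_add, map_zero, LinearMap.mem_ker.1 x.2.2, add_zero] at h2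
      exact h2
    have h3 : x.1 = 0 := hinj _ h1
    rw [h3, map_zero, zero_add] at hx
    apply Prod.ext
    · exact h3
    · exact Subtype.ext hx
  have he'surj : Function.Surjective e' := by
    intro w
    obtain ⟨c, hc⟩ := hBsurj (T w)
    have hc' : T (ι c) = T w := hc
    refine ⟨(c, ⟨w - ι c, ?_⟩), ?_⟩
    · rw [LinearMap.mem_ker, map_sub, hc', sub_self]
    · rw [he'app]
      simp
  let E : ((Fin (m' + 1) → F) × LinearMap.ker T) ≃ₗ[F] V :=
    LinearEquiv.ofBijective e' ⟨he'inj, he'surj⟩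
  have hE : ∀ x, E (((shift F (m' + 1)).prodMap NU) x) = N (E x) := by
    intro x
    show e' _ = N (e' x)
    rw [he'app, he'app, map_add, hιN]
    rfl
  have he : ∀ w, E.symm (N w) = ((shift F (m' + 1)).prodMap NU) (E.symm w) := by
    intro w
    apply E.injective
    rw [E.apply_symm_apply, hE, E.apply_symm_apply]
  have hNUnil : NU ^ (m' + 1) = 0 := by
    apply LinearMap.ext
    intro u
    have h1 := intertwine_pow N ((shift F (m' + 1)).prodMap NU) E.symm he (m' + 1) (E (0, u))
    rw [hm, LinearMap.zero_apply, map_zero, E.symm_apply_apply,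
      Cfsg.Agent.Lib.Helper2.SemiClasses.prodMap_pow_apply] at h1
    exact (congrArg Prod.snd h1).symm
  have hfr : finrank F V = (m' + 1) + finrank F (LinearMap.ker T) := by
    rw [← LinearEquiv.finrank_eq E, Module.finrank_prod, Module.finrank_fin_fun]
  refine ⟨m' + 1, LinearMap.ker T, inferInstance, inferInstance, inferInstance, NU, E.symm,
    Nat.succ_pos _, hm, ?_, he, ?_, ⟨m' + 1, hNUnil⟩⟩
  · simpa using hm'ne
  · omega

end split

/-- the sum of `min a k` over a multiset -/
def msum (s : Multiset ℕ) (k : ℕ) : ℕ := (s.map (fun a => min a k)).sum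

theorem msum_zero (k : ℕ) : msum 0 k = 0 := by
  unfold msum; simp

theorem msum_cons (a : ℕ) (s : Multiset ℕ) (k : ℕ) : msum (a ::ₘ s) k = min a k + msum s k := by
  unfold msum; simp

theorem msum_le (s : Multiset ℕ) (k : ℕ) : msum s k ≤ s.sum := by
  induction s using Multiset.induction_on with
  | empty => simp [msum_zero]
  | cons a s ih =>
    rw [msum_cons, Multiset.sum_cons]
    have : min a k ≤ a := min_le_left _ _
    omega

theorem msum_eq_sum_iff (s : Multiset ℕ) (k : ℕ) : msum s k = s.sum ↔ ∀ a ∈ s, a ≤ k := by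
  induction s using Multiset.induction_on with
  | empty => simp [msum_zero]
  | cons a s ih =>
    rw [msum_cons, Multiset.sum_cons]
    have h1 : min a k ≤ a := min_le_left _ _
    have h2 := msum_le s k
    constructor
    · intro h
      have h3 : msum s k = s.sum := by omega
      have h4 : min a k = a := by omega
      intro b hb
      rcases Multiset.mem_cons.1 hb with rfl | hb
      · rw [← h4]; exact min_le_right _ _
      · exact ih.1 h3 b hb
    · intro h
      have h3 : msum s k = s.sum := ih.2 (fun b hb => h b (Multiset.mem_cons_of_mem hb))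
      have h4 : a ≤ k := h a (Multiset.mem_cons_self a s)
      rw [h3, min_eq_left h4]

theorem msum_count (s : Multiset ℕ) (j : ℕ) :
    2 * msum s (j + 1) = msum s j + msum s (j + 2) + s.count (j + 1) := by
  induction s using Multiset.induction_on with
  | empty => simp [msum_zero]
  | cons a s ih =>
    rw [msum_cons, msum_cons, msum_cons, Multiset.count_cons]
    split_ifs <;> omega

theorem multiset_ext (s t : Multiset ℕ) (hs : ∀ a ∈ s, 0 < a) (ht : ∀ a ∈ t, 0 < a)
    (h : ∀ k, msum s k = msum t k) : s = t := by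
  apply Multiset.ext.2
  intro a
  rcases Nat.eq_zero_or_pos a with rfl | ha
  · rw [Multiset.count_eq_zero_of_notMem, Multiset.count_eq_zero_of_notMem]
    · intro h0; exact absurd (ht 0 h0) (lt_irrefl _)
    · intro h0; exact absurd (hs 0 h0) (lt_irrefl _)
  · obtain ⟨j, rfl⟩ := Nat.exists_eq_succ_of_ne_zero ha.ne'
    have h1 := msum_count s j
    have h2 := msum_count t j
    rw [h j, h (j + 1), h (j + 2)] at h1
    show Multiset.count (j + 1) s = Multiset.count (j + 1) t
    omega

theorem exists_type (d : ℕ) : ∀ {V : Type u} [AddCommGroup V] [Module F V]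
    [FiniteDimensional F V] (N : Module.End F V), finrank F V = d → IsNilpotent N →
    ∃ s : Multiset ℕ, (∀ a ∈ s, 0 < a) ∧ s.sum = d ∧ ∀ k, dk N k = msum s k := by
  induction d using Nat.strong_induction_on with
  | _ d ih =>
    intro V _ _ _ N hd hnil
    rcases Nat.eq_zero_or_pos d with hd0 | hd0
    · refine ⟨0, by simp, by simp [hd0], ?_⟩
      intro k
      have := dk_le N k
      rw [hd, hd0] at this
      rw [msum_zero]
      omega
    · obtain ⟨m, U, i1, i2, i3, NU, e, hm0, hm, hm1, he, hlt, hNUnil⟩ :=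
        split N hnil (hd ▸ hd0)
      let _ := i1; let _ := i2; have _ := i3
      obtain ⟨s', hs'pos, hs'sum, hs'dk⟩ := ih (finrank F U) (hd ▸ hlt) NU rfl hNUnil
      refine ⟨m ::ₘ s', ?_, ?_, ?_⟩
      · intro a ha
        rcases Multiset.mem_cons.1 ha with rfl | ha
        · exact hm0
        · exact hs'pos a ha
      · rw [Multiset.sum_cons, hs'sum, ← hd, LinearEquiv.finrank_eq e, Module.finrank_prod,
          Module.finrank_fin_fun]
      · intro k
        rw [dk_conj N _ e he k, dk_prodMap, dk_shift, hs'dk, msum_cons]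

theorem conj_of_dk_eq (d : ℕ) : ∀ {V V' : Type u} [AddCommGroup V] [Module F V]
    [FiniteDimensional F V] [AddCommGroup V'] [Module F V'] [FiniteDimensional F V']
    (N : Module.End F V) (N' : Module.End F V'), finrank F V = d → IsNilpotent N →
    IsNilpotent N' → (∀ k, dk N k = dk N' k) → ∃ e : V ≃ₗ[F] V', ∀ v, e (N v) = N' (e v) := by
  induction d using Nat.strong_induction_on with
  | _ d ih =>
    intro V V' _ _ _ _ _ _ N N' hd hnil hnil' hdk
    have hd' : finrank F V' = d := by
      obtain ⟨k1, hk1⟩ := hnil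
      obtain ⟨k2, hk2⟩ := hnil'
      have h1 : N ^ (k1 + k2) = 0 := by rw [pow_add, hk1, zero_mul]
      have h2 : N' ^ (k1 + k2) = 0 := by rw [pow_add, hk2, mul_zero]
      rw [← (dk_eq_finrank_iff N' _).2 h2, ← hdk, (dk_eq_finrank_iff N _).2 h1, hd]
    rcases Nat.eq_zero_or_pos d with hd0 | hd0
    · haveI : Subsingleton V := Module.finrank_zero_iff.1 (hd.trans hd0)
      haveI : Subsingleton V' := Module.finrank_zero_iff.1 (hd'.trans hd0)
      exact ⟨LinearEquiv.ofSubsingleton V V', fun v => Subsingleton.elim _ _⟩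
    · obtain ⟨m, U, i1, i2, i3, NU, e, hm0, hm, hm1, he, hlt, hNUnil⟩ :=
        split N hnil (hd ▸ hd0)
      obtain ⟨m2, U2, j1, j2, j3, NU2, e2, hm20, hm2, hm21, he2, hlt2, hNU2nil⟩ :=
        split N' hnil' (hd' ▸ hd0)
      let _ := i1; let _ := i2; have _ := i3
      let _ := j1; let _ := j2; have _ := j3
      have hA : ∀ k, N ^ k = 0 ↔ N' ^ k = 0 := by
        intro k
        rw [← dk_eq_finrank_iff, ← dk_eq_finrank_iff, hdk k, hd, hd']
      have hmm : m = m2 := by
        apply le_antisymm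
        · by_contra hcon
          push Not at hcon
          apply hm1
          exact pow_eq_zero_of_le (by omega) ((hA m2).2 hm2)
        · by_contra hcon
          push Not at hcon
          apply hm21
          exact pow_eq_zero_of_le (by omega) ((hA m).1 hm)
      subst hmm
      have hdkU : ∀ k, dk NU k = dk NU2 k := by
        intro k
        have h1 := dk_conj N _ e he k
        have h2 := dk_conj N' _ e2 he2 k
        rw [dk_prodMap] at h1 h2
        have := hdk k
        omega
      obtain ⟨f, hf⟩ := ih (finrank F U) (hd ▸ hlt) NU NU2 rfl hNUnil hNU2nil hdkU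
      refine ⟨e.trans ((LinearEquiv.prodCongr (LinearEquiv.refl F _) f).trans e2.symm), ?_⟩
      intro v
      apply e2.injective
      simp only [LinearEquiv.trans_apply, LinearEquiv.apply_symm_apply]
      rw [he2, LinearEquiv.apply_symm_apply, he]
      apply Prod.ext
      · rfl
      · exact hf _

theorem exists_model (s : Multiset ℕ) :
    ∃ (V : Type u) (_ : AddCommGroup V) (_ : Module F V) (_ : FiniteDimensional F V)
      (N : Module.End F V), IsNilpotent N ∧ finrank F V = s.sum ∧ ∀ k, dk N k = msum s k := by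
  induction s using Multiset.induction_on with
  | empty =>
    refine ⟨PUnit.{u+1}, inferInstance, inferInstance, inferInstance, 0, IsNilpotent.zero, ?_, ?_⟩
    · rw [Multiset.sum_zero]
      exact Module.finrank_zero_of_subsingleton
    · intro k
      have h1 := dk_le (0 : Module.End F PUnit.{u+1}) k
      have h2 : finrank F PUnit.{u+1} = 0 := Module.finrank_zero_of_subsingleton
      rw [msum_zero]
      omega
  | cons a s ih =>
    obtain ⟨V, i1, i2, i3, N, hnil, hfr, hdk⟩ := ih
    let _ := i1; let _ := i2; have _ := i3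
    refine ⟨(Fin a → F) × V, inferInstance, inferInstance, inferInstance,
      (shift F a).prodMap N, ?_, ?_, ?_⟩
    · obtain ⟨k, hk⟩ := hnil
      refine ⟨a + k, ?_⟩
      apply LinearMap.ext
      intro x
      rw [Cfsg.Agent.Lib.Helper2.SemiClasses.prodMap_pow_apply, pow_add, shift_pow_eq_zero,
        zero_mul, pow_add, hk, mul_zero]
      rfl
    · rw [Module.finrank_prod, Module.finrank_fin_fun, hfr, Multiset.sum_cons]
    · intro k
      rw [dk_prodMap, dk_shift, hdk, msum_cons]

section GLpart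

open Matrix

variable {n : ℕ}

theorem equiv_of_gl (M M' : Matrix (Fin n) (Fin n) F) (P : GL (Fin n) F)
    (h : (P : Matrix (Fin n) (Fin n) F) * M = M' * (P : Matrix (Fin n) (Fin n) F)) :
    ∃ e : (Fin n → F) ≃ₗ[F] (Fin n → F), ∀ v, e ((Matrix.toLinAlgEquiv' M :
      Module.End F (Fin n → F)) v) = (Matrix.toLinAlgEquiv' M' : Module.End F (Fin n → F)) (e v) := by
  let Θ : Matrix (Fin n) (Fin n) F ≃ₐ[F] Module.End F (Fin n → F) := Matrix.toLinAlgEquiv'
  have h1 : Θ (P : Matrix (Fin n) (Fin n) F) * Θ ((P⁻¹ : GL (Fin n) F) : Matrix (Fin n) (Fin n) F)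
      = 1 := by
    rw [← map_mul, Units.mul_inv, map_one]
  have h2 : Θ ((P⁻¹ : GL (Fin n) F) : Matrix (Fin n) (Fin n) F) * Θ (P : Matrix (Fin n) (Fin n) F)
      = 1 := by
    rw [← map_mul, Units.inv_mul, map_one]
  refine ⟨LinearEquiv.ofLinear (Θ (P : Matrix (Fin n) (Fin n) F))
    (Θ ((P⁻¹ : GL (Fin n) F) : Matrix (Fin n) (Fin n) F)) h1 h2, ?_⟩
  intro v
  show (Θ (P : Matrix (Fin n) (Fin n) F)) ((Θ M) v) = (Θ M') ((Θ (P : Matrix (Fin n) (Fin n) F)) v)
  rw [← Module.End.mul_apply, ← Module.End.mul_apply, ← map_mul, ← map_mul, h]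

theorem gl_of_equiv (M M' : Matrix (Fin n) (Fin n) F) (e : (Fin n → F) ≃ₗ[F] (Fin n → F))
    (he : ∀ v, e ((Matrix.toLinAlgEquiv' M : Module.End F (Fin n → F)) v) =
      (Matrix.toLinAlgEquiv' M' : Module.End F (Fin n → F)) (e v)) :
    ∃ P : GL (Fin n) F,
      (P : Matrix (Fin n) (Fin n) F) * M = M' * (P : Matrix (Fin n) (Fin n) F) := by
  let Θ : Matrix (Fin n) (Fin n) F ≃ₐ[F] Module.End F (Fin n → F) := Matrix.toLinAlgEquiv'
  have h1 : (e : Module.End F (Fin n → F)) * (e.symm : Module.End F (Fin n → F)) = 1 := by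
    apply LinearMap.ext; intro v; simp
  have h2 : (e.symm : Module.End F (Fin n → F)) * (e : Module.End F (Fin n → F)) = 1 := by
    apply LinearMap.ext; intro v; simp
  refine ⟨⟨Θ.symm (e : Module.End F (Fin n → F)), Θ.symm (e.symm : Module.End F (Fin n → F)),
    by rw [← map_mul, h1, map_one], by rw [← map_mul, h2, map_one]⟩, ?_⟩
  change Θ.symm (e : Module.End F (Fin n → F)) * M = M' * Θ.symm (e : Module.End F (Fin n → F))
  apply Θ.injective
  rw [map_mul, map_mul, AlgEquiv.apply_symm_apply]
  apply LinearMap.ext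
  intro v
  exact he v

theorem isConj_iff_equiv (g h : GL (Fin n) F) :
    IsConj g h ↔ ∃ e : (Fin n → F) ≃ₗ[F] (Fin n → F), ∀ v,
      e ((Matrix.toLinAlgEquiv' ((g : Matrix (Fin n) (Fin n) F) - 1) :
        Module.End F (Fin n → F)) v) =
      (Matrix.toLinAlgEquiv' ((h : Matrix (Fin n) (Fin n) F) - 1) :
        Module.End F (Fin n → F)) (e v) := by
  constructor
  · intro hc
    obtain ⟨c, hc⟩ := isConj_iff.1 hc
    have h1 : c * g = h * c := by rw [← hc]; group
    have h2 : (c : Matrix (Fin n) (Fin n) F) * (g : Matrix (Fin n) (Fin n) F) =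
        (h : Matrix (Fin n) (Fin n) F) * (c : Matrix (Fin n) (Fin n) F) := by
      rw [← Units.val_mul, ← Units.val_mul, h1]
    apply equiv_of_gl _ _ c
    rw [mul_sub, sub_mul, h2, mul_one, one_mul]
  · rintro ⟨e, he⟩
    obtain ⟨P, hP⟩ := gl_of_equiv _ _ e he
    rw [mul_sub, sub_mul, mul_one, one_mul] at hP
    have h2 : (P : Matrix (Fin n) (Fin n) F) * (g : Matrix (Fin n) (Fin n) F) =
        (h : Matrix (Fin n) (Fin n) F) * (P : Matrix (Fin n) (Fin n) F) := by
      have := congrArg (fun X => X + (P : Matrix (Fin n) (Fin n) F)) hP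
      simpa using this
    have h1 : P * g = h * P := by
      apply Units.ext
      rw [Units.val_mul, Units.val_mul, h2]
    apply isConj_iff.2
    refine ⟨P, ?_⟩
    rw [h1]
    group

theorem pow_eq_zero_iff_dk (M : Matrix (Fin n) (Fin n) F) (k : ℕ) :
    M ^ k = 0 ↔ dk (Matrix.toLinAlgEquiv' M : Module.End F (Fin n → F)) k = n := by
  let Θ : Matrix (Fin n) (Fin n) F ≃ₐ[F] Module.End F (Fin n → F) := Matrix.toLinAlgEquiv'
  have h1 := dk_eq_finrank_iff (Θ M) k
  rw [Module.finrank_fin_fun] at h1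
  show M ^ k = 0 ↔ dk (Θ M) k = n
  rw [h1, ← map_pow]
  constructor
  · intro h; rw [h, map_zero]
  · intro h
    apply Θ.injective
    rw [h, map_zero]

/-- The unipotent classes of `GL_n(F)` correspond to the partitions of `n`. -/
theorem exists_equiv (n : ℕ) :
    ∃ Φ : {C : ConjClasses (GL (Fin n) F) // ∃ g : GL (Fin n) F,
        IsNilpotent ((g : Matrix (Fin n) (Fin n) F) - 1) ∧ ConjClasses.mk g = C} ≃
        Nat.Partition n,
      ∀ C (g : GL (Fin n) F), ConjClasses.mk g = C.1 → ∀ k,
        (((g : Matrix (Fin n) (Fin n) F) - 1) ^ k = 0 ↔ ∀ a ∈ (Φ C).parts, a ≤ k) := by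
  classical
  let Θ : Matrix (Fin n) (Fin n) F ≃ₐ[F] Module.End F (Fin n → F) := Matrix.toLinAlgEquiv'
  have h1 : ∀ C : {C : ConjClasses (GL (Fin n) F) // ∃ g : GL (Fin n) F,
        IsNilpotent ((g : Matrix (Fin n) (Fin n) F) - 1) ∧ ConjClasses.mk g = C},
      ∃ μ : Nat.Partition n, ∀ g : GL (Fin n) F, ConjClasses.mk g = C.1 → ∀ k,
        dk (Θ ((g : Matrix (Fin n) (Fin n) F) - 1)) k = msum μ.parts k := by
    intro C
    obtain ⟨g0, hnil, hg0⟩ := C.2
    have hnil' : IsNilpotent (Θ ((g0 : Matrix (Fin n) (Fin n) F) - 1)) := hnil.map Θ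
    obtain ⟨s, hpos, hsum, hdk⟩ := exists_type n (Θ ((g0 : Matrix (Fin n) (Fin n) F) - 1))
      (Module.finrank_fin_fun F) hnil'
    refine ⟨⟨s, fun {i} hi => hpos i hi, hsum⟩, ?_⟩
    intro g hg k
    have hconj : IsConj g g0 := ConjClasses.mk_eq_mk_iff_isConj.1 (hg.trans hg0.symm)
    obtain ⟨e, he⟩ := (isConj_iff_equiv g g0).1 hconj
    rw [dk_conj _ _ e he k]
    exact hdk k
  choose Φ hΦ using h1
  have hinj : Function.Injective Φ := by
    intro C C' hCC'
    obtain ⟨g, hnil, hg⟩ := C.2
    obtain ⟨g', hnil', hg'⟩ := C'.2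
    have hdk : ∀ k, dk (Θ ((g : Matrix (Fin n) (Fin n) F) - 1)) k =
        dk (Θ ((g' : Matrix (Fin n) (Fin n) F) - 1)) k := by
      intro k
      rw [hΦ C g hg k, hΦ C' g' hg' k, hCC']
    obtain ⟨e, he⟩ := conj_of_dk_eq n _ _ (Module.finrank_fin_fun F) (hnil.map Θ)
      (hnil'.map Θ) hdk
    have hconj := (isConj_iff_equiv g g').2 ⟨e, he⟩
    apply Subtype.ext
    rw [← hg, ← hg']
    exact ConjClasses.mk_eq_mk_iff_isConj.2 hconj
  have hsurj : Function.Surjective Φ := by
    intro μ
    obtain ⟨V, i1, i2, i3, N, hNnil, hfr, hNdk⟩ := exists_model (F := F) μ.parts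
    let _ := i1; let _ := i2; have _ := i3
    rw [μ.parts_sum] at hfr
    let b := Module.finBasisOfFinrankEq F V hfr
    let M := LinearMap.toMatrix b b N
    let e : V ≃ₗ[F] (Fin n → F) := b.equivFun
    have he : ∀ v, e (N v) = Θ M (e v) := by
      intro v
      show e (N v) = (Matrix.toLinAlgEquiv' M) (e v)
      rw [Matrix.toLinAlgEquiv'_apply]
      exact (LinearMap.toMatrix_mulVec_repr b b N v).symm
    have hMnil : IsNilpotent M := by
      obtain ⟨K, hK⟩ := hNnil
      refine ⟨K, ?_⟩
      apply Θ.injective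
      rw [map_pow, map_zero]
      apply LinearMap.ext
      intro w
      obtain ⟨v, rfl⟩ := e.surjective w
      rw [← intertwine_pow N (Θ M) e he K v, hK]
      simp
    let g : GL (Fin n) F := (hMnil.isUnit_one_add).unit
    have hg1 : (g : Matrix (Fin n) (Fin n) F) - 1 = M := by
      show (1 + M) - 1 = M
      rw [add_sub_cancel_left]
    refine ⟨⟨ConjClasses.mk g, g, by rw [hg1]; exact hMnil, rfl⟩, ?_⟩
    apply Nat.Partition.ext
    apply multiset_ext _ _ (fun a ha => (Φ _).parts_pos ha) (fun a ha => μ.parts_pos ha)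
    intro k
    rw [← hΦ _ g rfl k, hg1, ← dk_conj N (Θ M) e he k, hNdk k]
  refine ⟨Equiv.ofBijective Φ ⟨hinj, hsurj⟩, ?_⟩
  intro C g hg k
  show _ ↔ ∀ a ∈ (Φ C).parts, a ≤ k
  rw [← msum_eq_sum_iff, (Φ C).parts_sum, ← hΦ C g hg k]
  exact pow_eq_zero_iff_dk _ k

theorem sub_one_pow_ppow (p : ℕ) [Fact p.Prime] [CharP F p] (g : GL (Fin n) F) (k : ℕ) :
    ((g : Matrix (Fin n) (Fin n) F) - 1) ^ (p ^ k) =
      ((g ^ (p ^ k) : GL (Fin n) F) : Matrix (Fin n) (Fin n) F) - 1 := by
  rcases Nat.eq_zero_or_pos n with hn | hn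
  · subst hn
    exact Subsingleton.elim _ _
  · haveI : Nonempty (Fin n) := ⟨⟨0, hn⟩⟩
    rw [sub_pow_char_pow_of_commute p k (Commute.one_right _), one_pow, Units.val_pow_eq_pow_val]

theorem pow_ppow_eq_one_iff (p : ℕ) [Fact p.Prime] [CharP F p] (g : GL (Fin n) F) (k : ℕ) :
    g ^ (p ^ k) = 1 ↔ ((g : Matrix (Fin n) (Fin n) F) - 1) ^ (p ^ k) = 0 := by
  rw [sub_one_pow_ppow, sub_eq_zero]
  constructor
  · intro h; rw [h]; rfl
  · intro h
    apply Units.ext
    rw [h]
    rfl

theorem ppow_iff (p : ℕ) [Fact p.Prime] [CharP F p] (g : GL (Fin n) F) :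
    (∃ k, orderOf g = p ^ k) ↔ IsNilpotent ((g : Matrix (Fin n) (Fin n) F) - 1) := by
  have hp : p.Prime := Fact.out
  constructor
  · rintro ⟨k, hk⟩
    refine ⟨p ^ k, ?_⟩
    rw [← pow_ppow_eq_one_iff, ← hk, pow_orderOf_eq_one]
  · rintro ⟨K, hK⟩
    have h1 : ((g : Matrix (Fin n) (Fin n) F) - 1) ^ (p ^ K) = 0 :=
      pow_eq_zero_of_le (Nat.lt_pow_self hp.one_lt).le hK
    rw [← pow_ppow_eq_one_iff] at h1
    obtain ⟨j, -, hj⟩ := (Nat.dvd_prime_pow hp).1 (orderOf_dvd_of_pow_eq_one h1)
    exact ⟨j, hj⟩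

end GLpart

end Cfsg.Agent.Lib.Helper2.JordanType
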