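import Mathlib

set_option autoImplicit false
set_option linter.style.haveILetI false

namespace Cfsg.Agent.Lib.Helper2

/-- A projection onto a complemented subgroup of a commutative group. -/
theorem exists_projection {V : Type*} [CommGroup V] (U W : Subgroup V) (hUW : U ⊓ W = ⊥)
    (hsup : U ⊔ W = ⊤) : ∃ π : V →* V, (∀ v, π v ∈ U) ∧ ∀ u ∈ U, π u = u := by
  set f : U →* V ⧸ W := (QuotientGroup.mk' W).comp U.subtype with hf
  have hinj : Function.Injective f := by
    rw [injective_iff_map_eq_one]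
    intro u hu
    have h1 : (u : V) ∈ W := by
      have : (QuotientGroup.mk' W) (u : V) = 1 := hu
      rwa [QuotientGroup.mk'_apply, QuotientGroup.eq_one_iff] at this
    have h2 : (u : V) ∈ U ⊓ W := ⟨u.2, h1⟩
    rw [hUW, Subgroup.mem_bot] at h2
    exact Subtype.ext h2
  have hsurj : Function.Surjective f := by
    intro x
    obtain ⟨v, rfl⟩ := QuotientGroup.mk'_surjective W x
    have hv : v ∈ U ⊔ W := by rw [hsup]; trivial
    obtain ⟨u, hu, w, hw, rfl⟩ := Subgroup.mem_sup.1 hv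
    refine ⟨⟨u, hu⟩, ?_⟩
    show (QuotientGroup.mk' W) u = (QuotientGroup.mk' W) (u * w)
    rw [map_mul]
    have : (QuotientGroup.mk' W) w = 1 := by
      rw [QuotientGroup.mk'_apply, QuotientGroup.eq_one_iff]; exact hw
    rw [this, mul_one]
  set e : U ≃* V ⧸ W := MulEquiv.ofBijective f ⟨hinj, hsurj⟩ with he
  refine ⟨U.subtype.comp (e.symm.toMonoidHom.comp (QuotientGroup.mk' W)), ?_, ?_⟩
  · intro v
    exact (e.symm ((QuotientGroup.mk' W) v)).2
  · intro u hu
    have : (QuotientGroup.mk' W) u = e ⟨u, hu⟩ := rfl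
    show ((e.symm ((QuotientGroup.mk' W) u) : U) : V) = u
    rw [this, MulEquiv.symm_apply_apply]

/-- Maschke-type averaging: a complemented invariant subgroup has an invariant complement under
a coprime action. -/
theorem exists_invariant_complement {V : Type*} [CommGroup V] [Finite V] {A : Type*} [Group A]
    [Finite A] (φ : A →* MulAut V) (hcop : (Nat.card A).Coprime (Nat.card V))
    (U W : Subgroup V) (hU : ∀ a : A, ∀ u ∈ U, φ a u ∈ U) (hUW : U ⊓ W = ⊥) (hsup : U ⊔ W = ⊤) :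
    ∃ W' : Subgroup V, (∀ a : A, ∀ w ∈ W', φ a w ∈ W') ∧ U ⊓ W' = ⊥ ∧ U ⊔ W' = ⊤ := by
  classical
  haveI : Fintype A := Fintype.ofFinite A
  obtain ⟨π, hπU, hπid⟩ := exists_projection U W hUW hsup
  -- the averaged hom
  set ρ : V →* V := ∏ a : A, ((φ a)⁻¹ : MulAut V).toMonoidHom.comp (π.comp (φ a).toMonoidHom) with hρ
  have hρapp : ∀ v, ρ v = ∏ a : A, (φ a)⁻¹ (π (φ a v)) := by
    intro v
    rw [hρ, MonoidHom.finsetProd_apply]
    rfl
  have hinvU : ∀ a : A, ∀ u ∈ U, (φ a)⁻¹ u ∈ U := by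
    intro a u hu
    have := hU a⁻¹ u hu
    rwa [map_inv] at this
  have hρU : ∀ v, ρ v ∈ U := by
    intro v
    rw [hρapp]
    apply Subgroup.prod_mem
    intro a _
    exact hinvU a _ (hπU _)
  have hρpow : ∀ u ∈ U, ρ u = u ^ (Nat.card A) := by
    intro u hu
    rw [hρapp, Nat.card_eq_fintype_card, ← Finset.card_univ, ← Finset.prod_const]
    apply Finset.prod_congr rfl
    intro a _
    rw [hπid _ (hU a u hu)]
    exact MulAut.inv_apply_self V (φ a) u
  have hequi : ∀ (b : A) (v : V), ρ (φ b v) = φ b (ρ v) := by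
    intro b v
    rw [hρapp, hρapp, map_prod]
    apply Fintype.prod_equiv (Equiv.mulRight b)
    intro a
    show (φ a)⁻¹ (π (φ a (φ b v))) = φ b ((φ (a * b))⁻¹ (π (φ (a * b) v)))
    have h1 : φ (a * b) v = φ a (φ b v) := by rw [map_mul]; rfl
    rw [h1]
    have h2 : ∀ x, φ b ((φ (a * b))⁻¹ x) = (φ a)⁻¹ x := by
      intro x
      rw [map_mul, mul_inv_rev]
      show φ b ((φ b)⁻¹ ((φ a)⁻¹ x)) = (φ a)⁻¹ x
      exact MulAut.apply_inv_self V (φ b) _
    rw [h2]
  have hcopU : (Nat.card U).Coprime (Nat.card A) := by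
    have : Nat.card U ∣ Nat.card V := Subgroup.card_subgroup_dvd_card U
    exact (Nat.Coprime.coprime_dvd_right this hcop).symm
  refine ⟨ρ.ker, ?_, ?_, ?_⟩
  · intro a w hw
    rw [MonoidHom.mem_ker] at hw ⊢
    rw [hequi, hw, map_one]
  · rw [eq_bot_iff]
    intro u hu
    obtain ⟨huU, huk0⟩ := hu
    have huU' : u ∈ U := huU
    have huk : ρ u = 1 := MonoidHom.mem_ker.1 huk0
    rw [hρpow u huU'] at huk
    rw [Subgroup.mem_bot]
    have h1 : orderOf u ∣ Nat.card A := orderOf_dvd_of_pow_eq_one huk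
    have h2 : orderOf u ∣ Nat.card V := orderOf_dvd_natCard u
    have h3 : orderOf u ∣ 1 := by
      have := Nat.dvd_gcd h1 h2
      rwa [hcop] at this
    exact orderOf_eq_one_iff.1 (Nat.dvd_one.1 h3)
  · rw [eq_top_iff]
    intro v _
    obtain ⟨u, hu⟩ := (powCoprime hcopU).surjective ⟨ρ v, hρU v⟩
    rw [powCoprime_apply] at hu
    have hu' : (u : V) ^ Nat.card A = ρ v := by
      have := congrArg Subtype.val hu
      simpa using this
    have hker : (u : V)⁻¹ * v ∈ ρ.ker := by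
      rw [MonoidHom.mem_ker, map_mul, map_inv, hρpow _ u.2, hu', inv_mul_cancel]
    have : v = (u : V) * ((u : V)⁻¹ * v) := by rw [mul_inv_cancel_left]
    rw [this]
    exact Subgroup.mul_mem_sup u.2 hker

end Cfsg.Agent.Lib.Helper2
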