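import Cfsg.Agent.Lib.Helper2.Coatom

set_option autoImplicit false
set_option linter.style.haveILetI false

namespace Cfsg.Agent.Lib.Helper2

universe u

variable {G : Type u} [Group G]

/-- If every maximal subgroup of a finite group has prime index, then the Sylow subgroup for
the largest prime is normal. -/
theorem sylow_normal_of_max_prime_index [Finite G]
    (h : ∀ M : Subgroup G, IsCoatom M → M.index.Prime) (p : ℕ) [hp : Fact p.Prime]
    (hmax : ∀ q : ℕ, q.Prime → q ∣ Nat.card G → q ≤ p) (P : Sylow p G) :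
    (P : Subgroup G).Normal := by
  by_contra hn
  have hne : Subgroup.normalizer (P : Set G) ≠ ⊤ := fun h' =>
    hn (Subgroup.normalizer_eq_top_iff.1 h')
  obtain ⟨M, hM, hNM⟩ := (eq_top_or_exists_le_coatom _).resolve_left hne
  have hq := h M hM
  have hPM : (P : Subgroup G) ≤ M := Subgroup.le_normalizer.trans hNM
  have ha : (Subgroup.normalizer (P : Set G)).index ≡ 1 [MOD p] := by
    rw [← P.card_eq_index_normalizer]; exact card_sylow_modEq_one p G
  have hb : (Subgroup.normalizer (P : Set G)).relIndex M ≡ 1 [MOD p] := by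
    have h1 := card_sylow_modEq_one p M
    rw [(P.subtype hPM).card_eq_index_normalizer] at h1
    have h2 : Subgroup.normalizer ((P.subtype hPM : Sylow p M) : Set M)
        = (Subgroup.normalizer (P : Set G)).subgroupOf M := by
      exact (Subgroup.subgroupOf_normalizer_eq hPM).symm
    rw [h2] at h1
    exact h1
  have hab := Subgroup.relIndex_mul_index hNM
  have hq1 : M.index ≡ 1 [MOD p] := by
    have h1 : (Subgroup.normalizer (P : Set G)).relIndex M * M.index ≡ 1 * M.index [MOD p] :=
      Nat.ModEq.mul_right _ hb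
    rw [hab, one_mul] at h1
    exact h1.symm.trans ha
  have hqd : M.index ∣ Nat.card G := Subgroup.index_dvd_card M
  have hle := hmax _ hq hqd
  have hpp := hp.out
  have h2 : p ∣ M.index - 1 := (Nat.modEq_iff_dvd' hq.one_lt.le).1 hq1.symm
  have h3 : p ≤ M.index - 1 := Nat.le_of_dvd (by have := hq.two_le; omega) h2
  have := hq.two_le
  omega

theorem max_prime_index_quotient (h : ∀ M : Subgroup G, IsCoatom M → M.index.Prime)
    (N : Subgroup G) [N.Normal] :
    ∀ L : Subgroup (G ⧸ N), IsCoatom L → L.index.Prime := by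
  intro L hL
  rw [← index_comap_mk']
  exact h _ (isCoatom_comap_mk' N hL)

theorem exists_largest_prime_dvd (n : ℕ) (hn : 1 < n) :
    ∃ p : ℕ, p.Prime ∧ p ∣ n ∧ ∀ q : ℕ, q.Prime → q ∣ n → q ≤ p := by
  have hpf : n.primeFactors.Nonempty := Nat.nonempty_primeFactors.2 hn
  refine ⟨n.primeFactors.max' hpf, ?_, ?_, ?_⟩
  · exact Nat.prime_of_mem_primeFactors (Finset.max'_mem _ _)
  · exact Nat.dvd_of_mem_primeFactors (Finset.max'_mem _ _)
  · intro r hr hrd
    apply Finset.le_max'
    exact Nat.mem_primeFactors.2 ⟨hr, hrd, by omega⟩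

theorem one_lt_card_of_nontrivial [Finite G] [Nontrivial G] : 1 < Nat.card G :=
  Finite.one_lt_card

end Cfsg.Agent.Lib.Helper2
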