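import Mathlib
import Cfsg.Agent.Lib.Helper4.Schmidt
import Cfsg.Agent.Lib.Helper2.Conj
import Cfsg.Agent.Lib.Helper2.Index

set_option autoImplicit false
set_option linter.style.haveILetI false
set_option linter.deprecated false

namespace Cfsg.Agent.Lib.Helper2

universe u

variable {G : Type u} [Group G]

/-- If `A` is a `p`-subgroup, `Q` a normal `q`-subgroup (`p ≠ q`) and `A ⊔ Q` is nilpotent, then
`Q` normalizes `A`. -/
theorem le_normalizer_of_nilpotent_sup [Finite G] {p q : ℕ} [hp : Fact p.Prime] [hq : Fact q.Prime]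
    (hpq : p ≠ q) (A Q : Subgroup G) [Q.Normal] (hA : IsPGroup p A) (hQ : IsPGroup q Q)
    (hnil : Group.IsNilpotent ↥(A ⊔ Q)) : Q ≤ Subgroup.normalizer (A : Set G) := by
  set S := A ⊔ Q with hS
  have hAS : A ≤ S := le_sup_left
  have hA' : IsPGroup p (A.subgroupOf S) := hA.comap_subtype
  have hidx : ¬ p ∣ (A.subgroupOf S).index := by
    have h1 : (A.subgroupOf S).index = A.relIndex Q := by
      show A.relIndex S = _
      exact relIndex_sup_of_le_normalizer A Q (by rw [Subgroup.normalizer_eq_top]; exact le_top)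
    rw [h1]
    obtain ⟨b, hb⟩ := IsPGroup.iff_card.mp hQ
    intro hdvd
    have h2 : p ∣ q ^ b := hb ▸ hdvd.trans (Subgroup.relIndex_dvd_card A Q)
    have h3 := (Nat.Prime.dvd_of_dvd_pow hp.out h2)
    exact hpq ((Nat.prime_dvd_prime_iff_eq hp.out hq.out).mp h3)
  let P' : Sylow p S := hA'.toSylow hidx
  haveI := hnil
  have hn : (P' : Subgroup S).Normal := inferInstance
  have hn' : (A.subgroupOf S).Normal := hn
  exact le_sup_right.trans (le_normalizer_of_subgroupOf_normal hAS hn')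

/-- Structure of minimal non-nilpotent groups (Schmidt). -/
theorem minNonNilp_structure [Finite G] (hG : ¬ Group.IsNilpotent G)
    (hsub : ∀ H : Subgroup G, H ≠ ⊤ → Group.IsNilpotent H) :
    ∃ p q : ℕ, ∃ (_ : Fact p.Prime) (_ : Fact q.Prime), p ≠ q ∧
      ∃ (P : Sylow p G) (Q : Sylow q G),
      IsCyclic P ∧ (Q : Subgroup G).Normal ∧ ¬ (P : Subgroup G).Normal ∧
        (P : Subgroup G) ⊔ Q = ⊤ := by
  classical
  haveI hsolv : Group.IsSolvable G :=
    Cfsg.Agent.Lib.Helper4.schmidt _ G rfl (fun M hM => hsub M hM.1)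
  haveI hnt : Nontrivial G := by
    by_contra h
    rw [not_nontrivial_iff_subsingleton] at h
    exact hG inferInstance
  have h03 := (Group.isNilpotent_of_finite_tfae (G := G)).out 0 3
  have hex : ∃ (p : ℕ) (_ : Fact p.Prime) (P : Sylow p G), ¬ (P : Subgroup G).Normal := by
    by_contra hcon
    push Not at hcon
    exact hG (h03.mpr hcon)
  obtain ⟨p, hp, P, hPn⟩ := hex
  obtain ⟨M, hM, hcM⟩ := (eq_top_or_exists_le_coatom (commutator G)).resolve_left
    (Group.IsSolvable.commutator_lt_top_of_nontrivial G).ne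
  haveI hMn : M.Normal := Subgroup.Normal.of_commutator_le (h := hcM)
  haveI hMnil : Group.IsNilpotent M := hsub M hM.1
  have hnormal_of_le : ∀ (q : ℕ) [Fact q.Prime] (Q : Sylow q G),
      (Q : Subgroup G) ≤ M → (Q : Subgroup G).Normal := by
    intro q _ Q hQM
    let Q' : Sylow q M := Q.subtype hQM
    have h1 : (Q' : Subgroup M).Normal := inferInstance
    haveI h2 : (Q' : Subgroup M).Characteristic := Sylow.characteristic_of_normal Q' h1
    have h3 : ((Q' : Subgroup M).map M.subtype).Normal := inferInstance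
    have h4 : (Q' : Subgroup M).map M.subtype = Q := by
      rw [Sylow.coe_subtype]; exact Subgroup.map_subgroupOf_eq_of_le hQM
    rwa [h4] at h3
  have hidx_of_not_le : ∀ (q : ℕ) [Fact q.Prime] (Q : Sylow q G),
      ¬ (Q : Subgroup G) ≤ M → ∃ i : ℕ, i ≠ 0 ∧ M.index = q ^ i := by
    intro q hq Q hQM
    have h1 : M ⊔ Q = ⊤ :=
      hM.2 _ (lt_of_le_of_ne le_sup_left (fun h => hQM (by rw [h]; exact le_sup_right)))
    have h2 : M.index = M.relIndex Q := by
      rw [← Subgroup.relIndex_top_right, ← h1, Subgroup.relIndex_sup_left]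
    obtain ⟨b, hb⟩ := IsPGroup.iff_card.mp Q.2
    have h3 : M.index ∣ q ^ b := by rw [h2, ← hb]; exact Subgroup.relIndex_dvd_card M Q
    obtain ⟨i, -, hi⟩ := (Nat.dvd_prime_pow hq.out).mp h3
    refine ⟨i, ?_, hi⟩
    rintro rfl
    rw [pow_zero, Subgroup.index_eq_one] at hi
    exact hM.1 hi
  have hPM : ¬ (P : Subgroup G) ≤ M := fun h => hPn (hnormal_of_le p P h)
  obtain ⟨i, hi0, hi⟩ := hidx_of_not_le p P hPM
  have hQnormal : ∀ (q : ℕ) [Fact q.Prime], q ≠ p → ∀ Q : Sylow q G,
      (Q : Subgroup G).Normal := by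
    intro q hq hqp Q
    apply hnormal_of_le q Q
    by_contra hQM
    obtain ⟨j, hj0, hj⟩ := hidx_of_not_le q Q hQM
    have h1 : q ∣ p ^ i := by rw [← hi, hj]; exact dvd_pow_self q hj0
    have h2 := Nat.Prime.dvd_of_dvd_pow hq.out h1
    exact hqp ((Nat.prime_dvd_prime_iff_eq hq.out hp.out).mp h2)
  have hex2 : ∃ (q : ℕ) (_ : Fact q.Prime) (Q : Sylow q G),
      q ≠ p ∧ (P : Subgroup G) ⊔ Q = ⊤ := by
    by_contra hcon
    push Not at hcon
    apply hPn
    rw [← Subgroup.normalizer_eq_top_iff, ← Subgroup.index_eq_one,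
      Nat.eq_one_iff_not_exists_prime_dvd]
    intro q hq hdvd
    haveI : Fact q.Prime := ⟨hq⟩
    by_cases hqp : q = p
    · subst hqp
      exact P.not_dvd_index (hdvd.trans (Subgroup.index_dvd_of_le Subgroup.le_normalizer))
    · obtain ⟨Q⟩ : Nonempty (Sylow q G) := inferInstance
      haveI := hQnormal q hqp Q
      have hne := hcon q ‹_› Q hqp
      have hnil := hsub _ hne
      have hle : (Q : Subgroup G) ≤ Subgroup.normalizer ((P : Subgroup G) : Set G) :=
        le_normalizer_of_nilpotent_sup (p := p) (q := q) (Ne.symm hqp) (P : Subgroup G)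
          (Q : Subgroup G) P.isPGroup' Q.isPGroup' hnil
      exact Q.not_dvd_index (hdvd.trans (Subgroup.index_dvd_of_le hle))
  obtain ⟨q, hq, Q, hqp, hPQ⟩ := hex2
  haveI hQn := hQnormal q hqp Q
  have hPQbot : (P : Subgroup G) ⊓ Q = ⊥ := by
    apply Subgroup.inf_eq_bot_of_coprime
    obtain ⟨a, ha⟩ := IsPGroup.iff_card.mp P.2
    obtain ⟨b, hb⟩ := IsPGroup.iff_card.mp Q.2
    rw [ha, hb]
    exact Nat.Coprime.pow _ _ ((Nat.coprime_primes hp.out hq.out).mpr (Ne.symm hqp))
  refine ⟨p, q, hp, hq, Ne.symm hqp, P, Q, ?_, hQn, hPn, hPQ⟩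
  by_contra hcyc
  apply hPn
  have hzp : ∀ x ∈ (P : Subgroup G), (Q : Subgroup G) ≤
      Subgroup.normalizer ((Subgroup.zpowers x : Subgroup G) : Set G) := by
    intro x hx
    have hzle : Subgroup.zpowers x ≤ (P : Subgroup G) := (Subgroup.zpowers_le).mpr hx
    have hzne : Subgroup.zpowers x ⊔ (Q : Subgroup G) ≠ ⊤ := by
      intro htop
      apply hcyc
      have hPz : (P : Subgroup G) ≤ Subgroup.zpowers x := by
        intro y hy
        have hy' : y ∈ Subgroup.zpowers x ⊔ (Q : Subgroup G) := htop ▸ Subgroup.mem_top y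
        obtain ⟨a, ha, b, hb, hab⟩ := Subgroup.mem_sup_of_normal_right.mp hy'
        have hbP : b ∈ (P : Subgroup G) := by
          have h0 : b = a⁻¹ * y := by rw [← hab]; group
          rw [h0]; exact mul_mem (inv_mem (hzle ha)) hy
        have hb1 : b ∈ (P : Subgroup G) ⊓ Q := Subgroup.mem_inf.mpr ⟨hbP, hb⟩
        rw [hPQbot, Subgroup.mem_bot] at hb1
        rw [← hab, hb1, mul_one]; exact ha
      have hPeq : (P : Subgroup G) = Subgroup.zpowers x := le_antisymm hPz hzle
      rw [hPeq]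
      infer_instance
    have hnil := hsub _ hzne
    exact le_normalizer_of_nilpotent_sup (p := p) (q := q) (Ne.symm hqp) (Subgroup.zpowers x)
      (Q : Subgroup G) (P.isPGroup'.to_le hzle) Q.isPGroup' hnil
  rw [← Subgroup.normalizer_eq_top_iff, eq_top_iff, ← hPQ]
  apply sup_le Subgroup.le_normalizer
  intro g hg
  rw [Subgroup.mem_normalizer_iff]
  intro h
  constructor
  · intro hh
    have h1 := (Subgroup.mem_normalizer_iff.mp (hzp h hh hg) h).mp (Subgroup.mem_zpowers h)
    exact (Subgroup.zpowers_le.mpr hh) h1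
  · intro hh
    have hg' : g⁻¹ ∈ (Q : Subgroup G) := inv_mem hg
    have h1 := (Subgroup.mem_normalizer_iff.mp (hzp _ hh hg') (g * h * g⁻¹)).mp
      (Subgroup.mem_zpowers _)
    have h2 : g⁻¹ * (g * h * g⁻¹) * g⁻¹⁻¹ = h := by group
    rw [h2] at h1
    exact (Subgroup.zpowers_le.mpr hh) h1

end Cfsg.Agent.Lib.Helper2
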