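import Mathlib
import Cfsg.Agent.S0023
import Cfsg.Agent.Lib.Helper2.Nilp
import Cfsg.Agent.Lib.Helper2.Index
import Cfsg.Agent.Lib.Helper2.EA

set_option autoImplicit false
set_option linter.style.haveILetI false
set_option linter.deprecated false

namespace Cfsg.Agent.Lib.Helper2

theorem le_normalizer_of_conj_mem {G : Type*} [Group G] (K D : Subgroup G)
    (h : ∀ x ∈ K, ∀ d ∈ D, x * d * x⁻¹ ∈ D) : K ≤ Subgroup.normalizer (D : Set G) := by
  intro x hx
  rw [Subgroup.mem_normalizer_iff]
  intro d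
  constructor
  · exact h x hx d
  · intro hd
    have := h x⁻¹ (K.inv_mem hx) _ hd
    simpa [mul_assoc] using this

/-- Common core of the structure theorems for minimal non-`p`-closed and minimal
non-`p`-exponent-closed groups. -/
theorem core_min_non_closed {G : Type*} [Group G] [Finite G] {p : ℕ} [hp : Fact p.Prime]
    (P N : Subgroup G) [hNn : N.Normal] (hP : IsPGroup p P) (hN1 : N ≠ ⊥)
    (hmin : ∀ B : Subgroup G, B.Normal → B ≤ N → B = ⊥ ∨ B = N)
    (hpN : ¬ p ∣ Nat.card N) (hsup : P ⊔ N = ⊤)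
    (hH : ∀ S L : Subgroup G, S ≤ P → L ≤ N → S ≤ Subgroup.normalizer (L : Set G) → S ⊔ L ≠ ⊤ →
      L ≤ Subgroup.normalizer (S : Set G))
    (hK : ¬ N ≤ Subgroup.centralizer (P : Set G))
    (hJ : ∀ S : Subgroup G, S.Normal → S ≤ P → S = ⊥) :
    ∃ q : ℕ, q.Prime ∧ q ≠ p ∧ Cfsg.IsElementaryAbelian q N ∧ N.index = p := by
  classical
  have hpp := hp.out
  have hcop : (Nat.card P).Coprime (Nat.card N) := by
    obtain ⟨k, hk⟩ := IsPGroup.exists_card_eq hP
    rw [hk]
    exact Nat.Coprime.pow_left k ((Nat.Prime.coprime_iff_not_dvd hpp).2 hpN)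
  have hPN : P ⊓ N = ⊥ := Subgroup.inf_eq_bot_of_coprime hcop
  have hcomm : ∀ S L : Subgroup G, S ≤ P → L ≤ N → L ≤ Subgroup.normalizer (S : Set G) →
      ∀ x ∈ S, ∀ y ∈ L, x * y = y * x := by
    intro S L hSP hLN hLS x hx y hy
    have h1 : x * y * x⁻¹ * y⁻¹ ∈ N :=
      N.mul_mem (hNn.conj_mem y (hLN hy) x) (N.inv_mem (hLN hy))
    have h2 : x * y * x⁻¹ * y⁻¹ ∈ P := by
      have : y * x⁻¹ * y⁻¹ ∈ S := (Subgroup.mem_normalizer_iff.1 (hLS hy) x⁻¹).1 (S.inv_mem hx)
      have e : x * y * x⁻¹ * y⁻¹ = x * (y * x⁻¹ * y⁻¹) := by group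
      rw [e]; exact hSP (S.mul_mem hx this)
    have h3 : x * y * x⁻¹ * y⁻¹ ∈ P ⊓ N := ⟨h2, h1⟩
    rw [hPN, Subgroup.mem_bot] at h3
    calc x * y = (x * y * x⁻¹ * y⁻¹) * (y * x) := by group
      _ = y * x := by rw [h3, one_mul]
  haveI : Group.IsNilpotent ↥P := hP.isNilpotent
  have hPsolv : Group.IsSolvable ↥P := inferInstance
  have hPnN : P ≤ Subgroup.normalizer (N : Set G) := by
    rw [Subgroup.normalizer_eq_top]; exact le_top
  have hexq : ∃ q : ℕ, q.Prime ∧ IsPGroup q N := by
    by_contra hcon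
    push Not at hcon
    apply hK
    set C : Subgroup G := Subgroup.centralizer (P : Set G) ⊓ N with hC
    have hdvd : Nat.card N ∣ Nat.card C := by
      rw [← Nat.factorization_prime_le_iff_dvd (Nat.card_pos.ne') (Nat.card_pos.ne')]
      intro q hq
      haveI : Fact q.Prime := ⟨hq⟩
      obtain ⟨Q, hQ⟩ := Cfsg.Agent.S0023.result P N hPnN hcop (Or.inl hPsolv) q
      set Q' : Subgroup G := (Q : Subgroup ↥N).map N.subtype with hQ'
      have hQ'N : Q' ≤ N := Subgroup.map_subtype_le _
      have hQN : Q' ≠ N := by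
        intro h
        apply hcon q hq
        have h4 : IsPGroup q Q' := Q.2.map N.subtype
        rw [h] at h4
        exact h4
      have hne : P ⊔ Q' ≠ ⊤ := by
        intro htop
        apply hQN
        apply le_antisymm hQ'N
        intro n hn
        have hn' : n ∈ P ⊔ Q' := htop ▸ Subgroup.mem_top n
        obtain ⟨x, hx, y, hy, hxy⟩ := exists_mul_of_mem_sup_of_le_normalizer hQ hn'
        have hx1 : x ∈ P ⊓ N := ⟨hx, by
          have : x = n * y⁻¹ := by rw [hxy]; group
          rw [this]; exact N.mul_mem hn (N.inv_mem (hQ'N hy))⟩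
        rw [hPN, Subgroup.mem_bot] at hx1
        rw [hxy, hx1, one_mul]; exact hy
      have hQP : Q' ≤ Subgroup.normalizer (P : Set G) := hH P Q' le_rfl hQ'N hQ hne
      have hQC : Q' ≤ C := by
        intro y hy
        refine ⟨Subgroup.mem_centralizer_iff.2 ?_, hQ'N hy⟩
        intro x hx
        exact hcomm P Q' le_rfl hQ'N hQP x hx y hy
      have hcardQ : Nat.card Q' = q ^ (Nat.card N).factorization q := by
        rw [hQ', Subgroup.card_map_of_injective N.subtype_injective]
        exact Q.card_eq_multiplicity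
      have h1 : q ^ (Nat.card N).factorization q ∣ Nat.card C := by
        rw [← hcardQ]; exact Subgroup.card_dvd_of_le hQC
      exact (hq.pow_dvd_iff_le_factorization (Nat.card_pos.ne')).1 h1
    have hCN : C = N :=
      Subgroup.eq_of_le_of_card_ge inf_le_right (Nat.le_of_dvd Nat.card_pos hdvd)
    rw [← hCN]; exact inf_le_left
  obtain ⟨q, hq, hNq⟩ := hexq
  haveI : Fact q.Prime := ⟨hq⟩
  have hqp : q ≠ p := by
    intro h
    have hNp : IsPGroup p N := h ▸ hNq
    obtain ⟨k, hk⟩ := IsPGroup.exists_card_eq hNp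
    have hk0 : k = 0 := by
      by_contra hne
      exact hpN (by rw [hk]; exact dvd_pow_self p hne)
    rw [hk0, pow_zero] at hk
    exact hN1 (Subgroup.card_eq_one.1 hk)
  have hNnil : Group.IsNilpotent ↥N := hNq.isNilpotent
  have hNcent : N ≤ Subgroup.centralizer (N : Set G) :=
    nilpotent_normal_le_centralizer_minimal_normal N N hNnil hN1 hmin
  have hNc : ∀ a ∈ N, ∀ b ∈ N, a * b = b * a := by
    intro a ha b hb
    exact (Subgroup.mem_centralizer_iff.1 (hNcent hb)) a ha
  let B : Subgroup G :=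
    { carrier := {a | a ∈ N ∧ a ^ q = 1}
      one_mem' := ⟨N.one_mem, one_pow q⟩
      mul_mem' := by
        rintro a b ⟨ha, ha1⟩ ⟨hb, hb1⟩
        refine ⟨N.mul_mem ha hb, ?_⟩
        rw [(show Commute a b from hNc a ha b hb).mul_pow, ha1, hb1, one_mul]
      inv_mem' := by
        rintro a ⟨ha, ha1⟩
        exact ⟨N.inv_mem ha, by rw [inv_pow, ha1, inv_one]⟩ }
  have hBn : B.Normal := by
    constructor
    rintro a ⟨ha, ha1⟩ g
    refine ⟨hNn.conj_mem a ha g, ?_⟩
    rw [conj_pow, ha1, mul_one, mul_inv_cancel]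
  have hBN : B ≤ N := fun a ha => ha.1
  have hB1 : B ≠ ⊥ := by
    have hqN : q ∣ Nat.card N := by
      obtain ⟨k, hk⟩ := IsPGroup.exists_card_eq hNq
      have hk0 : k ≠ 0 := by
        rintro rfl
        rw [pow_zero] at hk
        exact hN1 (Subgroup.card_eq_one.1 hk)
      rw [hk]; exact dvd_pow_self q hk0
    obtain ⟨y, hy⟩ := exists_prime_orderOf_dvd_card' (G := ↥N) q hqN
    intro hbot
    have hyB : (y : G) ∈ B := ⟨y.2, by
      have h5 := pow_orderOf_eq_one y
      rw [hy] at h5
      have h6 := congrArg Subtype.val h5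
      simpa using h6⟩
    rw [hbot, Subgroup.mem_bot] at hyB
    have h7 : y = 1 := Subtype.ext hyB
    rw [h7, orderOf_one] at hy
    exact hq.one_lt.ne hy
  have hBeq : B = N := (hmin B hBn hBN).resolve_left hB1
  have hea : Cfsg.IsElementaryAbelian q N := by
    rw [isElementaryAbelian_iff]
    refine ⟨hNc, fun a ha => ?_⟩
    have h8 : a ∈ B := by rw [hBeq]; exact ha
    exact h8.2
  set D : Subgroup G := P ⊓ Subgroup.centralizer (N : Set G) with hD
  have hDn : D.Normal := by
    have h1 : P ≤ Subgroup.normalizer (D : Set G) := by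
      apply le_normalizer_of_conj_mem
      rintro x hx d ⟨hd1, hd2⟩
      exact ⟨P.mul_mem (P.mul_mem hx hd1) (P.inv_mem hx),
        (Subgroup.normal_centralizer (H := N)).conj_mem d hd2 x⟩
    have h2 : N ≤ Subgroup.normalizer (D : Set G) := by
      apply le_normalizer_of_commute
      intro n hn d hd
      exact (Subgroup.mem_centralizer_iff.1 hd.2) n hn
    have h3 : Subgroup.normalizer (D : Set G) = ⊤ := by
      rw [eq_top_iff, ← hsup]; exact sup_le h1 h2
    exact Subgroup.normalizer_eq_top_iff.1 h3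
  have hD1 : D = ⊥ := hJ D hDn inf_le_left
  have hsub1 : ∀ S : Subgroup G, S ≤ P → S ≠ P → S = ⊥ := by
    intro S hSP hne
    have hSN : S ≤ Subgroup.normalizer (N : Set G) := by
      rw [Subgroup.normalizer_eq_top]; exact le_top
    have hne' : S ⊔ N ≠ ⊤ := by
      intro htop
      apply hne
      apply le_antisymm hSP
      intro x hx
      have hx' : x ∈ S ⊔ N := htop ▸ Subgroup.mem_top x
      obtain ⟨s, hs, n, hn, hxsn⟩ := exists_mul_of_mem_sup_of_le_normalizer hSN hx'
      have hn1 : n ∈ P ⊓ N := ⟨by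
        have : n = s⁻¹ * x := by rw [hxsn]; group
        rw [this]; exact P.mul_mem (P.inv_mem (hSP hs)) hx, hn⟩
      rw [hPN, Subgroup.mem_bot] at hn1
      rw [hxsn, hn1, mul_one]; exact hs
    have hNS := hH S N hSP le_rfl hSN hne'
    have hSD : S ≤ D := by
      intro x hx
      refine ⟨hSP hx, Subgroup.mem_centralizer_iff.2 ?_⟩
      intro n hn
      exact (hcomm S N hSP le_rfl hNS x hx n hn).symm
    rw [hD1] at hSD
    exact le_bot_iff.1 hSD
  have hP1 : P ≠ ⊥ := by
    intro h
    apply hK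
    rw [h]
    intro n _
    rw [Subgroup.mem_centralizer_iff]
    intro x hx
    rw [Subgroup.coe_bot, Set.mem_singleton_iff] at hx
    rw [hx, one_mul, mul_one]
  have hpP : p ∣ Nat.card P := by
    obtain ⟨k, hk⟩ := IsPGroup.exists_card_eq hP
    have hk0 : k ≠ 0 := by
      rintro rfl
      rw [pow_zero] at hk
      exact hP1 (Subgroup.card_eq_one.1 hk)
    rw [hk]; exact dvd_pow_self p hk0
  obtain ⟨y, hy⟩ := exists_prime_orderOf_dvd_card' (G := ↥P) p hpP
  have hcardP : Nat.card P = p := by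
    have hzP : Subgroup.zpowers (y : G) = P := by
      by_contra hne
      have hbot := hsub1 (Subgroup.zpowers (y : G)) (Subgroup.zpowers_le.2 y.2) hne
      have hy1 : (y : G) = 1 := by
        have hmem : (y : G) ∈ Subgroup.zpowers (y : G) := Subgroup.mem_zpowers _
        rw [hbot, Subgroup.mem_bot] at hmem
        exact hmem
      have h9 : y = 1 := Subtype.ext hy1
      rw [h9, orderOf_one] at hy
      exact hpp.one_lt.ne hy
    have h10 : Nat.card (Subgroup.zpowers (y : G)) = p := by
      rw [Nat.card_zpowers, Subgroup.orderOf_coe, hy]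
    rw [hzP] at h10
    exact h10
  have hidx : N.index = p := by
    have h1 := card_sup_mul_card_inf P N hPnN
    rw [hsup, hPN, Subgroup.card_top, Subgroup.card_bot, mul_one, hcardP] at h1
    have h2 := N.card_mul_index
    have h3 : N.index * Nat.card N = p * Nat.card N := by rw [mul_comm, h2, h1]
    exact Nat.eq_of_mul_eq_mul_right Nat.card_pos h3
  exact ⟨q, hq, hqp, hea, hidx⟩

end Cfsg.Agent.Lib.Helper2
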