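import Mathlib
import Cfsg.Agent.Lib.Helper2.CoreFree
import Cfsg.Agent.Lib.Helper2.Index
import Cfsg.Agent.Lib.Helper2.Conj

set_option autoImplicit false
set_option linter.style.haveILetI false

namespace Cfsg.Agent.Lib.Helper2

open scoped Pointwise

/-- Basic facts about a core-free maximal subgroup and an abelian normal subgroup `A ≠ 1`. -/
theorem corefree_coatom_facts {G : Type*} [Group G] (U A : Subgroup G) [hAn : A.Normal]
    (hU : IsCoatom U) (hcore : U.normalCore = ⊥) (hA1 : A ≠ ⊥)
    (hAab : ∀ x ∈ A, ∀ y ∈ A, x * y = y * x) :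
    A ⊔ U = ⊤ ∧ A ⊓ U = ⊥ ∧ Subgroup.centralizer (A : Set G) = A := by
  have hAU : A ⊔ U = ⊤ := by
    apply hU.2
    apply lt_of_le_of_ne le_sup_right
    intro h
    have hle : A ≤ U := by rw [h]; exact le_sup_left
    have : A ≤ U.normalCore := (Subgroup.normal_le_normalCore).2 hle
    rw [hcore] at this
    exact hA1 (le_bot_iff.1 this)
  have hAU' : A ⊓ U = ⊥ := inf_eq_bot_of_corefree U A A hAU hAab hcore
  have hCU : Subgroup.centralizer (A : Set G) ⊓ U = ⊥ := by
    apply inf_eq_bot_of_corefree U (Subgroup.centralizer (A : Set G)) A hAU _ hcore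
    intro x hx a ha
    rw [Subgroup.mem_centralizer_iff] at hx
    exact (hx a ha).symm
  refine ⟨hAU, hAU', ?_⟩
  apply le_antisymm
  · intro c hc
    have hg : c ∈ A ⊔ U := by rw [hAU]; exact Subgroup.mem_top c
    obtain ⟨a, ha, u, hu, rfl⟩ := Subgroup.mem_sup_of_normal_left.1 hg
    have haC : a ∈ Subgroup.centralizer (A : Set G) := by
      rw [Subgroup.mem_centralizer_iff]
      intro a' ha'
      exact hAab a' ha' a ha
    have huC : u ∈ Subgroup.centralizer (A : Set G) := by
      have := (Subgroup.centralizer (A : Set G)).mul_mem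
        ((Subgroup.centralizer (A : Set G)).inv_mem haC) hc
      simpa using this
    have : u ∈ Subgroup.centralizer (A : Set G) ⊓ U := ⟨huC, hu⟩
    rw [hCU, Subgroup.mem_bot] at this
    rw [this, mul_one]; exact ha
  · intro a ha
    rw [Subgroup.mem_centralizer_iff]
    intro a' ha'
    exact hAab a' ha' a ha

/-- If `x` normalizes... : `conj h • U ≤ N(conj h • Q)` when `U ≤ N(Q)`. -/
theorem conj_smul_le_normalizer_conj_smul {G : Type*} [Group G] (U Q : Subgroup G)
    (hUQ : U ≤ Subgroup.normalizer (Q : Set G)) (h : G) :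
    MulAut.conj h • U ≤ Subgroup.normalizer ((MulAut.conj h • Q : Subgroup G) : Set G) := by
  intro x hx
  rw [mem_conj_smul_iff] at hx
  have h1 := hUQ hx
  rw [mem_normalizer_iff_conj_smul_eq] at h1 ⊢
  have h3 : MulAut.conj x * MulAut.conj h = MulAut.conj h * MulAut.conj (h⁻¹ * x * h) := by
    rw [← map_mul, ← map_mul]
    congr 1
    group
  rw [← mul_smul, h3, mul_smul, h1]

end Cfsg.Agent.Lib.Helper2
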