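import Mathlib
import Cfsg.Agent.Lib.Helper2.PrimSolv

set_option autoImplicit false
set_option linter.style.haveILetI false

namespace Cfsg.Agent.Lib.Helper2

/-- In a faithful primitive action of a nontrivial group, point stabilizers are core-free
maximal subgroups. -/
theorem stabilizer_coatom_corefree {G Ω : Type*} [Group G] [MulAction G Ω] [FaithfulSMul G Ω]
    (hprim : MulAction.IsPreprimitive G Ω) [hG : Nontrivial G] (ω : Ω) :
    IsCoatom (MulAction.stabilizer G ω) ∧ (MulAction.stabilizer G ω).normalCore = ⊥ := by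
  haveI := hprim.toIsPretransitive
  haveI : Nontrivial Ω := by
    by_contra h
    rw [not_nontrivial_iff_subsingleton] at h
    obtain ⟨g, hg⟩ := exists_ne (1 : G)
    apply hg
    apply FaithfulSMul.eq_of_smul_eq_smul (α := Ω)
    intro x
    exact Subsingleton.elim _ _
  refine ⟨(MulAction.isCoatom_stabilizer_iff_preprimitive G ω).2 hprim, ?_⟩
  rw [Subgroup.eq_bot_iff_forall]
  intro x hx
  apply FaithfulSMul.eq_of_smul_eq_smul (α := Ω)
  intro y
  rw [one_smul]
  obtain ⟨b, rfl⟩ := MulAction.exists_smul_eq G ω y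
  have h1 : b⁻¹ * x * b⁻¹⁻¹ ∈ MulAction.stabilizer G ω := hx b⁻¹
  rw [MulAction.mem_stabilizer_iff, inv_inv, mul_smul, mul_smul] at h1
  have := congrArg (fun z => b • z) h1
  simpa using this

end Cfsg.Agent.Lib.Helper2
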