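import Mathlib

set_option autoImplicit false
set_option linter.style.haveILetI false

namespace Cfsg.Agent.Lib.Helper2

variable {G : Type*} [Group G]

/-- In a subgroup of prime order, a non-identity element generates. -/
theorem zpowers_eq_of_mem_of_card_prime {p : ℕ} [Fact p.Prime] (Q : Subgroup G)
    (hQ : Nat.card Q = p) {g : G} (hg : g ∈ Q) (hg1 : g ≠ 1) : Subgroup.zpowers g = Q := by
  have hle : Subgroup.zpowers g ≤ Q := by rw [Subgroup.zpowers_le]; exact hg
  have hp : p.Prime := Fact.out
  have hdvd : Nat.card (Subgroup.zpowers g) ∣ p := by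
    rw [← hQ]; exact Subgroup.card_dvd_of_le hle
  have hne1 : Nat.card (Subgroup.zpowers g) ≠ 1 := by
    rw [Nat.card_zpowers]
    intro h
    exact hg1 (orderOf_eq_one_iff.1 h)
  have hcard : Nat.card (Subgroup.zpowers g) = p := by
    rcases (Nat.dvd_prime hp).1 hdvd with h | h
    · exact absurd h hne1
    · exact h
  haveI : Finite Q := Nat.finite_of_card_ne_zero (by rw [hQ]; exact hp.ne_zero)
  apply Subgroup.eq_of_le_of_card_ge hle
  rw [hcard, hQ]

theorem orderOf_eq_of_mem_of_card_prime {p : ℕ} [Fact p.Prime] (Q : Subgroup G)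
    (hQ : Nat.card Q = p) {g : G} (hg : g ∈ Q) (hg1 : g ≠ 1) : orderOf g = p := by
  rw [← Nat.card_zpowers, zpowers_eq_of_mem_of_card_prime Q hQ hg hg1, hQ]

/-- If the Sylow `p`-subgroups have order `p`, the elements of order `p` are counted by the
Sylow subgroups. -/
theorem card_orderOf_eq_prime [Finite G] {p : ℕ} [Fact p.Prime]
    (h : ∀ Q : Sylow p G, Nat.card (Q : Subgroup G) = p) :
    Nat.card {g : G // orderOf g = p} = Nat.card (Sylow p G) * (p - 1) := by
  classical
  have hp : p.Prime := Fact.out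
  haveI : Fintype (Sylow p G) := Fintype.ofFinite _
  have hmult : p = p ^ (Nat.card G).factorization p := by
    obtain ⟨Q⟩ := (inferInstance : Nonempty (Sylow p G))
    rw [← Q.card_eq_multiplicity, h Q]
  -- the Sylow subgroup generated by an element of order p
  have hQof : ∀ g : G, orderOf g = p → ∃ Q : Sylow p G, g ∈ (Q : Subgroup G) := by
    intro g hg
    have : IsPGroup p (Subgroup.zpowers g) := by
      apply IsPGroup.of_card (n := 1)
      rw [Nat.card_zpowers, hg, pow_one]
    obtain ⟨Q, hQ⟩ := this.exists_le_sylow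
    exact ⟨Q, hQ (Subgroup.mem_zpowers g)⟩
  choose! Qof hQof' using hQof
  let e : {g : G // orderOf g = p} ≃ Σ Q : Sylow p G, {g : G // g ∈ (Q : Subgroup G) ∧ g ≠ 1} :=
    { toFun := fun g => ⟨Qof g.1, ⟨g.1, hQof' g.1 g.2, by
        intro h1
        have := g.2
        rw [h1, orderOf_one] at this
        exact hp.one_lt.ne this⟩⟩
      invFun := fun x => ⟨x.2.1, orderOf_eq_of_mem_of_card_prime _ (h x.1) x.2.2.1 x.2.2.2⟩
      left_inv := fun g => Subtype.ext rfl
      right_inv := fun x => by
        apply Sigma.subtype_ext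
        · apply Sylow.ext
          have hx := orderOf_eq_of_mem_of_card_prime _ (h x.1) x.2.2.1 x.2.2.2
          have h1 := zpowers_eq_of_mem_of_card_prime _ (h (Qof x.2.1)) (hQof' x.2.1 hx) x.2.2.2
          have h2 := zpowers_eq_of_mem_of_card_prime _ (h x.1) x.2.2.1 x.2.2.2
          exact h1.symm.trans h2
        · rfl }
  rw [Nat.card_congr e, Nat.card_sigma]
  have hfib : ∀ Q : Sylow p G, Nat.card {g : G // g ∈ (Q : Subgroup G) ∧ g ≠ 1} = p - 1 := by
    intro Q
    have h1 : Nat.card {g : G // g ∈ (Q : Subgroup G) ∧ g ≠ 1} =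
        Nat.card {g : (Q : Subgroup G) // g ≠ 1} := by
      apply Nat.card_congr
      exact
        { toFun := fun g => ⟨⟨g.1, g.2.1⟩, fun h' => g.2.2 (congrArg Subtype.val h')⟩
          invFun := fun g => ⟨g.1.1, g.1.2, fun h' => g.2 (Subtype.ext h')⟩
          left_inv := fun g => rfl
          right_inv := fun g => rfl }
    rw [h1]
    haveI : Fintype (Q : Subgroup G) := Fintype.ofFinite _
    rw [Nat.card_eq_fintype_card, Fintype.card_subtype_compl, Fintype.card_subtype_eq,
      ← Nat.card_eq_fintype_card, h Q]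
  simp_rw [hfib]
  rw [Finset.sum_const, Finset.card_univ, smul_eq_mul, Nat.card_eq_fintype_card]

end Cfsg.Agent.Lib.Helper2
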