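import Mathlib
import Cfsg.Prelude.Def_ClassicalGeometry

set_option autoImplicit false
set_option linter.style.haveILetI false

namespace Cfsg.Agent.Lib.Helper2

open Matrix

variable {F : Type*} [Field F] {n : ℕ}

/-- The polar vector computes the polar form. -/
theorem polarVec_dot (Q : QuadraticForm F (Fin n → F)) (v x : Fin n → F) :
    Cfsg.polarVec (⇑Q) v ⬝ᵥ x = QuadraticMap.polar (⇑Q) v x := by
  have hx : x = ∑ j, x j • (Pi.single j (1 : F) : Fin n → F) := by
    simpa using (pi_eq_sum_univ' x)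
  have h1 : QuadraticMap.polar (⇑Q) v x = QuadraticMap.polarBilin Q v x := rfl
  conv_rhs => rw [h1, hx]
  rw [map_sum]
  unfold Cfsg.polarVec dotProduct
  apply Finset.sum_congr rfl
  intro j _
  rw [map_smul, smul_eq_mul, mul_comm]
  rfl

theorem det_one_add_smul_vecMulVec {ι : Type*} [Fintype ι] [DecidableEq ι] (a : F)
    (u v : ι → F) : (1 + a • Matrix.vecMulVec u v).det = 1 + a * (v ⬝ᵥ u) := by
  have h1 : a • Matrix.vecMulVec u v = Matrix.vecMulVec (a • u) v := by
    ext i j
    simp [Matrix.vecMulVec_apply, mul_assoc]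
  rw [h1, Matrix.vecMulVec_eq Unit, Matrix.det_one_add_replicateCol_mul_replicateRow,
    dotProduct_smul, smul_eq_mul]

/-- `Q (x + t • v) = Q x + t * polar Q x v + t ^ 2 * Q v`. -/
theorem quad_add_smul (Q : QuadraticForm F (Fin n → F)) (x v : Fin n → F) (t : F) :
    Q (x + t • v) = Q x + t * QuadraticMap.polar (⇑Q) x v + t * t * Q v := by
  have h1 : Q (x + t • v) = Q x + Q (t • v) + QuadraticMap.polar (⇑Q) x (t • v) := by
    unfold QuadraticMap.polar
    ring
  rw [h1, QuadraticMap.map_smul, QuadraticMap.polar_smul_right, smul_eq_mul, smul_eq_mul]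
  ring

end Cfsg.Agent.Lib.Helper2
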