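import Mathlib
import Cfsg.Agent.Lib.Helper2.HermField

set_option autoImplicit false
set_option linter.style.haveILetI false
set_option linter.unusedSectionVars false

namespace Cfsg.Agent.Lib.Helper2.Quad

open Cfsg.Agent.Lib.Helper2.Herm QuadraticAlgebra

section
variable {F : Type*} [Field F] [Fintype F]

/-- anisotropy of the binary form `x² + a x y + b y²` -/
def Aniso (a b : F) : Prop :=
  ∀ z₁ z₂ : F, z₁ ^ 2 + a * z₁ * z₂ + b * z₂ ^ 2 = 0 → z₁ = 0 ∧ z₂ = 0

theorem aniso_fact {a b : F} (hab : Aniso a b) : Fact (∀ r : F, r ^ 2 ≠ -b + a * r) := by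
  refine ⟨fun r hr => ?_⟩
  have h := hab r (-1) (by rw [hr]; ring)
  have h1 : (-1 : F) = 0 := h.2
  exact one_ne_zero (neg_eq_zero.1 h1)

theorem qa_finite (a b : F) : Finite (QuadraticAlgebra F a b) :=
  Finite.of_equiv _ (equivProd a b).symm

theorem qa_card (a b : F) : Nat.card (QuadraticAlgebra F a b) = Fintype.card F ^ 2 := by
  rw [Nat.card_congr (equivProd a b), Nat.card_prod, Nat.card_eq_fintype_card, sq]

/-- conjugation is the Frobenius map -/
theorem star_eq_pow {a b : F} (hab : Aniso a b) (z : QuadraticAlgebra F (-b) a) :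
    star z = z ^ Fintype.card F := by
  haveI := aniso_fact hab
  haveI := qa_finite (F := F) (-b) a
  haveI : Fintype (QuadraticAlgebra F (-b) a) := Fintype.ofFinite _
  have hK : Fintype.card (QuadraticAlgebra F (-b) a) = Fintype.card F ^ 2 := by
    rw [← Nat.card_eq_fintype_card, qa_card]
  have hq := one_lt_q hK
  have hφa : ∀ x : QuadraticAlgebra F (-b) a,
      FiniteField.frobeniusAlgEquivOfAlgebraic F (QuadraticAlgebra F (-b) a) x =
        x ^ Fintype.card F :=
    fun x => FiniteField.frobeniusAlgEquivOfAlgebraic_apply _ _ x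
  set φ := FiniteField.frobeniusAlgEquivOfAlgebraic F (QuadraticAlgebra F (-b) a) with hφ
  have hω : (ω : QuadraticAlgebra F (-b) a) * ω =
      algebraMap F _ (-b) + algebraMap F _ a * ω := omega_mul_omega_eq_algebraMap
  have hw : φ ω * φ ω = algebraMap F _ (-b) + algebraMap F _ a * φ ω := by
    have h := congrArg φ hω
    rw [map_mul, map_add, map_mul, AlgEquiv.commutes, AlgEquiv.commutes] at h
    exact h
  have hprod : (φ ω - ω) * (φ ω - (algebraMap F _ a - ω)) = 0 := by
    linear_combination hw - hω
  have hcase : φ ω = algebraMap F _ a - ω := by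
    rcases mul_eq_zero.1 hprod with h | h
    · exfalso
      have h1 : φ ω = ω := sub_eq_zero.1 h
      have hall : ∀ x : QuadraticAlgebra F (-b) a, x ^ Fintype.card F = x := by
        intro x
        rw [← hφa x]
        obtain ⟨r, s⟩ := x
        rw [mk_eq_add_smul_omega, map_add, map_smul, AlgEquiv.commutes, h1]
      have hc := card_fix hK
      rw [Nat.card_congr (Equiv.subtypeUnivEquiv hall), Nat.card_eq_fintype_card, hK] at hc
      have h2 : Fintype.card F * Fintype.card F = Fintype.card F * 1 := by
        rw [mul_one, ← sq]; exact hc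
      have h3 := Nat.eq_of_mul_eq_mul_left (by omega) h2
      omega
    · exact sub_eq_zero.1 h
  rw [← hφa z]
  obtain ⟨r, s⟩ := z
  rw [mk_eq_add_smul_omega, map_add, map_smul, AlgEquiv.commutes, hcase]
  ext <;> simp <;> ring

/-- number of elements of given non-zero norm -/
theorem card_norm_eq {a b : F} (hab : Aniso a b) (c : F) (hc : c ≠ 0) :
    Nat.card {z : QuadraticAlgebra F (-b) a //
      z.re ^ 2 + a * z.re * z.im + b * z.im ^ 2 = c} = Fintype.card F + 1 := by
  haveI := aniso_fact hab
  haveI := qa_finite (F := F) (-b) a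
  haveI : Fintype (QuadraticAlgebra F (-b) a) := Fintype.ofFinite _
  have hK : Fintype.card (QuadraticAlgebra F (-b) a) = Fintype.card F ^ 2 := by
    rw [← Nat.card_eq_fintype_card, qa_card]
  have hc1 : (algebraMap F (QuadraticAlgebra F (-b) a) c) ^ Fintype.card F =
      algebraMap F _ c := by
    rw [← map_pow, FiniteField.pow_card]
  have hc0 : algebraMap F (QuadraticAlgebra F (-b) a) c ≠ 0 := by
    intro h
    exact hc ((map_eq_zero _).1 h)
  rw [← card_norm_fiber hK _ hc1 hc0]
  apply Nat.card_congr
  apply Equiv.subtypeEquivRight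
  intro z
  rw [← star_eq_pow hab z, ← algebraMap_norm_eq_mul_star, algebraMap_inj, norm_def]
  constructor <;> intro h <;> linear_combination h

/-- coordinates -/
def tupEquiv (a b : F) : QuadraticAlgebra F a b ≃ (Fin 2 → F) where
  toFun z := ![z.re, z.im]
  invFun v := ⟨v 0, v 1⟩
  left_inv z := by ext <;> rfl
  right_inv v := by
    funext i
    fin_cases i <;> rfl

theorem card_norm_fin {a b : F} (hab : Aniso a b) (c : F) (hc : c ≠ 0) :
    Nat.card {v : Fin 2 → F // v 0 ^ 2 + a * v 0 * v 1 + b * v 1 ^ 2 = c} =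
      Fintype.card F + 1 := by
  rw [← card_norm_eq hab c hc]
  exact Nat.card_congr ((tupEquiv (-b) a).symm.subtypeEquiv (fun v => Iff.rfl))

/-- a root of `X² - aX + b` in the other quadratic extension -/
theorem exists_root {a b a' b' : F} (hab : Aniso a b) (hab' : Aniso a' b') :
    ∃ w : QuadraticAlgebra F (-b') a',
      w * w = algebraMap F _ (-b) + algebraMap F _ a * w := by
  haveI := aniso_fact hab
  haveI := aniso_fact hab'
  obtain ⟨p, hp⟩ := CharP.exists F
  haveI := hp
  haveI : Fact p.Prime := ⟨CharP.char_is_prime F p⟩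
  haveI : NeZero 2 := ⟨by norm_num⟩
  let e1 := FiniteField.algEquivExtension F p 2 (QuadraticAlgebra F (-b) a) (finrank_eq_two _ _)
  let e2 := FiniteField.algEquivExtension F p 2 (QuadraticAlgebra F (-b') a') (finrank_eq_two _ _)
  let e := e1.trans e2.symm
  refine ⟨e ω, ?_⟩
  have hω : (ω : QuadraticAlgebra F (-b) a) * ω =
      algebraMap F _ (-b) + algebraMap F _ a * ω := omega_mul_omega_eq_algebraMap
  have h := congrArg e hω
  rw [map_mul, map_add, map_mul, AlgEquiv.commutes, AlgEquiv.commutes] at h
  exact h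

theorem aniso_char {a b : F} (hab : Aniso a b) : ¬ ((2 : F) = 0 ∧ a = 0) := by
  rintro ⟨h2, ha⟩
  have hch : ringChar F = 2 :=
    CharP.ringChar_of_prime_eq_zero Nat.prime_two (by exact_mod_cast h2)
  obtain ⟨c, hc⟩ := FiniteField.isSquare_of_char_two hch b
  have h := hab c 1 (by rw [ha, hc]; linear_combination (c * c) * h2)
  exact one_ne_zero h.2

/-- exactly two elements with trace `a` and norm `b` -/
theorem card_trace_norm {a b a' b' : F} (hab : Aniso a b) (hab' : Aniso a' b') :
    Nat.card {p : F × F // 2 * p.1 + a' * p.2 = a ∧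
      p.1 ^ 2 + a' * p.1 * p.2 + b' * p.2 ^ 2 = b} = 2 := by
  haveI := aniso_fact hab'
  obtain ⟨w, hw⟩ := exists_root hab hab'
  have key : ∀ z : QuadraticAlgebra F (-b') a',
      z * z = algebraMap F _ (-b) + algebraMap F _ a * z →
      (2 * z.re + a' * z.im = a ∧ z.re ^ 2 + a' * z.re * z.im + b' * z.im ^ 2 = b) ∧
        z.im ≠ 0 := by
    intro z hz
    have h1 := congrArg QuadraticAlgebra.re hz
    have h2 := congrArg QuadraticAlgebra.im hz
    simp only [re_mul, im_mul, re_add, im_add, algebraMap_re, algebraMap_im] at h1 h2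
    have hy : z.im ≠ 0 := by
      intro hy
      rw [hy] at h1
      have h := hab z.re (-1) (by linear_combination h1)
      exact one_ne_zero (neg_eq_zero.1 h.2)
    have ht : 2 * z.re + a' * z.im = a := by
      apply mul_left_cancel₀ hy
      linear_combination h2
    refine ⟨⟨ht, ?_⟩, hy⟩
    linear_combination (-1 : F) * h1 + z.re * ht
  have conv : ∀ x y : F, 2 * x + a' * y = a → x ^ 2 + a' * x * y + b' * y ^ 2 = b →
      (⟨x, y⟩ : QuadraticAlgebra F (-b') a') * ⟨x, y⟩ =
        algebraMap F _ (-b) + algebraMap F _ a * ⟨x, y⟩ := by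
    intro x y h1 h2
    ext
    · simp only [re_mul, re_add, algebraMap_re, algebraMap_im]
      linear_combination (-1 : F) * h2 + x * h1
    · simp only [im_mul, im_add, algebraMap_re, algebraMap_im]
      linear_combination y * h1
  have hw' : (algebraMap F _ a - w) * (algebraMap F _ a - w) =
      algebraMap F (QuadraticAlgebra F (-b') a') (-b) + algebraMap F _ a * (algebraMap F _ a - w) := by
    linear_combination hw
  obtain ⟨⟨hw1, hw2⟩, hw3⟩ := key w hw
  obtain ⟨⟨hv1, hv2⟩, -⟩ := key _ hw'
  have hne : w ≠ algebraMap F _ a - w := by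
    intro h
    have h1 := congrArg QuadraticAlgebra.re h
    have h2 := congrArg QuadraticAlgebra.im h
    simp only [re_sub, im_sub, algebraMap_re, algebraMap_im] at h1 h2
    have h20 : (2 : F) = 0 := by
      apply mul_right_cancel₀ hw3
      linear_combination h2
    apply aniso_char hab
    refine ⟨h20, ?_⟩
    linear_combination (-1 : F) * h1 + w.re * h20
  rw [Nat.card_eq_two_iff]
  refine ⟨⟨(w.re, w.im), hw1, hw2⟩,
    ⟨((algebraMap F (QuadraticAlgebra F (-b') a') a - w).re,
      (algebraMap F (QuadraticAlgebra F (-b') a') a - w).im), hv1, hv2⟩, ?_, ?_⟩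
  · intro h
    apply hne
    have h' := congrArg Subtype.val h
    have h1 := congrArg Prod.fst h'
    have h2 := congrArg Prod.snd h'
    exact QuadraticAlgebra.ext h1 h2
  · apply Set.eq_univ_of_forall
    rintro ⟨⟨x, y⟩, h1, h2⟩
    have hz := conv x y h1 h2
    have hprod : ((⟨x, y⟩ : QuadraticAlgebra F (-b') a') - w) *
        (⟨x, y⟩ - (algebraMap F _ a - w)) = 0 := by
      linear_combination hz - hw
    rw [Set.mem_insert_iff, Set.mem_singleton_iff]
    rcases mul_eq_zero.1 hprod with h | h
    · left
      have h3 : (⟨x, y⟩ : QuadraticAlgebra F (-b') a') = w := sub_eq_zero.1 h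
      apply Subtype.ext
      show (x, y) = (w.re, w.im)
      rw [← h3]
    · right
      have h3 : (⟨x, y⟩ : QuadraticAlgebra F (-b') a') = algebraMap F _ a - w := sub_eq_zero.1 h
      apply Subtype.ext
      show (x, y) = ((algebraMap F (QuadraticAlgebra F (-b') a') a - w).re,
        (algebraMap F (QuadraticAlgebra F (-b') a') a - w).im)
      rw [← h3]

end

end Cfsg.Agent.Lib.Helper2.Quad
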