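import Mathlib
import Cfsg.Agent.Lib.Helper2.HermField

set_option autoImplicit false
set_option linter.style.haveILetI false
set_option linter.unusedSectionVars false

namespace Cfsg.Agent.Lib.Helper2.Quad

open Cfsg.Agent.Lib.Helper2.Herm

/-- an abstract quadratic form with its polar form -/
structure QS (ι : Type) (F : Type*) [Field F] where
  Q : (ι → F) → F
  B : (ι → F) → (ι → F) → F
  B_add_left : ∀ u v w, B (u + v) w = B u w + B v w
  B_smul_left : ∀ (a : F) u w, B (a • u) w = a * B u w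
  B_symm : ∀ u v, B u v = B v u
  Q_add : ∀ u v, Q (u + v) = Q u + Q v + B u v
  Q_smul : ∀ (a : F) u, Q (a • u) = a ^ 2 * Q u

section
variable {ι : Type} {F : Type*} [Field F] (S : QS ι F)

theorem B_add_right (u v w : ι → F) : S.B u (v + w) = S.B u v + S.B u w := by
  rw [S.B_symm, S.B_add_left, S.B_symm v, S.B_symm w]

theorem B_smul_right (a : F) (u w : ι → F) : S.B u (a • w) = a * S.B u w := by
  rw [S.B_symm, S.B_smul_left, S.B_symm]

theorem Q_zero : S.Q 0 = 0 := by
  have := S.Q_smul 0 0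
  rw [zero_smul] at this
  rw [this]; ring

theorem B_zero_left (w : ι → F) : S.B 0 w = 0 := by
  have := S.B_smul_left 0 0 w
  rw [zero_smul, zero_mul] at this
  exact this

theorem B_self (u : ι → F) : S.B u u = 2 * S.Q u := by
  have h := S.Q_smul 2 u
  have h2 := S.Q_add u u
  rw [two_smul] at h
  rw [h] at h2
  linear_combination (-1 : F) * h2

theorem B_neg_left (u w : ι → F) : S.B (-u) w = - S.B u w := by
  have := S.B_smul_left (-1) u w
  rw [neg_one_smul] at this
  rw [this]; ring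

/-- `{w ∈ W | B(w,e) = 0 ∧ B(w,f) = 0}` -/
def perp2 (W : Submodule F (ι → F)) (e f : ι → F) : Submodule F (ι → F) where
  carrier := {w | w ∈ W ∧ S.B w e = 0 ∧ S.B w f = 0}
  add_mem' := by
    rintro a b ⟨ha, ha1, ha2⟩ ⟨hb, hb1, hb2⟩
    exact ⟨W.add_mem ha hb, by rw [S.B_add_left, ha1, hb1, add_zero],
      by rw [S.B_add_left, ha2, hb2, add_zero]⟩
  zero_mem' := ⟨W.zero_mem, B_zero_left S _, B_zero_left S _⟩
  smul_mem' := by
    rintro c a ⟨ha, ha1, ha2⟩
    exact ⟨W.smul_mem c ha, by rw [S.B_smul_left, ha1, mul_zero],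
      by rw [S.B_smul_left, ha2, mul_zero]⟩

theorem mem_perp2 {W : Submodule F (ι → F)} {e f w : ι → F} :
    w ∈ perp2 S W e f ↔ w ∈ W ∧ S.B w e = 0 ∧ S.B w f = 0 := Iff.rfl

/-- hyperbolic pairs inside `W` -/
def HP (W : Submodule F (ι → F)) (e f : ι → F) : Prop :=
  e ∈ W ∧ f ∈ W ∧ S.Q e = 0 ∧ S.Q f = 0 ∧ S.B e f = 1

theorem Q_decomp {e f : ι → F} (he : S.Q e = 0) (hf : S.Q f = 0) (hef : S.B e f = 1)
    (a b : F) (w : ι → F) (hwe : S.B w e = 0) (hwf : S.B w f = 0) :
    S.Q (a • e + b • f + w) = a * b + S.Q w := by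
  rw [S.Q_add, S.Q_add, S.Q_smul, S.Q_smul, he, hf, S.B_smul_left, B_smul_right, hef,
    S.B_add_left, S.B_smul_left, S.B_smul_left, S.B_symm e w, S.B_symm f w, hwe, hwf]
  ring

/-- projection to `perp2` -/
def pr (e f w : ι → F) : ι → F := w + (-(S.B w f)) • e + (-(S.B w e)) • f

theorem pr_mem {W : Submodule F (ι → F)} {e f : ι → F} (hp : HP S W e f) {w : ι → F}
    (hw : w ∈ W) : pr S e f w ∈ perp2 S W e f := by
  obtain ⟨heW, hfW, he, hf, hef⟩ := hp
  have hee : S.B e e = 0 := by rw [B_self, he, mul_zero]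
  have hff : S.B f f = 0 := by rw [B_self, hf, mul_zero]
  have hfe : S.B f e = 1 := by rw [S.B_symm, hef]
  refine ⟨W.add_mem (W.add_mem hw (W.smul_mem _ heW)) (W.smul_mem _ hfW), ?_, ?_⟩
  · unfold pr
    rw [S.B_add_left, S.B_add_left, S.B_smul_left, S.B_smul_left, hee, hfe]; ring
  · unfold pr
    rw [S.B_add_left, S.B_add_left, S.B_smul_left, S.B_smul_left, hef, hff]; ring

/-- the decomposition `W ≃ F × F × W'` along a hyperbolic pair -/
def decompEquiv {W : Submodule F (ι → F)} {e f : ι → F} (hp : HP S W e f) :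
    {w : ι → F // w ∈ W} ≃ F × F × {w : ι → F // w ∈ perp2 S W e f} where
  toFun w := (S.B w.1 f, S.B w.1 e, ⟨pr S e f w.1, pr_mem S hp w.2⟩)
  invFun p := ⟨p.1 • e + p.2.1 • f + p.2.2.1,
    W.add_mem (W.add_mem (W.smul_mem _ hp.1) (W.smul_mem _ hp.2.1)) p.2.2.2.1⟩
  left_inv w := by
    apply Subtype.ext
    show S.B w.1 f • e + S.B w.1 e • f + pr S e f w.1 = w.1
    unfold pr
    rw [neg_smul, neg_smul]
    abel
  right_inv p := by
    obtain ⟨heW, hfW, he, hf, hef⟩ := hp
    have hee : S.B e e = 0 := by rw [B_self, he, mul_zero]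
    have hff : S.B f f = 0 := by rw [B_self, hf, mul_zero]
    have hfe : S.B f e = 1 := by rw [S.B_symm, hef]
    obtain ⟨a, b, w, hw⟩ := p
    have h1 : S.B (a • e + b • f + w) f = a := by
      rw [S.B_add_left, S.B_add_left, S.B_smul_left, S.B_smul_left, hef, hff, hw.2.2]; ring
    have h2 : S.B (a • e + b • f + w) e = b := by
      rw [S.B_add_left, S.B_add_left, S.B_smul_left, S.B_smul_left, hee, hfe, hw.2.1]; ring
    apply Prod.ext
    · exact h1
    · apply Prod.ext
      · exact h2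
      · apply Subtype.ext
        show pr S e f (a • e + b • f + w) = w
        unfold pr
        rw [h1, h2, neg_smul, neg_smul]
        abel

theorem decomp_Q {W : Submodule F (ι → F)} {e f : ι → F} (hp : HP S W e f)
    (p : F × F × {w : ι → F // w ∈ perp2 S W e f}) :
    S.Q ((decompEquiv S hp).symm p).1 = p.1 * p.2.1 + S.Q p.2.2.1 :=
  Q_decomp S hp.2.2.1 hp.2.2.2.1 hp.2.2.2.2 p.1 p.2.1 p.2.2.1 p.2.2.2.2.1 p.2.2.2.2.2

end

section count
variable {ι : Type} [Fintype ι] {F : Type*} [Field F] [Fintype F] (S : QS ι F)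

theorem card_W {W : Submodule F (ι → F)} {e f : ι → F} (hp : HP S W e f) :
    Nat.card {w : ι → F // w ∈ W} =
      Fintype.card F ^ 2 * Nat.card {w : ι → F // w ∈ perp2 S W e f} := by
  rw [Nat.card_congr (decompEquiv S hp), Nat.card_prod, Nat.card_prod,
    Nat.card_eq_fintype_card (α := F)]
  ring

theorem nc_step {W : Submodule F (ι → F)} {e f : ι → F} (hp : HP S W e f) (c : F) :
    Nat.card {w : ι → F // w ∈ W ∧ S.Q w = c} =
      Fintype.card F * Nat.card {w : ι → F // w ∈ perp2 S W e f ∧ S.Q w = c} +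
        (Fintype.card F - 1) * Nat.card {w : ι → F // w ∈ perp2 S W e f} := by
  classical
  -- move to the product side
  have h1 : Nat.card {w : ι → F // w ∈ W ∧ S.Q w = c} =
      Nat.card {p : F × F × {w : ι → F // w ∈ perp2 S W e f} //
        p.1 * p.2.1 + S.Q p.2.2.1 = c} := by
    rw [← Nat.card_congr (Equiv.subtypeSubtypeEquivSubtypeInter
      (fun w : ι → F => w ∈ W) (fun w : ι → F => S.Q w = c))]
    apply Nat.card_congr
    refine Equiv.subtypeEquiv (decompEquiv S hp) ?_
    intro w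
    have h := decomp_Q S hp (decompEquiv S hp w)
    rw [Equiv.symm_apply_apply] at h
    rw [← h]
  rw [h1]
  have h2 := sum_fibers
    (fun p : {p : F × F × {w : ι → F // w ∈ perp2 S W e f} //
      p.1 * p.2.1 + S.Q p.2.2.1 = c} => p.1.1)
  rw [h2, ← Finset.add_sum_erase Finset.univ _ (Finset.mem_univ (0 : F))]
  have h0 : Nat.card {p : {p : F × F × {w : ι → F // w ∈ perp2 S W e f} //
      p.1 * p.2.1 + S.Q p.2.2.1 = c} // p.1.1 = 0} =
      Fintype.card F * Nat.card {w : ι → F // w ∈ perp2 S W e f ∧ S.Q w = c} := by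
    rw [← Nat.card_eq_fintype_card (α := F), ← Nat.card_prod]
    apply Nat.card_congr
    refine
      { toFun := fun p => (p.1.1.2.1, ⟨p.1.1.2.2.1, p.1.1.2.2.2, ?_⟩)
        invFun := fun x => ⟨⟨(0, x.1, ⟨x.2.1, x.2.2.1⟩), ?_⟩, rfl⟩
        left_inv := fun p => ?_
        right_inv := fun x => rfl }
    · have h := p.1.2
      rw [p.2, zero_mul, zero_add] at h
      exact h
    · show (0 : F) * x.1 + S.Q x.2.1 = c
      rw [zero_mul, zero_add]
      exact x.2.2.2
    · apply Subtype.ext
      apply Subtype.ext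
      apply Prod.ext
      · exact p.2.symm
      · rfl
  have h5 : ∀ a ∈ Finset.univ.erase (0 : F),
      Nat.card {p : {p : F × F × {w : ι → F // w ∈ perp2 S W e f} //
        p.1 * p.2.1 + S.Q p.2.2.1 = c} // p.1.1 = a} =
      Nat.card {w : ι → F // w ∈ perp2 S W e f} := by
    intro a ha
    have ha0 : a ≠ 0 := Finset.ne_of_mem_erase ha
    apply Nat.card_congr
    refine
      { toFun := fun p => p.1.1.2.2
        invFun := fun w => ⟨⟨(a, (c - S.Q w.1) / a, w), ?_⟩, rfl⟩
        left_inv := fun p => ?_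
        right_inv := fun w => rfl }
    · show a * ((c - S.Q w.1) / a) + S.Q w.1 = c
      field_simp
      ring
    · apply Subtype.ext
      apply Subtype.ext
      have h := p.1.2
      have hp1 : p.1.1.1 = a := p.2
      apply Prod.ext
      · exact hp1.symm
      · apply Prod.ext
        · show (c - S.Q p.1.1.2.2.1) / a = p.1.1.2.1
          have h' : a * p.1.1.2.1 + S.Q p.1.1.2.2.1 = c := by
            have := congrArg (fun x => x * p.1.1.2.1 + S.Q p.1.1.2.2.1) hp1
            exact this.symm.trans h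
          rw [div_eq_iff ha0]
          linear_combination (-1 : F) * h'
        · rfl
  rw [h0, Finset.sum_congr rfl h5, Finset.sum_const, smul_eq_mul,
    Finset.card_erase_of_mem (Finset.mem_univ _), Finset.card_univ]

end count

end Cfsg.Agent.Lib.Helper2.Quad
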