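import Mathlib
import Cfsg.Agent.Lib.Helper2.HermField
import Cfsg.Agent.Lib.Helper2.QuadFrame1

set_option autoImplicit false
set_option linter.style.haveILetI false
set_option linter.unusedSectionVars false

namespace Cfsg.Agent.Lib.Helper2.Quad

open Cfsg.Agent.Lib.Helper2.Herm

section
variable {ι : Type} [Fintype ι] {F : Type*} [Field F] [Fintype F] (S : QS ι F)

/-- nondegeneracy of the polar form on `W` -/
def ND (W : Submodule F (ι → F)) : Prop := ∀ e ∈ W, e ≠ 0 → ∃ w ∈ W, S.B w e ≠ 0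

theorem nd_step {W : Submodule F (ι → F)} {e f : ι → F} (hp : HP S W e f) (hW : ND S W) :
    ND S (perp2 S W e f) := by
  intro x hx hx0
  obtain ⟨w, hw, hwx⟩ := hW x hx.1 hx0
  refine ⟨pr S e f w, pr_mem S hp hw, ?_⟩
  unfold pr
  rw [S.B_add_left, S.B_add_left, S.B_smul_left, S.B_smul_left, S.B_symm e x, S.B_symm f x,
    hx.2.1, hx.2.2, mul_zero, mul_zero, add_zero, add_zero]
  exact hwx

theorem Q_add_smul {e : ι → F} (he : S.Q e = 0) (w : ι → F) (t : F) :
    S.Q (w + t • e) = S.Q w + t * S.B w e := by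
  rw [S.Q_add, S.Q_smul, he, B_smul_right]; ring

theorem card_f {W : Submodule F (ι → F)} (hW : ND S W) {e : ι → F} (heW : e ∈ W)
    (he : S.Q e = 0) (he0 : e ≠ 0) :
    Fintype.card F ^ 2 * Nat.card {f : ι → F // f ∈ W ∧ S.Q f = 0 ∧ S.B e f = 1} =
      Nat.card {w : ι → F // w ∈ W} := by
  obtain ⟨w1, hw1W, hw1⟩ := hW e heW he0
  have hee : S.B e e = 0 := by rw [B_self, he, mul_zero]
  have hw0W : (S.B w1 e)⁻¹ • w1 ∈ W := W.smul_mem _ hw1W
  have hw0 : S.B ((S.B w1 e)⁻¹ • w1) e = 1 := by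
    rw [S.B_smul_left, inv_mul_cancel₀ hw1]
  generalize (S.B w1 e)⁻¹ • w1 = w0 at hw0W hw0
  have h1 : Nat.card {w : ι → F // w ∈ W} =
      Fintype.card F * Nat.card {w : ι → F // w ∈ W ∧ S.B w e = 1} := by
    have h := card_fibers (fun w : {w : ι → F // w ∈ W} => S.B w.1 e)
      (Nat.card {w : ι → F // w ∈ W ∧ S.B w e = 1}) ?_
    · rw [h, Nat.card_eq_fintype_card (α := F)]
    intro l
    apply Nat.card_congr
    refine
      { toFun := fun w => ⟨w.1.1 + (1 - l) • w0, W.add_mem w.1.2 (W.smul_mem _ hw0W), ?_⟩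
        invFun := fun w => ⟨⟨w.1 + (-(1 - l)) • w0, W.add_mem w.2.1 (W.smul_mem _ hw0W)⟩, ?_⟩
        left_inv := fun w => ?_
        right_inv := fun w => ?_ }
    · rw [S.B_add_left, S.B_smul_left, hw0, w.2]; ring
    · show S.B (w.1 + (-(1 - l)) • w0) e = l
      rw [S.B_add_left, S.B_smul_left, hw0, w.2.2]; ring
    · apply Subtype.ext
      apply Subtype.ext
      show w.1.1 + (1 - l) • w0 + (-(1 - l)) • w0 = w.1.1
      rw [neg_smul, add_neg_cancel_right]
    · apply Subtype.ext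
      show w.1 + (-(1 - l)) • w0 + (1 - l) • w0 = w.1
      rw [neg_smul, neg_add_cancel_right]
  have h2 : Nat.card {w : ι → F // w ∈ W ∧ S.B w e = 1} =
      Nat.card {f : ι → F // f ∈ W ∧ S.Q f = 0 ∧ S.B e f = 1} * Fintype.card F := by
    rw [← Nat.card_eq_fintype_card (α := F), ← Nat.card_prod]
    apply Nat.card_congr
    refine
      { toFun := fun w => (⟨w.1 + (-(S.Q w.1)) • e,
          W.add_mem w.2.1 (W.smul_mem _ heW), ?_, ?_⟩, S.Q w.1)
        invFun := fun x => ⟨x.1.1 + x.2 • e, W.add_mem x.1.2.1 (W.smul_mem _ heW), ?_⟩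
        left_inv := fun w => ?_
        right_inv := fun x => ?_ }
    · rw [Q_add_smul S he, w.2.2]; ring
    · rw [B_add_right, B_smul_right, hee, S.B_symm e w.1, w.2.2]; ring
    · rw [S.B_add_left, S.B_smul_left, hee, S.B_symm x.1.1 e, x.1.2.2.2]; ring
    · apply Subtype.ext
      show w.1 + (-(S.Q w.1)) • e + S.Q w.1 • e = w.1
      rw [neg_smul, neg_add_cancel_right]
    · have hQ : S.Q (x.1.1 + x.2 • e) = x.2 := by
        rw [Q_add_smul S he, x.1.2.2.1, S.B_symm x.1.1 e, x.1.2.2.2]; ring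
      apply Prod.ext
      · apply Subtype.ext
        show x.1.1 + x.2 • e + (-(S.Q (x.1.1 + x.2 • e))) • e = x.1.1
        rw [hQ, neg_smul, add_neg_cancel_right]
      · exact hQ
  rw [h1, h2]
  ring

theorem card_pairs {W : Submodule F (ι → F)} (hW : ND S W) (s : ℕ)
    (hs : Nat.card {w : ι → F // w ∈ W} = Fintype.card F ^ 2 * s) :
    Nat.card {p : (ι → F) × (ι → F) // HP S W p.1 p.2} =
      (Nat.card {w : ι → F // w ∈ W ∧ S.Q w = 0} - 1) * s := by
  have hq2 : 0 < Fintype.card F ^ 2 := pow_pos Fintype.card_pos 2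
  have h1 : Nat.card {e : ι → F // (e ∈ W ∧ S.Q e = 0) ∧ ¬ e = 0} =
      Nat.card {w : ι → F // w ∈ W ∧ S.Q w = 0} - 1 := by
    have h := card_sub_of_imp (fun e : ι → F => e ∈ W ∧ S.Q e = 0) (fun e => e = 0)
      (by
        rintro e rfl
        exact ⟨W.zero_mem, Q_zero S⟩)
    have h3 : Nat.card {x : ι → F // x = 0} = 1 := by
      rw [Nat.card_eq_fintype_card, Fintype.card_subtype_eq]
    rw [h3] at h
    exact h
  rw [← h1]
  apply card_fibers
    (fun p : {p : (ι → F) × (ι → F) // HP S W p.1 p.2} =>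
      (⟨p.1.1, ⟨p.2.1, p.2.2.2.1⟩, by
        intro h0
        have := p.2.2.2.2.2
        rw [h0, B_zero_left] at this
        exact zero_ne_one this⟩ : {e : ι → F // (e ∈ W ∧ S.Q e = 0) ∧ ¬ e = 0}))
  intro e
  have hf := card_f S hW e.2.1.1 e.2.1.2 e.2.2
  rw [hs] at hf
  have hf' := Nat.eq_of_mul_eq_mul_left hq2 hf
  rw [← hf']
  apply Nat.card_congr
  refine
    { toFun := fun p => ⟨p.1.1.2, p.1.2.2.1, p.1.2.2.2.2.1, ?_⟩
      invFun := fun f => ⟨⟨(e.1, f.1), e.2.1.1, f.2.1, e.2.1.2, f.2.2.1, f.2.2.2⟩, rfl⟩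
      left_inv := fun p => ?_
      right_inv := fun f => rfl }
  · have h : p.1.1.1 = e.1 := congrArg Subtype.val p.2
    rw [← h]
    exact p.1.2.2.2.2.2
  · have h : p.1.1.1 = e.1 := congrArg Subtype.val p.2
    exact Subtype.ext (Subtype.ext (Prod.ext h.symm rfl))

/-- hyperbolic frames -/
def IsHF {k : ℕ} (e f : Fin k → (ι → F)) : Prop :=
  (∀ i, S.Q (e i) = 0 ∧ S.Q (f i) = 0) ∧
  (∀ i j, S.B (e i) (f j) = if i = j then 1 else 0) ∧
  (∀ i j, i ≠ j → S.B (e i) (e j) = 0 ∧ S.B (f i) (f j) = 0)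

/-- the orthogonal complement of a frame -/
def compl {k : ℕ} (e f : Fin k → (ι → F)) : Submodule F (ι → F) where
  carrier := {w | ∀ i, S.B w (e i) = 0 ∧ S.B w (f i) = 0}
  add_mem' := by
    intro a b ha hb i
    exact ⟨by rw [S.B_add_left, (ha i).1, (hb i).1, add_zero],
      by rw [S.B_add_left, (ha i).2, (hb i).2, add_zero]⟩
  zero_mem' := fun i => ⟨B_zero_left S _, B_zero_left S _⟩
  smul_mem' := by
    intro c a ha i
    exact ⟨by rw [S.B_smul_left, (ha i).1, mul_zero], by rw [S.B_smul_left, (ha i).2, mul_zero]⟩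

theorem mem_compl {k : ℕ} {e f : Fin k → (ι → F)} {w : ι → F} :
    w ∈ compl S e f ↔ ∀ i, S.B w (e i) = 0 ∧ S.B w (f i) = 0 := Iff.rfl

theorem compl_cons {k : ℕ} (e0 f0 : ι → F) (e f : Fin k → (ι → F)) :
    compl S (Fin.cons e0 e : Fin (k + 1) → (ι → F)) (Fin.cons f0 f) =
      perp2 S (compl S e f) e0 f0 := by
  ext w
  rw [mem_compl, mem_perp2, mem_compl, Fin.forall_fin_succ]
  simp only [Fin.cons_zero, Fin.cons_succ]
  constructor
  · rintro ⟨⟨h1, h2⟩, h3⟩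
    exact ⟨h3, h1, h2⟩
  · rintro ⟨h3, h1, h2⟩
    exact ⟨⟨h1, h2⟩, h3⟩

theorem isHF_tail {k : ℕ} {e f : Fin (k + 1) → (ι → F)} (h : IsHF S e f) :
    IsHF S (Fin.tail e) (Fin.tail f) := by
  refine ⟨fun i => h.1 i.succ, fun i j => ?_, fun i j hij => ?_⟩
  · have := h.2.1 i.succ j.succ
    simp only [Fin.succ_inj] at this
    exact this
  · exact h.2.2 i.succ j.succ (fun h' => hij (Fin.succ_injective _ h'))

theorem hp_head {k : ℕ} {e f : Fin (k + 1) → (ι → F)} (h : IsHF S e f) :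
    HP S (compl S (Fin.tail e) (Fin.tail f)) (e 0) (f 0) := by
  refine ⟨?_, ?_, (h.1 0).1, (h.1 0).2, ?_⟩
  · intro i
    refine ⟨(h.2.2 0 i.succ (Fin.succ_ne_zero i).symm).1, ?_⟩
    have := h.2.1 0 i.succ
    rw [if_neg (Fin.succ_ne_zero i).symm] at this
    exact this
  · intro i
    refine ⟨?_, (h.2.2 0 i.succ (Fin.succ_ne_zero i).symm).2⟩
    have := h.2.1 i.succ 0
    rw [if_neg (Fin.succ_ne_zero i)] at this
    show S.B (f 0) (e i.succ) = 0
    rw [S.B_symm]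
    exact this
  · have := h.2.1 0 0
    rw [if_pos rfl] at this
    exact this

theorem isHF_cons {k : ℕ} {e f : Fin k → (ι → F)} (h : IsHF S e f) {e0 f0 : ι → F}
    (hp : HP S (compl S e f) e0 f0) :
    IsHF S (Fin.cons e0 e : Fin (k + 1) → (ι → F)) (Fin.cons f0 f) := by
  obtain ⟨he0, hf0, hQe, hQf, hef⟩ := hp
  refine ⟨fun i => ?_, fun i j => ?_, fun i j hij => ?_⟩
  · refine Fin.cases ?_ (fun i => ?_) i
    · simp only [Fin.cons_zero]
      exact ⟨hQe, hQf⟩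
    · simp only [Fin.cons_succ]
      exact h.1 i
  · refine Fin.cases ?_ (fun i => ?_) i <;> refine Fin.cases ?_ (fun j => ?_) j
    · simp only [Fin.cons_zero, if_true]
      exact hef
    · simp only [Fin.cons_zero, Fin.cons_succ]
      rw [if_neg (Fin.succ_ne_zero j).symm]
      exact (he0 j).2
    · simp only [Fin.cons_zero, Fin.cons_succ]
      rw [if_neg (Fin.succ_ne_zero i), S.B_symm]
      exact (hf0 i).1
    · simp only [Fin.cons_succ, Fin.succ_inj]
      exact h.2.1 i j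
  · revert hij
    refine Fin.cases ?_ (fun i => ?_) i <;> refine Fin.cases ?_ (fun j => ?_) j
    · intro hij
      exact absurd rfl hij
    · intro _
      simp only [Fin.cons_zero, Fin.cons_succ]
      exact ⟨(he0 j).1, (hf0 j).2⟩
    · intro _
      simp only [Fin.cons_zero, Fin.cons_succ]
      exact ⟨by rw [S.B_symm]; exact (he0 i).1, by rw [S.B_symm]; exact (hf0 i).2⟩
    · intro hij
      simp only [Fin.cons_succ]
      exact h.2.2 i j (fun h' => hij (congrArg Fin.succ h'))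

/-- the counting data of `W` agree with the standard space of Witt index `j` -/
def QStd (r : ℕ) (Z : ℕ → ℕ) (c1 : F) (Z1 : ℕ → ℕ) (W : Submodule F (ι → F)) (j : ℕ) : Prop :=
  Nat.card {w : ι → F // w ∈ W} = Fintype.card F ^ (2 * j + r) ∧
  Nat.card {w : ι → F // w ∈ W ∧ S.Q w = 0} = Z j ∧
  Nat.card {w : ι → F // w ∈ W ∧ S.Q w = c1} = Z1 j

theorem std_step (r : ℕ) (Z : ℕ → ℕ) (c1 : F) (Z1 : ℕ → ℕ)
    (hZ : ∀ j, Z (j + 1) = Fintype.card F * Z j +
      (Fintype.card F - 1) * Fintype.card F ^ (2 * j + r))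
    (hZ0 : Z 0 = 1)
    (hZ1 : ∀ j, Z1 (j + 1) = Fintype.card F * Z1 j +
      (Fintype.card F - 1) * Fintype.card F ^ (2 * j + r))
    {W : Submodule F (ι → F)} {j' : ℕ} (hS : QStd S r Z c1 Z1 W j') {e f : ι → F}
    (hp : HP S W e f) : 1 ≤ j' ∧ QStd S r Z c1 Z1 (perp2 S W e f) (j' - 1) := by
  have hq : 0 < Fintype.card F := Fintype.card_pos
  have hq2 : 0 < Fintype.card F ^ 2 := pow_pos hq 2
  obtain ⟨hS1, hS2, hS3⟩ := hS
  have hj : 1 ≤ j' := by
    by_contra hcon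
    have h0 : j' = 0 := by omega
    rw [h0, hZ0] at hS2
    obtain ⟨hsub, -⟩ := Nat.card_eq_one_iff_unique.1 hS2
    have he0 : e = 0 := by
      have := @Subsingleton.elim _ hsub
        (⟨e, hp.1, hp.2.2.1⟩ : {w : ι → F // w ∈ W ∧ S.Q w = 0}) ⟨0, W.zero_mem, Q_zero S⟩
      exact congrArg Subtype.val this
    have := hp.2.2.2.2
    rw [he0, B_zero_left] at this
    exact zero_ne_one this
  refine ⟨hj, ?_⟩
  obtain ⟨j, rfl⟩ : ∃ j, j' = j + 1 := ⟨j' - 1, by omega⟩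
  rw [Nat.add_sub_cancel]
  have hW' : Nat.card {w : ι → F // w ∈ perp2 S W e f} = Fintype.card F ^ (2 * j + r) := by
    have h := card_W S hp
    rw [hS1] at h
    have h3 : Fintype.card F ^ 2 * Nat.card {w : ι → F // w ∈ perp2 S W e f} =
        Fintype.card F ^ 2 * Fintype.card F ^ (2 * j + r) := by
      rw [← h]; ring
    exact Nat.eq_of_mul_eq_mul_left hq2 h3
  refine ⟨hW', ?_, ?_⟩
  · have h := nc_step S hp 0
    rw [hS2, hW', hZ j] at h
    have h3 : Fintype.card F * Z j =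
        Fintype.card F * Nat.card {w : ι → F // w ∈ perp2 S W e f ∧ S.Q w = 0} := by omega
    exact (Nat.eq_of_mul_eq_mul_left hq h3).symm
  · have h := nc_step S hp c1
    rw [hS3, hW', hZ1 j] at h
    have h3 : Fintype.card F * Z1 j =
        Fintype.card F * Nat.card {w : ι → F // w ∈ perp2 S W e f ∧ S.Q w = c1} := by omega
    exact (Nat.eq_of_mul_eq_mul_left hq h3).symm

theorem std_frame (r : ℕ) (Z : ℕ → ℕ) (c1 : F) (Z1 : ℕ → ℕ)
    (hZ : ∀ j, Z (j + 1) = Fintype.card F * Z j +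
      (Fintype.card F - 1) * Fintype.card F ^ (2 * j + r))
    (hZ0 : Z 0 = 1)
    (hZ1 : ∀ j, Z1 (j + 1) = Fintype.card F * Z1 j +
      (Fintype.card F - 1) * Fintype.card F ^ (2 * j + r))
    (m : ℕ) (hV : QStd S r Z c1 Z1 ⊤ m) (hND : ND S ⊤) :
    ∀ (k : ℕ) (e f : Fin k → (ι → F)), IsHF S e f →
      k ≤ m ∧ QStd S r Z c1 Z1 (compl S e f) (m - k) ∧ ND S (compl S e f) := by
  intro k
  induction k with
  | zero =>
    intro e f _
    have h1 : compl S e f = ⊤ := by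
      ext w
      rw [mem_compl]
      exact ⟨fun _ => Submodule.mem_top, fun _ i => i.elim0⟩
    rw [h1, Nat.sub_zero]
    exact ⟨Nat.zero_le m, hV, hND⟩
  | succ k ih =>
    intro e f h
    obtain ⟨hk, hS, hN⟩ := ih (Fin.tail e) (Fin.tail f) (isHF_tail S h)
    have hp := hp_head S h
    obtain ⟨h1, h2⟩ := std_step S r Z c1 Z1 hZ hZ0 hZ1 hS hp
    have h3 : compl S e f = perp2 S (compl S (Fin.tail e) (Fin.tail f)) (e 0) (f 0) := by
      rw [← compl_cons, Fin.cons_self_tail, Fin.cons_self_tail]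
    rw [h3]
    refine ⟨by omega, ?_, nd_step S hp hN⟩
    have h4 : m - (k + 1) = m - k - 1 := by omega
    rw [h4]
    exact h2

theorem card_Fr_succ (r : ℕ) (Z : ℕ → ℕ) (c1 : F) (Z1 : ℕ → ℕ)
    (hZ : ∀ j, Z (j + 1) = Fintype.card F * Z j +
      (Fintype.card F - 1) * Fintype.card F ^ (2 * j + r))
    (hZ0 : Z 0 = 1)
    (hZ1 : ∀ j, Z1 (j + 1) = Fintype.card F * Z1 j +
      (Fintype.card F - 1) * Fintype.card F ^ (2 * j + r))
    (m : ℕ) (hV : QStd S r Z c1 Z1 ⊤ m) (hND : ND S ⊤) (k : ℕ) (hk : k < m) :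
    Nat.card {p : (Fin (k + 1) → (ι → F)) × (Fin (k + 1) → (ι → F)) // IsHF S p.1 p.2} =
      Nat.card {p : (Fin k → (ι → F)) × (Fin k → (ι → F)) // IsHF S p.1 p.2} *
        ((Z (m - k) - 1) * Fintype.card F ^ (2 * (m - k - 1) + r)) := by
  apply card_fibers
    (fun p : {p : (Fin (k + 1) → (ι → F)) × (Fin (k + 1) → (ι → F)) // IsHF S p.1 p.2} =>
      (⟨(Fin.tail p.1.1, Fin.tail p.1.2), isHF_tail S p.2⟩ :
        {p : (Fin k → (ι → F)) × (Fin k → (ι → F)) // IsHF S p.1 p.2}))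
  intro p
  obtain ⟨-, hS, hN⟩ := std_frame S r Z c1 Z1 hZ hZ0 hZ1 m hV hND k p.1.1 p.1.2 p.2
  have hs : Nat.card {w : ι → F // w ∈ compl S p.1.1 p.1.2} =
      Fintype.card F ^ 2 * Fintype.card F ^ (2 * (m - k - 1) + r) := by
    rw [hS.1, ← pow_add]
    congr 1
    omega
  have hpairs := card_pairs S hN _ hs
  rw [hS.2.1] at hpairs
  rw [← hpairs]
  apply Nat.card_congr
  refine
    { toFun := fun x => ⟨(x.1.1.1 0, x.1.1.2 0), ?_⟩
      invFun := fun y => ⟨⟨(Fin.cons y.1.1 p.1.1, Fin.cons y.1.2 p.1.2),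
        isHF_cons S p.2 y.2⟩, ?_⟩
      left_inv := fun x => ?_
      right_inv := fun y => ?_ }
  · have h1 : Fin.tail x.1.1.1 = p.1.1 := congrArg (fun z => z.1.1) x.2
    have h2 : Fin.tail x.1.1.2 = p.1.2 := congrArg (fun z => z.1.2) x.2
    have := hp_head S x.1.2
    rw [h1, h2] at this
    exact this
  · apply Subtype.ext
    apply Prod.ext
    · show Fin.tail (Fin.cons y.1.1 p.1.1 : Fin (k + 1) → (ι → F)) = p.1.1
      exact Fin.tail_cons _ _
    · show Fin.tail (Fin.cons y.1.2 p.1.2 : Fin (k + 1) → (ι → F)) = p.1.2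
      exact Fin.tail_cons _ _
  · have h1 : Fin.tail x.1.1.1 = p.1.1 := congrArg (fun z => z.1.1) x.2
    have h2 : Fin.tail x.1.1.2 = p.1.2 := congrArg (fun z => z.1.2) x.2
    apply Subtype.ext
    apply Subtype.ext
    apply Prod.ext
    · show (Fin.cons (x.1.1.1 0) p.1.1 : Fin (k + 1) → (ι → F)) = x.1.1.1
      rw [← h1]
      exact Fin.cons_self_tail _
    · show (Fin.cons (x.1.1.2 0) p.1.2 : Fin (k + 1) → (ι → F)) = x.1.1.2
      rw [← h2]
      exact Fin.cons_self_tail _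
  · apply Subtype.ext
    rfl

theorem card_Fr (r : ℕ) (Z : ℕ → ℕ) (c1 : F) (Z1 : ℕ → ℕ)
    (hZ : ∀ j, Z (j + 1) = Fintype.card F * Z j +
      (Fintype.card F - 1) * Fintype.card F ^ (2 * j + r))
    (hZ0 : Z 0 = 1)
    (hZ1 : ∀ j, Z1 (j + 1) = Fintype.card F * Z1 j +
      (Fintype.card F - 1) * Fintype.card F ^ (2 * j + r))
    (m : ℕ) (hV : QStd S r Z c1 Z1 ⊤ m) (hND : ND S ⊤) :
    ∀ k : ℕ, k ≤ m →
      Nat.card {p : (Fin k → (ι → F)) × (Fin k → (ι → F)) // IsHF S p.1 p.2} =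
        ∏ j ∈ Finset.range k,
          ((Z (m - j) - 1) * Fintype.card F ^ (2 * (m - j - 1) + r)) := by
  intro k
  induction k with
  | zero =>
    intro _
    rw [Finset.prod_range_zero]
    have h : ∀ p : (Fin 0 → (ι → F)) × (Fin 0 → (ι → F)), IsHF S p.1 p.2 := fun p =>
      ⟨fun i => i.elim0, fun i => i.elim0, fun i => i.elim0⟩
    rw [Nat.card_congr (Equiv.subtypeUnivEquiv h)]
    simp
  | succ k ih =>
    intro hk
    rw [card_Fr_succ S r Z c1 Z1 hZ hZ0 hZ1 m hV hND k (by omega), ih (by omega),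
      Finset.prod_range_succ]

end

end Cfsg.Agent.Lib.Helper2.Quad
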