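import Mathlib
import Cfsg.Agent.Lib.Helper2.HermField
import Cfsg.Agent.Lib.Helper2.QuadFrame2

set_option autoImplicit false
set_option linter.style.haveILetI false
set_option linter.unusedSectionVars false

namespace Cfsg.Agent.Lib.Helper2.Quad

open Cfsg.Agent.Lib.Helper2.Herm Matrix

section
variable {ι : Type} [Fintype ι] [DecidableEq ι] {F : Type*} [Field F] [Fintype F] (S : QS ι F)

theorem B_eq (u v : ι → F) : S.B u v = S.Q (u + v) - S.Q u - S.Q v := by
  rw [S.Q_add]; ring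

theorem B_pres (M : Matrix ι ι F) (hM : ∀ u, S.Q (M *ᵥ u) = S.Q u) (u v : ι → F) :
    S.B (M *ᵥ u) (M *ᵥ v) = S.B u v := by
  rw [B_eq, B_eq, ← Matrix.mulVec_add, hM, hM, hM]

theorem isUnit_of_pres (hND : ND S ⊤) (M : Matrix ι ι F)
    (hM : ∀ u, S.Q (M *ᵥ u) = S.Q u) : IsUnit M := by
  rw [← Matrix.mulVec_injective_iff_isUnit]
  intro x y hxy
  have hxy' : M *ᵥ x = M *ᵥ y := hxy
  by_contra hne
  have hd : x - y ≠ 0 := sub_ne_zero.2 hne
  obtain ⟨w, -, hw⟩ := hND (x - y) Submodule.mem_top hd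
  apply hw
  rw [← B_pres S M hM, Matrix.mulVec_sub, hxy', sub_self, S.B_symm, B_zero_left]

/-- the form along a hyperbolic frame -/
theorem Q_frame : ∀ (k : ℕ) (e f : Fin k → (ι → F)), IsHF S e f →
    ∀ (a b : Fin k → F) (w : ι → F), w ∈ compl S e f →
      S.Q ((∑ i, (a i • e i + b i • f i)) + w) = (∑ i, a i * b i) + S.Q w := by
  intro k
  induction k with
  | zero =>
    intro e f _ a b w _
    simp
  | succ k ih =>
    intro e f h a b w hw
    have hp := hp_head S h
    have hw' : a 0 • e 0 + b 0 • f 0 + w ∈ compl S (Fin.tail e) (Fin.tail f) := by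
      refine Submodule.add_mem _ (Submodule.add_mem _ (Submodule.smul_mem _ _ hp.1)
        (Submodule.smul_mem _ _ hp.2.1)) ?_
      intro i
      exact hw i.succ
    have h1 := ih (Fin.tail e) (Fin.tail f) (isHF_tail S h) (Fin.tail a) (Fin.tail b) _ hw'
    rw [Fin.sum_univ_succ, Fin.sum_univ_succ]
    have h2 : a 0 • e 0 + b 0 • f 0 + ∑ i : Fin k, (a i.succ • e i.succ + b i.succ • f i.succ) + w =
        (∑ i : Fin k, (Fin.tail a i • Fin.tail e i + Fin.tail b i • Fin.tail f i)) +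
          (a 0 • e 0 + b 0 • f 0 + w) := by
      show _ = (∑ i : Fin k, (a i.succ • e i.succ + b i.succ • f i.succ)) + _
      abel
    rw [h2, h1, Q_decomp S hp.2.2.1 hp.2.2.2.1 hp.2.2.2.2 (a 0) (b 0) w (hw 0).1 (hw 0).2]
    show (∑ i : Fin k, a i.succ * b i.succ) + (a 0 * b 0 + S.Q w) = _
    ring

end

end Cfsg.Agent.Lib.Helper2.Quad
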