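import Mathlib
import Cfsg.Prelude.Def_Classical
import Cfsg.Agent.Lib.Helper1.CountForms
import Cfsg.Agent.Lib.Helper2.HermField
import Cfsg.Agent.Lib.Helper2.QuadFrame3
import Cfsg.Agent.Lib.Helper2.QuadExt

set_option autoImplicit false
set_option linter.style.haveILetI false
set_option linter.unusedSectionVars false
set_option linter.unnecessarySeqFocus false

namespace Cfsg.Agent.Lib.Helper2.Quad

open Cfsg.Agent.Lib.Helper2.Herm Cfsg.Agent.Lib.Helper1 Matrix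

/-- the minus-type form with its polar form -/
def minusQS (k : ℕ) (F : Type*) [Field F] (a b : F) : QS ((Fin k ⊕ Fin k) ⊕ Fin 2) F where
  Q := Cfsg.quadFormMinus k F a b
  B := fun u v =>
    (∑ i : Fin k, (u (.inl (.inl i)) * v (.inl (.inr i)) + u (.inl (.inr i)) * v (.inl (.inl i)))) +
    (2 * u (.inr 0) * v (.inr 0) + a * (u (.inr 0) * v (.inr 1) + u (.inr 1) * v (.inr 0)) +
      2 * b * u (.inr 1) * v (.inr 1))
  B_add_left := by
    intro u v w
    have hs : ∑ i : Fin k, ((u + v) (.inl (.inl i)) * w (.inl (.inr i)) +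
        (u + v) (.inl (.inr i)) * w (.inl (.inl i))) =
        ∑ i : Fin k, (u (.inl (.inl i)) * w (.inl (.inr i)) + u (.inl (.inr i)) * w (.inl (.inl i))) +
        ∑ i : Fin k, (v (.inl (.inl i)) * w (.inl (.inr i)) + v (.inl (.inr i)) * w (.inl (.inl i))) := by
      rw [← Finset.sum_add_distrib]
      apply Finset.sum_congr rfl
      intro i _
      simp only [Pi.add_apply]
      ring
    rw [hs]
    simp only [Pi.add_apply]
    ring
  B_smul_left := by
    intro c u w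
    have hs : ∑ i : Fin k, ((c • u) (.inl (.inl i)) * w (.inl (.inr i)) +
        (c • u) (.inl (.inr i)) * w (.inl (.inl i))) =
        c * ∑ i : Fin k, (u (.inl (.inl i)) * w (.inl (.inr i)) +
          u (.inl (.inr i)) * w (.inl (.inl i))) := by
      rw [Finset.mul_sum]
      apply Finset.sum_congr rfl
      intro i _
      simp only [Pi.smul_apply, smul_eq_mul]
      ring
    rw [hs]
    simp only [Pi.smul_apply, smul_eq_mul]
    ring
  B_symm := by
    intro u v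
    have hs : ∑ i : Fin k, (u (.inl (.inl i)) * v (.inl (.inr i)) +
        u (.inl (.inr i)) * v (.inl (.inl i))) =
        ∑ i : Fin k, (v (.inl (.inl i)) * u (.inl (.inr i)) +
          v (.inl (.inr i)) * u (.inl (.inl i))) := by
      apply Finset.sum_congr rfl
      intro i _
      ring
    rw [hs]
    ring
  Q_add := by
    intro u v
    unfold Cfsg.quadFormMinus
    have hs : ∑ i : Fin k, (u + v) (.inl (.inl i)) * (u + v) (.inl (.inr i)) =
        ∑ i : Fin k, u (.inl (.inl i)) * u (.inl (.inr i)) +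
        ∑ i : Fin k, v (.inl (.inl i)) * v (.inl (.inr i)) +
        ∑ i : Fin k, (u (.inl (.inl i)) * v (.inl (.inr i)) +
          u (.inl (.inr i)) * v (.inl (.inl i))) := by
      rw [← Finset.sum_add_distrib, ← Finset.sum_add_distrib]
      apply Finset.sum_congr rfl
      intro i _
      simp only [Pi.add_apply]
      ring
    rw [hs]
    simp only [Pi.add_apply]
    ring
  Q_smul := by
    intro c u
    unfold Cfsg.quadFormMinus
    have hs : ∑ i : Fin k, (c • u) (.inl (.inl i)) * (c • u) (.inl (.inr i)) =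
        c ^ 2 * ∑ i : Fin k, u (.inl (.inl i)) * u (.inl (.inr i)) := by
      rw [Finset.mul_sum]
      apply Finset.sum_congr rfl
      intro i _
      simp only [Pi.smul_apply, smul_eq_mul]
      ring
    rw [hs]
    simp only [Pi.smul_apply, smul_eq_mul]
    ring

section
variable {F : Type*} [Field F] [Fintype F]

theorem minusQS_Q (k : ℕ) (a b : F) (u : (Fin k ⊕ Fin k) ⊕ Fin 2 → F) :
    (minusQS k F a b).Q u = (∑ i : Fin k, u (.inl (.inl i)) * u (.inl (.inr i))) +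
      (u (.inr 0) ^ 2 + a * u (.inr 0) * u (.inr 1) + b * u (.inr 1) ^ 2) := rfl

theorem minusQS_B (k : ℕ) (a b : F) (u v : (Fin k ⊕ Fin k) ⊕ Fin 2 → F) :
    (minusQS k F a b).B u v =
    (∑ i : Fin k, (u (.inl (.inl i)) * v (.inl (.inr i)) + u (.inl (.inr i)) * v (.inl (.inl i)))) +
    (2 * u (.inr 0) * v (.inr 0) + a * (u (.inr 0) * v (.inr 1) + u (.inr 1) * v (.inr 0)) +
      2 * b * u (.inr 1) * v (.inr 1)) := rfl

theorem minus_B_single_x (k : ℕ) (a b : F) (i : Fin k) (v : (Fin k ⊕ Fin k) ⊕ Fin 2 → F) :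
    (minusQS k F a b).B (Pi.single (Sum.inl (Sum.inl i)) 1) v = v (Sum.inl (Sum.inr i)) := by
  have e0 : (Pi.single (Sum.inl (Sum.inl i)) (1 : F) : (Fin k ⊕ Fin k) ⊕ Fin 2 → F)
      (Sum.inr 0) = 0 := Pi.single_eq_of_ne (by simp) _
  have e0' : (Pi.single (Sum.inl (Sum.inl i)) (1 : F) : (Fin k ⊕ Fin k) ⊕ Fin 2 → F)
      (Sum.inr 1) = 0 := Pi.single_eq_of_ne (by simp) _
  rw [minusQS_B, e0, e0', Finset.sum_eq_single i]
  · have e1 : (Pi.single (Sum.inl (Sum.inl i)) (1 : F) : (Fin k ⊕ Fin k) ⊕ Fin 2 → F)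
        (Sum.inl (Sum.inl i)) = 1 := Pi.single_eq_same _ _
    have e2 : (Pi.single (Sum.inl (Sum.inl i)) (1 : F) : (Fin k ⊕ Fin k) ⊕ Fin 2 → F)
        (Sum.inl (Sum.inr i)) = 0 := Pi.single_eq_of_ne (by simp) _
    rw [e1, e2]; ring
  · intro j _ hj
    have e1 : (Pi.single (Sum.inl (Sum.inl i)) (1 : F) : (Fin k ⊕ Fin k) ⊕ Fin 2 → F)
        (Sum.inl (Sum.inl j)) = 0 := Pi.single_eq_of_ne (by simpa using hj) _
    have e2 : (Pi.single (Sum.inl (Sum.inl i)) (1 : F) : (Fin k ⊕ Fin k) ⊕ Fin 2 → F)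
        (Sum.inl (Sum.inr j)) = 0 := Pi.single_eq_of_ne (by simp) _
    rw [e1, e2]; ring
  · intro h
    exact absurd (Finset.mem_univ i) h

theorem minus_B_single_y (k : ℕ) (a b : F) (i : Fin k) (v : (Fin k ⊕ Fin k) ⊕ Fin 2 → F) :
    (minusQS k F a b).B (Pi.single (Sum.inl (Sum.inr i)) 1) v = v (Sum.inl (Sum.inl i)) := by
  have e0 : (Pi.single (Sum.inl (Sum.inr i)) (1 : F) : (Fin k ⊕ Fin k) ⊕ Fin 2 → F)
      (Sum.inr 0) = 0 := Pi.single_eq_of_ne (by simp) _
  have e0' : (Pi.single (Sum.inl (Sum.inr i)) (1 : F) : (Fin k ⊕ Fin k) ⊕ Fin 2 → F)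
      (Sum.inr 1) = 0 := Pi.single_eq_of_ne (by simp) _
  rw [minusQS_B, e0, e0', Finset.sum_eq_single i]
  · have e1 : (Pi.single (Sum.inl (Sum.inr i)) (1 : F) : (Fin k ⊕ Fin k) ⊕ Fin 2 → F)
        (Sum.inl (Sum.inr i)) = 1 := Pi.single_eq_same _ _
    have e2 : (Pi.single (Sum.inl (Sum.inr i)) (1 : F) : (Fin k ⊕ Fin k) ⊕ Fin 2 → F)
        (Sum.inl (Sum.inl i)) = 0 := Pi.single_eq_of_ne (by simp) _
    rw [e1, e2]; ring
  · intro j _ hj
    have e1 : (Pi.single (Sum.inl (Sum.inr i)) (1 : F) : (Fin k ⊕ Fin k) ⊕ Fin 2 → F)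
        (Sum.inl (Sum.inr j)) = 0 := Pi.single_eq_of_ne (by simpa using hj) _
    have e2 : (Pi.single (Sum.inl (Sum.inr i)) (1 : F) : (Fin k ⊕ Fin k) ⊕ Fin 2 → F)
        (Sum.inl (Sum.inl j)) = 0 := Pi.single_eq_of_ne (by simp) _
    rw [e1, e2]; ring
  · intro h
    exact absurd (Finset.mem_univ i) h

theorem minus_B_single_0 (k : ℕ) (a b : F) (v : (Fin k ⊕ Fin k) ⊕ Fin 2 → F) :
    (minusQS k F a b).B (Pi.single (Sum.inr 0) 1) v = 2 * v (Sum.inr 0) + a * v (Sum.inr 1) := by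
  have e0 : (Pi.single (Sum.inr 0) (1 : F) : (Fin k ⊕ Fin k) ⊕ Fin 2 → F)
      (Sum.inr 0) = 1 := Pi.single_eq_same _ _
  have e0' : (Pi.single (Sum.inr 0) (1 : F) : (Fin k ⊕ Fin k) ⊕ Fin 2 → F)
      (Sum.inr 1) = 0 := Pi.single_eq_of_ne (by simp) _
  rw [minusQS_B, e0, e0', Finset.sum_eq_zero]
  · ring
  · intro j _
    have e1 : (Pi.single (Sum.inr 0) (1 : F) : (Fin k ⊕ Fin k) ⊕ Fin 2 → F)
        (Sum.inl (Sum.inl j)) = 0 := Pi.single_eq_of_ne (by simp) _
    have e2 : (Pi.single (Sum.inr 0) (1 : F) : (Fin k ⊕ Fin k) ⊕ Fin 2 → F)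
        (Sum.inl (Sum.inr j)) = 0 := Pi.single_eq_of_ne (by simp) _
    rw [e1, e2]; ring

theorem minus_B_single_1 (k : ℕ) (a b : F) (v : (Fin k ⊕ Fin k) ⊕ Fin 2 → F) :
    (minusQS k F a b).B (Pi.single (Sum.inr 1) 1) v =
      a * v (Sum.inr 0) + 2 * b * v (Sum.inr 1) := by
  have e0 : (Pi.single (Sum.inr 1) (1 : F) : (Fin k ⊕ Fin k) ⊕ Fin 2 → F)
      (Sum.inr 0) = 0 := Pi.single_eq_of_ne (by simp) _
  have e0' : (Pi.single (Sum.inr 1) (1 : F) : (Fin k ⊕ Fin k) ⊕ Fin 2 → F)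
      (Sum.inr 1) = 1 := Pi.single_eq_same _ _
  rw [minusQS_B, e0, e0', Finset.sum_eq_zero]
  · ring
  · intro j _
    have e1 : (Pi.single (Sum.inr 1) (1 : F) : (Fin k ⊕ Fin k) ⊕ Fin 2 → F)
        (Sum.inl (Sum.inl j)) = 0 := Pi.single_eq_of_ne (by simp) _
    have e2 : (Pi.single (Sum.inr 1) (1 : F) : (Fin k ⊕ Fin k) ⊕ Fin 2 → F)
        (Sum.inl (Sum.inr j)) = 0 := Pi.single_eq_of_ne (by simp) _
    rw [e1, e2]; ring

theorem aniso_disc {a b : F} (hab : Aniso a b) : a ^ 2 - 4 * b ≠ 0 := by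
  intro h
  have h1 := hab a (-2) (by linear_combination (-1 : F) * h)
  apply aniso_char hab
  exact ⟨neg_eq_zero.1 h1.2, h1.1⟩

theorem minus_ND (k : ℕ) {a b : F} (hab : Aniso a b) : ND (minusQS k F a b) ⊤ := by
  intro e _ he0
  obtain ⟨t, ht⟩ := Function.ne_iff.1 he0
  rcases t with (i | i) | j
  · refine ⟨Pi.single (Sum.inl (Sum.inr i)) 1, Submodule.mem_top, ?_⟩
    rw [minus_B_single_y]
    exact ht
  · refine ⟨Pi.single (Sum.inl (Sum.inl i)) 1, Submodule.mem_top, ?_⟩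
    rw [minus_B_single_x]
    exact ht
  · by_contra hcon
    push Not at hcon
    have h0 := hcon (Pi.single (Sum.inr 0) 1) Submodule.mem_top
    have h1 := hcon (Pi.single (Sum.inr 1) 1) Submodule.mem_top
    rw [minus_B_single_0] at h0
    rw [minus_B_single_1] at h1
    have hd := aniso_disc hab
    have hz0 : e (Sum.inr 0) = 0 := by
      have : (a ^ 2 - 4 * b) * e (Sum.inr 0) = 0 := by
        linear_combination a * h1 - 2 * b * h0
      rcases mul_eq_zero.1 this with h | h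
      · exact absurd h hd
      · exact h
    have hz1 : e (Sum.inr 1) = 0 := by
      have : (a ^ 2 - 4 * b) * e (Sum.inr 1) = 0 := by
        linear_combination a * h0 - 2 * h1
      rcases mul_eq_zero.1 this with h | h
      · exact absurd h hd
      · exact h
    fin_cases j
    · exact ht hz0
    · exact ht hz1

theorem minus_Q_single_x (k : ℕ) (a b : F) (i : Fin k) :
    (minusQS k F a b).Q (Pi.single (Sum.inl (Sum.inl i)) 1) = 0 := by
  rw [minusQS_Q]
  have e0 : (Pi.single (Sum.inl (Sum.inl i)) (1 : F) : (Fin k ⊕ Fin k) ⊕ Fin 2 → F)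
      (Sum.inr 0) = 0 := Pi.single_eq_of_ne (by simp) _
  have e0' : (Pi.single (Sum.inl (Sum.inl i)) (1 : F) : (Fin k ⊕ Fin k) ⊕ Fin 2 → F)
      (Sum.inr 1) = 0 := Pi.single_eq_of_ne (by simp) _
  rw [e0, e0', Finset.sum_eq_zero]
  · ring
  · intro j _
    have e3 : (Pi.single (Sum.inl (Sum.inl i)) (1 : F) : (Fin k ⊕ Fin k) ⊕ Fin 2 → F)
        (Sum.inl (Sum.inr j)) = 0 := Pi.single_eq_of_ne (by simp) _
    rw [e3, mul_zero]

theorem minus_Q_single_y (k : ℕ) (a b : F) (i : Fin k) :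
    (minusQS k F a b).Q (Pi.single (Sum.inl (Sum.inr i)) 1) = 0 := by
  rw [minusQS_Q]
  have e0 : (Pi.single (Sum.inl (Sum.inr i)) (1 : F) : (Fin k ⊕ Fin k) ⊕ Fin 2 → F)
      (Sum.inr 0) = 0 := Pi.single_eq_of_ne (by simp) _
  have e0' : (Pi.single (Sum.inl (Sum.inr i)) (1 : F) : (Fin k ⊕ Fin k) ⊕ Fin 2 → F)
      (Sum.inr 1) = 0 := Pi.single_eq_of_ne (by simp) _
  rw [e0, e0', Finset.sum_eq_zero]
  · ring
  · intro j _
    have e3 : (Pi.single (Sum.inl (Sum.inr i)) (1 : F) : (Fin k ⊕ Fin k) ⊕ Fin 2 → F)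
        (Sum.inl (Sum.inl j)) = 0 := Pi.single_eq_of_ne (by simp) _
    rw [e3, zero_mul]

theorem minus_Q_single_0 (k : ℕ) (a b : F) :
    (minusQS k F a b).Q (Pi.single (Sum.inr 0) 1) = 1 := by
  rw [minusQS_Q]
  have e0 : (Pi.single (Sum.inr 0) (1 : F) : (Fin k ⊕ Fin k) ⊕ Fin 2 → F)
      (Sum.inr 0) = 1 := Pi.single_eq_same _ _
  have e0' : (Pi.single (Sum.inr 0) (1 : F) : (Fin k ⊕ Fin k) ⊕ Fin 2 → F)
      (Sum.inr 1) = 0 := Pi.single_eq_of_ne (by simp) _
  rw [e0, e0', Finset.sum_eq_zero]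
  · ring
  · intro j _
    have e3 : (Pi.single (Sum.inr 0) (1 : F) : (Fin k ⊕ Fin k) ⊕ Fin 2 → F)
        (Sum.inl (Sum.inl j)) = 0 := Pi.single_eq_of_ne (by simp) _
    rw [e3, zero_mul]

theorem minus_Q_single_1 (k : ℕ) (a b : F) :
    (minusQS k F a b).Q (Pi.single (Sum.inr 1) 1) = b := by
  rw [minusQS_Q]
  have e0 : (Pi.single (Sum.inr 1) (1 : F) : (Fin k ⊕ Fin k) ⊕ Fin 2 → F)
      (Sum.inr 0) = 0 := Pi.single_eq_of_ne (by simp) _
  have e0' : (Pi.single (Sum.inr 1) (1 : F) : (Fin k ⊕ Fin k) ⊕ Fin 2 → F)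
      (Sum.inr 1) = 1 := Pi.single_eq_same _ _
  rw [e0, e0', Finset.sum_eq_zero]
  · ring
  · intro j _
    have e3 : (Pi.single (Sum.inr 1) (1 : F) : (Fin k ⊕ Fin k) ⊕ Fin 2 → F)
        (Sum.inl (Sum.inl j)) = 0 := Pi.single_eq_of_ne (by simp) _
    rw [e3, zero_mul]

/-- the standard hyperbolic frame -/
theorem minus_std_frame (k : ℕ) (a b : F) :
    IsHF (minusQS k F a b)
      (fun i : Fin k => (Pi.single (Sum.inl (Sum.inl i)) 1 : (Fin k ⊕ Fin k) ⊕ Fin 2 → F))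
      (fun i : Fin k => (Pi.single (Sum.inl (Sum.inr i)) 1 : (Fin k ⊕ Fin k) ⊕ Fin 2 → F)) := by
  refine ⟨fun i => ⟨minus_Q_single_x k a b i, minus_Q_single_y k a b i⟩, fun i j => ?_,
    fun i j hij => ⟨?_, ?_⟩⟩
  · show (minusQS k F a b).B (Pi.single (Sum.inl (Sum.inl i)) 1)
      (Pi.single (Sum.inl (Sum.inr j)) 1) = _
    rw [minus_B_single_x]
    by_cases hij : i = j
    · rw [if_pos hij, hij]
      exact Pi.single_eq_same _ _
    · rw [if_neg hij]
      exact Pi.single_eq_of_ne (by simpa using hij) _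
  · show (minusQS k F a b).B (Pi.single (Sum.inl (Sum.inl i)) 1)
      (Pi.single (Sum.inl (Sum.inl j)) 1) = 0
    rw [minus_B_single_x]
    exact Pi.single_eq_of_ne (by simp) _
  · show (minusQS k F a b).B (Pi.single (Sum.inl (Sum.inr i)) 1)
      (Pi.single (Sum.inl (Sum.inr j)) 1) = 0
    rw [minus_B_single_y]
    exact Pi.single_eq_of_ne (by simp) _

/-- number of solutions of `N z = c` as a filter cardinality -/
theorem filter_card [DecidableEq F] {a b : F} (hab : Aniso a b) (c : F) :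
    (Finset.univ.filter (fun z : Fin 2 → F =>
      c - (z 0 ^ 2 + a * z 0 * z 1 + b * z 1 ^ 2) = 0)).card =
      if c = 0 then 1 else Fintype.card F + 1 := by
  by_cases hc : c = 0
  · rw [if_pos hc, hc, Finset.card_eq_one]
    refine ⟨0, ?_⟩
    ext z
    simp only [Finset.mem_filter, Finset.mem_univ, true_and, Finset.mem_singleton, zero_sub,
      neg_eq_zero]
    constructor
    · intro h
      obtain ⟨h0, h1⟩ := hab _ _ h
      funext j
      fin_cases j
      · exact h0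
      · exact h1
    · intro h
      rw [h]
      simp
  · rw [if_neg hc]
    have h1 : Finset.univ.filter (fun z : Fin 2 → F =>
        c - (z 0 ^ 2 + a * z 0 * z 1 + b * z 1 ^ 2) = 0) =
        Finset.univ.filter (fun z : Fin 2 → F => z 0 ^ 2 + a * z 0 * z 1 + b * z 1 ^ 2 = c) := by
      ext z
      simp only [Finset.mem_filter, Finset.mem_univ, true_and]
      exact ⟨fun h => (sub_eq_zero.1 h).symm, fun h => sub_eq_zero.2 h.symm⟩
    rw [h1, ← Fintype.card_subtype, ← Nat.card_eq_fintype_card, card_norm_fin hab c hc]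

theorem card_minus_zero [DecidableEq F] (a b c : F) :
    Nat.card {v : (Fin 0 ⊕ Fin 0) ⊕ Fin 2 → F // (minusQS 0 F a b).Q v = c} =
      (Finset.univ.filter (fun z : Fin 2 → F =>
        c - (z 0 ^ 2 + a * z 0 * z 1 + b * z 1 ^ 2) = 0)).card := by
  let e : {v : (Fin 0 ⊕ Fin 0) ⊕ Fin 2 → F // (minusQS 0 F a b).Q v = c} ≃
      (Σ z : Fin 2 → F, {p : (Fin 0 → F) × (Fin 0 → F) // ∑ i, p.1 i * p.2 i =
        c - (z 0 ^ 2 + a * z 0 * z 1 + b * z 1 ^ 2)}) :=
    { toFun := fun v => ⟨fun j => v.1 (Sum.inr j), ⟨(fun i => v.1 (Sum.inl (Sum.inl i)),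
        fun i => v.1 (Sum.inl (Sum.inr i))), eq_sub_of_add_eq v.2⟩⟩
      invFun := fun s => ⟨Sum.elim (Sum.elim s.2.1.1 s.2.1.2) s.1, by
        have := s.2.2
        show ∑ i, s.2.1.1 i * s.2.1.2 i + (s.1 0 ^ 2 + a * s.1 0 * s.1 1 + b * s.1 1 ^ 2) = c
        rw [this]; ring⟩
      left_inv := fun v => by
        apply Subtype.ext
        funext x
        rcases x with (x | x) | x <;> rfl
      right_inv := fun s => rfl }
  rw [Nat.card_congr e, card_sigma_pairs_zero]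

theorem card_minus_succ [DecidableEq F] (k : ℕ) (a b c : F) :
    Nat.card {v : (Fin (k + 1) ⊕ Fin (k + 1)) ⊕ Fin 2 → F // (minusQS (k + 1) F a b).Q v = c} =
      (Finset.univ.filter (fun z : Fin 2 → F =>
        c - (z 0 ^ 2 + a * z 0 * z 1 + b * z 1 ^ 2) = 0)).card * Fintype.card F ^ (k + 1) +
        Fintype.card (Fin 2 → F) * ((Fintype.card F ^ (k + 1) - 1) * Fintype.card F ^ k) := by
  let e : {v : (Fin (k + 1) ⊕ Fin (k + 1)) ⊕ Fin 2 → F // (minusQS (k + 1) F a b).Q v = c} ≃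
      (Σ z : Fin 2 → F, {p : (Fin (k + 1) → F) × (Fin (k + 1) → F) // ∑ i, p.1 i * p.2 i =
        c - (z 0 ^ 2 + a * z 0 * z 1 + b * z 1 ^ 2)}) :=
    { toFun := fun v => ⟨fun j => v.1 (Sum.inr j), ⟨(fun i => v.1 (Sum.inl (Sum.inl i)),
        fun i => v.1 (Sum.inl (Sum.inr i))), eq_sub_of_add_eq v.2⟩⟩
      invFun := fun s => ⟨Sum.elim (Sum.elim s.2.1.1 s.2.1.2) s.1, by
        have := s.2.2
        show ∑ i, s.2.1.1 i * s.2.1.2 i + (s.1 0 ^ 2 + a * s.1 0 * s.1 1 + b * s.1 1 ^ 2) = c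
        rw [this]; ring⟩
      left_inv := fun v => by
        apply Subtype.ext
        funext x
        rcases x with (x | x) | x <;> rfl
      right_inv := fun s => rfl }
  rw [Nat.card_congr e, card_sigma_pairs]

/-- zero count of the minus form -/
def Zm (q : ℕ) : ℕ → ℕ
  | 0 => 1
  | (j + 1) => q * Zm q j + (q - 1) * q ^ (2 * j + 2)

theorem Zm_succ (q j : ℕ) : Zm q (j + 1) = q * Zm q j + (q - 1) * q ^ (2 * j + 2) := by
  rw [Zm]

theorem Zm_add (q : ℕ) (hq : 0 < q) : ∀ j, Zm q j + q ^ (j + 1) = q ^ (2 * j + 1) + q ^ j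
  | 0 => by simp [Zm]; ring
  | (j + 1) => by
    have ih := Zm_add q hq j
    obtain ⟨s, rfl⟩ : ∃ s, q = s + 1 := ⟨q - 1, by omega⟩
    rw [Zm_succ, Nat.add_sub_cancel]
    zify at ih ⊢
    linear_combination ((s : ℤ) + 1) * ih

theorem Z1m_succ (q : ℕ) (hq : 0 < q) (j : ℕ) :
    q ^ (2 * (j + 1) + 1) + q ^ (j + 1) =
      q * (q ^ (2 * j + 1) + q ^ j) + (q - 1) * q ^ (2 * j + 2) := by
  obtain ⟨s, rfl⟩ : ∃ s, q = s + 1 := ⟨q - 1, by omega⟩
  rw [Nat.add_sub_cancel]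
  ring

theorem pow_key (q : ℕ) (hq : 0 < q) (j : ℕ) :
    q ^ 2 * ((q ^ (j + 1) - 1) * q ^ j) + q ^ (j + 2) = q ^ (2 * (j + 1) + 1) := by
  obtain ⟨t, ht⟩ : ∃ t, q ^ (j + 1) = t + 1 :=
    ⟨q ^ (j + 1) - 1, by have := Nat.one_le_pow (j + 1) q hq; omega⟩
  have e1 : q ^ (2 * (j + 1) + 1) = q ^ 2 * q ^ j * q ^ (j + 1) := by ring
  rw [e1, ht, Nat.add_sub_cancel]
  ring

theorem minus_QStd (k : ℕ) {a b : F} (hab : Aniso a b) :
    QStd (minusQS k F a b) 2 (Zm (Fintype.card F)) 1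
      (fun j => Fintype.card F ^ (2 * j + 1) + Fintype.card F ^ j) ⊤ k := by
  classical
  have hq : 0 < Fintype.card F := Fintype.card_pos
  have htop : ∀ c : F, Nat.card {w : (Fin k ⊕ Fin k) ⊕ Fin 2 → F //
      w ∈ (⊤ : Submodule F ((Fin k ⊕ Fin k) ⊕ Fin 2 → F)) ∧ (minusQS k F a b).Q w = c} =
      Nat.card {w : (Fin k ⊕ Fin k) ⊕ Fin 2 → F // (minusQS k F a b).Q w = c} := fun c =>
    Nat.card_congr (Equiv.subtypeEquivRight
      (fun _ => ⟨fun h => h.2, fun h => ⟨Submodule.mem_top, h⟩⟩))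
  have hT : Fintype.card (Fin 2 → F) = Fintype.card F ^ 2 := by
    rw [Fintype.card_fun, Fintype.card_fin]
  refine ⟨?_, ?_, ?_⟩
  · rw [Nat.card_congr (Equiv.subtypeUnivEquiv (fun _ => Submodule.mem_top)),
      Nat.card_eq_fintype_card, Fintype.card_fun, Fintype.card_sum, Fintype.card_sum,
      Fintype.card_fin, Fintype.card_fin]
    congr 1
    omega
  · rw [htop]
    rcases k with _ | j
    · rw [card_minus_zero, filter_card hab, if_pos rfl]
      rfl
    · rw [card_minus_succ, filter_card hab, if_pos rfl, hT, one_mul]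
      have h1 := Zm_add (Fintype.card F) hq (j + 1)
      have h2 := pow_key (Fintype.card F) hq j
      have h3 : j + 1 + 1 = j + 2 := rfl
      rw [h3] at h1
      omega
  · rw [htop]
    rcases k with _ | j
    · rw [card_minus_zero, filter_card hab, if_neg one_ne_zero]
      simp
    · rw [card_minus_succ, filter_card hab, if_neg one_ne_zero, hT]
      have h2 := pow_key (Fintype.card F) hq j
      have e : (Fintype.card F + 1) * Fintype.card F ^ (j + 1) =
          Fintype.card F ^ (j + 2) + Fintype.card F ^ (j + 1) := by ring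
      show _ = Fintype.card F ^ (2 * (j + 1) + 1) + Fintype.card F ^ (j + 1)
      rw [e]
      omega

end

end Cfsg.Agent.Lib.Helper2.Quad
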