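import Mathlib
import Cfsg.Prelude.Def_Classical
import Cfsg.Agent.Lib.Helper2.HermField
import Cfsg.Agent.Lib.Helper2.QuadFrame3
import Cfsg.Agent.Lib.Helper2.QuadExt
import Cfsg.Agent.Lib.Helper2.QuadMinus

set_option autoImplicit false
set_option linter.style.haveILetI false
set_option linter.unusedSectionVars false
set_option linter.unnecessarySeqFocus false

namespace Cfsg.Agent.Lib.Helper2.Quad

open Cfsg.Agent.Lib.Helper2.Herm Matrix

section
variable {ι : Type} [Fintype ι] [DecidableEq ι] {F : Type*} [Field F] [Fintype F] (S : QS ι F)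

theorem Q_pair (u v : ι → F) (x y : F) :
    S.Q (x • u + y • v) = x ^ 2 * S.Q u + y ^ 2 * S.Q v + x * y * S.B u v := by
  rw [S.Q_add, S.Q_smul, S.Q_smul, S.B_smul_left, B_smul_right]
  ring

/-- pairs spanning an anisotropic plane isometric to the standard one -/
theorem card_pairs_W {a b : F} (hab : Aniso a b) (W : Submodule F (ι → F))
    (h2 : Nat.card {w : ι → F // w ∈ W} = Fintype.card F ^ 2)
    (h0 : Nat.card {w : ι → F // w ∈ W ∧ S.Q w = 0} = 1)
    (h1 : Nat.card {w : ι → F // w ∈ W ∧ S.Q w = 1} = Fintype.card F + 1) :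
    Nat.card {p : (ι → F) × (ι → F) // (p.1 ∈ W ∧ p.2 ∈ W) ∧
      S.Q p.1 = 1 ∧ S.Q p.2 = b ∧ S.B p.1 p.2 = a} = (Fintype.card F + 1) * 2 := by
  classical
  have hq : 1 < Fintype.card F := Fintype.one_lt_card
  have hz : ∀ w ∈ W, S.Q w = 0 → w = 0 := by
    intro w hw hQ
    obtain ⟨hsub, -⟩ := Nat.card_eq_one_iff_unique.1 h0
    have := @Subsingleton.elim _ hsub
      (⟨w, hw, hQ⟩ : {w : ι → F // w ∈ W ∧ S.Q w = 0}) ⟨0, W.zero_mem, Q_zero S⟩
    exact congrArg Subtype.val this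
  rw [← h1]
  apply card_fibers
    (fun p : {p : (ι → F) × (ι → F) // (p.1 ∈ W ∧ p.2 ∈ W) ∧
      S.Q p.1 = 1 ∧ S.Q p.2 = b ∧ S.B p.1 p.2 = a} =>
      (⟨p.1.1, p.2.1.1, p.2.2.1⟩ : {w : ι → F // w ∈ W ∧ S.Q w = 1}))
  rintro ⟨u, huW, hu1⟩
  have hu0 : u ≠ 0 := by
    intro h
    rw [h, Q_zero] at hu1
    exact zero_ne_one hu1
  -- a second basis vector
  obtain ⟨u', hu'W, hu'⟩ : ∃ u' ∈ W, ∀ t : F, u' ≠ t • u := by
    by_contra hcon
    push Not at hcon
    have hsurj : Function.Surjective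
        (fun t : F => (⟨t • u, W.smul_mem t huW⟩ : {w : ι → F // w ∈ W})) := by
      rintro ⟨w, hw⟩
      obtain ⟨t, ht⟩ := hcon w hw
      exact ⟨t, Subtype.ext ht.symm⟩
    have hle := Nat.card_le_card_of_surjective _ hsurj
    rw [h2, Nat.card_eq_fintype_card] at hle
    nlinarith
  have hinj : ∀ x y x' y' : F, x • u + y • u' = x' • u + y' • u' → x = x' ∧ y = y' := by
    intro x y x' y' h
    have e1 : (x - x') • u = (y' - y) • u' := by
      rw [sub_smul, sub_smul, sub_eq_sub_iff_add_eq_add, h, add_comm]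
    by_cases hy : y' - y = 0
    · rw [hy, zero_smul] at e1
      rcases smul_eq_zero.1 e1 with h3 | h3
      · exact ⟨sub_eq_zero.1 h3, (sub_eq_zero.1 hy).symm⟩
      · exact absurd h3 hu0
    · exfalso
      exact hu' ((y' - y)⁻¹ * (x - x'))
        (by rw [mul_smul, e1, smul_smul, inv_mul_cancel₀ hy, one_smul])
  set a' := S.B u u' with ha'
  set b' := S.Q u' with hb'
  have hQ : ∀ x y : F, S.Q (x • u + y • u') = x ^ 2 + a' * x * y + b' * y ^ 2 := by
    intro x y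
    rw [Q_pair, hu1]
    ring
  have hB : ∀ x y : F, S.B u (x • u + y • u') = 2 * x + a' * y := by
    intro x y
    rw [B_add_right, B_smul_right, B_smul_right, B_self, hu1]
    ring
  have hab' : Aniso a' b' := by
    intro z₁ z₂ h
    have h3 : S.Q (z₁ • u + z₂ • u') = 0 := by rw [hQ]; exact h
    have h4 := hz _ (W.add_mem (W.smul_mem _ huW) (W.smul_mem _ hu'W)) h3
    have h5 : z₁ • u + z₂ • u' = (0 : F) • u + (0 : F) • u' := by
      rw [h4, zero_smul, zero_smul, add_zero]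
    exact hinj _ _ _ _ h5
  -- the coordinate bijection
  let ψ : F × F → {w : ι → F // w ∈ W} := fun p =>
    ⟨p.1 • u + p.2 • u', W.add_mem (W.smul_mem _ huW) (W.smul_mem _ hu'W)⟩
  have hψinj : Function.Injective ψ := by
    rintro ⟨x, y⟩ ⟨x', y'⟩ h
    have h3 : x • u + y • u' = x' • u + y' • u' := congrArg Subtype.val h
    obtain ⟨e1, e2⟩ := hinj _ _ _ _ h3
    rw [e1, e2]
  have hψbij : Function.Bijective ψ := by
    apply hψinj.bijective_of_nat_card_le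
    rw [h2, Nat.card_prod, Nat.card_eq_fintype_card, sq]
  rw [← card_trace_norm hab hab']
  -- the fibre over `u`
  have step1 : Nat.card {p : {p : (ι → F) × (ι → F) // (p.1 ∈ W ∧ p.2 ∈ W) ∧
      S.Q p.1 = 1 ∧ S.Q p.2 = b ∧ S.B p.1 p.2 = a} //
      (⟨p.1.1, p.2.1.1, p.2.2.1⟩ : {w : ι → F // w ∈ W ∧ S.Q w = 1}) = ⟨u, huW, hu1⟩} =
      Nat.card {w : {w : ι → F // w ∈ W} // S.Q w.1 = b ∧ S.B u w.1 = a} := by
    apply Nat.card_congr
    refine
      { toFun := fun x => ⟨⟨x.1.1.2, x.1.2.1.2⟩, x.1.2.2.2.1, ?_⟩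
        invFun := fun w => ⟨⟨(u, w.1.1), ⟨huW, w.1.2⟩, hu1, w.2.1, w.2.2⟩, rfl⟩
        left_inv := fun x => ?_
        right_inv := fun w => rfl }
    · have h : x.1.1.1 = u := congrArg Subtype.val x.2
      have h' := x.1.2.2.2.2
      rw [h] at h'
      exact h'
    · have h : x.1.1.1 = u := congrArg Subtype.val x.2
      exact Subtype.ext (Subtype.ext (Prod.ext h.symm rfl))
  rw [step1]
  apply Nat.card_congr
  refine (Equiv.subtypeEquiv (Equiv.ofBijective ψ hψbij) ?_).symm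
  rintro ⟨x, y⟩
  show (2 * x + a' * y = a ∧ x ^ 2 + a' * x * y + b' * y ^ 2 = b) ↔
    (S.Q (x • u + y • u') = b ∧ S.B u (x • u + y • u') = a)
  rw [hQ, hB]
  exact and_comm

end

section
variable {F : Type*} [Field F] [Fintype F]

/-- isometries of the minus form correspond to hyperbolic frames plus a standard pair -/
theorem card_isom_minus (k : ℕ) {a b : F} (hab : Aniso a b) :
    Nat.card (Cfsg.isometryGroup F (Cfsg.quadFormMinus k F a b)) =
      Nat.card {x : ((Fin k → ((Fin k ⊕ Fin k) ⊕ Fin 2 → F)) ×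
        (Fin k → ((Fin k ⊕ Fin k) ⊕ Fin 2 → F))) ×
        (((Fin k ⊕ Fin k) ⊕ Fin 2 → F) × ((Fin k ⊕ Fin k) ⊕ Fin 2 → F)) //
        IsHF (minusQS k F a b) x.1.1 x.1.2 ∧
        (x.2.1 ∈ compl (minusQS k F a b) x.1.1 x.1.2 ∧
          x.2.2 ∈ compl (minusQS k F a b) x.1.1 x.1.2) ∧
        (minusQS k F a b).Q x.2.1 = 1 ∧ (minusQS k F a b).Q x.2.2 = b ∧
          (minusQS k F a b).B x.2.1 x.2.2 = a} := by
  classical
  have hpres : ∀ g : ↥(Cfsg.isometryGroup F (Cfsg.quadFormMinus k F a b)),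
      ∀ u, (minusQS k F a b).Q
        ((g.1 : Matrix ((Fin k ⊕ Fin k) ⊕ Fin 2) ((Fin k ⊕ Fin k) ⊕ Fin 2) F) *ᵥ u) =
        (minusQS k F a b).Q u := fun g u => g.2 u u
  let Φ : ↥(Cfsg.isometryGroup F (Cfsg.quadFormMinus k F a b)) →
      {x : ((Fin k → ((Fin k ⊕ Fin k) ⊕ Fin 2 → F)) ×
        (Fin k → ((Fin k ⊕ Fin k) ⊕ Fin 2 → F))) ×
        (((Fin k ⊕ Fin k) ⊕ Fin 2 → F) × ((Fin k ⊕ Fin k) ⊕ Fin 2 → F)) //
        IsHF (minusQS k F a b) x.1.1 x.1.2 ∧
        (x.2.1 ∈ compl (minusQS k F a b) x.1.1 x.1.2 ∧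
          x.2.2 ∈ compl (minusQS k F a b) x.1.1 x.1.2) ∧
        (minusQS k F a b).Q x.2.1 = 1 ∧ (minusQS k F a b).Q x.2.2 = b ∧
          (minusQS k F a b).B x.2.1 x.2.2 = a} := fun g =>
    ⟨((fun i => (g.1 : Matrix ((Fin k ⊕ Fin k) ⊕ Fin 2) ((Fin k ⊕ Fin k) ⊕ Fin 2) F) *ᵥ
          Pi.single (Sum.inl (Sum.inl i)) 1,
        fun i => (g.1 : Matrix ((Fin k ⊕ Fin k) ⊕ Fin 2) ((Fin k ⊕ Fin k) ⊕ Fin 2) F) *ᵥ
          Pi.single (Sum.inl (Sum.inr i)) 1),
      ((g.1 : Matrix ((Fin k ⊕ Fin k) ⊕ Fin 2) ((Fin k ⊕ Fin k) ⊕ Fin 2) F) *ᵥ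
        Pi.single (Sum.inr 0) 1,
       (g.1 : Matrix ((Fin k ⊕ Fin k) ⊕ Fin 2) ((Fin k ⊕ Fin k) ⊕ Fin 2) F) *ᵥ
        Pi.single (Sum.inr 1) 1)), by
      have hs := minus_std_frame (F := F) k a b
      have z0x : ∀ i : Fin k, (Pi.single (Sum.inl (Sum.inl i)) (1 : F) :
          (Fin k ⊕ Fin k) ⊕ Fin 2 → F) (Sum.inr 0) = 0 :=
        fun i => Pi.single_eq_of_ne (by simp) _
      have z1x : ∀ i : Fin k, (Pi.single (Sum.inl (Sum.inl i)) (1 : F) :
          (Fin k ⊕ Fin k) ⊕ Fin 2 → F) (Sum.inr 1) = 0 :=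
        fun i => Pi.single_eq_of_ne (by simp) _
      have z0y : ∀ i : Fin k, (Pi.single (Sum.inl (Sum.inr i)) (1 : F) :
          (Fin k ⊕ Fin k) ⊕ Fin 2 → F) (Sum.inr 0) = 0 :=
        fun i => Pi.single_eq_of_ne (by simp) _
      have z1y : ∀ i : Fin k, (Pi.single (Sum.inl (Sum.inr i)) (1 : F) :
          (Fin k ⊕ Fin k) ⊕ Fin 2 → F) (Sum.inr 1) = 0 :=
        fun i => Pi.single_eq_of_ne (by simp) _
      refine ⟨⟨fun i => ⟨?_, ?_⟩, fun i j => ?_, fun i j hij => ⟨?_, ?_⟩⟩,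
        ⟨fun i => ⟨?_, ?_⟩, fun i => ⟨?_, ?_⟩⟩, ?_, ?_, ?_⟩
      · show (minusQS k F a b).Q _ = 0
        rw [hpres g]; exact (hs.1 i).1
      · show (minusQS k F a b).Q _ = 0
        rw [hpres g]; exact (hs.1 i).2
      · show (minusQS k F a b).B _ _ = _
        rw [B_pres _ _ (hpres g)]; exact hs.2.1 i j
      · show (minusQS k F a b).B _ _ = _
        rw [B_pres _ _ (hpres g)]; exact (hs.2.2 i j hij).1
      · show (minusQS k F a b).B _ _ = _
        rw [B_pres _ _ (hpres g)]; exact (hs.2.2 i j hij).2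
      · show (minusQS k F a b).B _ _ = _
        rw [B_pres _ _ (hpres g), minus_B_single_0, z0x, z1x]; ring
      · show (minusQS k F a b).B _ _ = _
        rw [B_pres _ _ (hpres g), minus_B_single_0, z0y, z1y]; ring
      · show (minusQS k F a b).B _ _ = _
        rw [B_pres _ _ (hpres g), minus_B_single_1, z0x, z1x]; ring
      · show (minusQS k F a b).B _ _ = _
        rw [B_pres _ _ (hpres g), minus_B_single_1, z0y, z1y]; ring
      · show (minusQS k F a b).Q _ = 1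
        rw [hpres g]; exact minus_Q_single_0 k a b
      · show (minusQS k F a b).Q _ = b
        rw [hpres g]; exact minus_Q_single_1 k a b
      · show (minusQS k F a b).B _ _ = a
        rw [B_pres _ _ (hpres g), minus_B_single_0]
        have e1 : (Pi.single (Sum.inr 1) (1 : F) : (Fin k ⊕ Fin k) ⊕ Fin 2 → F)
            (Sum.inr 0) = 0 := Pi.single_eq_of_ne (by simp) _
        have e2 : (Pi.single (Sum.inr 1) (1 : F) : (Fin k ⊕ Fin k) ⊕ Fin 2 → F)
            (Sum.inr 1) = 1 := Pi.single_eq_same _ _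
        rw [e1, e2]; ring⟩
  have hinj : Function.Injective Φ := by
    intro g g' h
    apply Subtype.ext
    apply Units.ext
    apply Matrix.ext_of_mulVec_single
    intro s
    have h1 := congrArg (fun x => x.1.1.1) h
    have h2' := congrArg (fun x => x.1.1.2) h
    have h3 := congrArg (fun x => x.1.2.1) h
    have h4 := congrArg (fun x => x.1.2.2) h
    rcases s with (i | i) | j
    · exact congrFun h1 i
    · exact congrFun h2' i
    · fin_cases j
      · exact h3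
      · exact h4
  have hsurj : Function.Surjective Φ := by
    intro p
    set φ := Fintype.linearCombination F
      (Sum.elim (Sum.elim p.1.1.1 p.1.1.2) ![p.1.2.1, p.1.2.2]) with hφ
    set M : Matrix ((Fin k ⊕ Fin k) ⊕ Fin 2) ((Fin k ⊕ Fin k) ⊕ Fin 2) F :=
      LinearMap.toMatrix' φ with hM
    have hMv : ∀ x, M *ᵥ x = φ x := by
      intro x
      rw [← Matrix.toLin'_apply, hM, Matrix.toLin'_toMatrix']
    have hφx : ∀ x : (Fin k ⊕ Fin k) ⊕ Fin 2 → F,
        φ x = (∑ i, (x (Sum.inl (Sum.inl i)) • p.1.1.1 i + x (Sum.inl (Sum.inr i)) • p.1.1.2 i)) +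
          (x (Sum.inr 0) • p.1.2.1 + x (Sum.inr 1) • p.1.2.2) := by
      intro x
      rw [hφ, Fintype.linearCombination_apply, Fintype.sum_sum_type, Fintype.sum_sum_type,
        ← Finset.sum_add_distrib, Fin.sum_univ_two]
      rfl
    have hQ : ∀ x, (minusQS k F a b).Q (M *ᵥ x) = (minusQS k F a b).Q x := by
      intro x
      rw [hMv, hφx, Q_frame (minusQS k F a b) k p.1.1.1 p.1.1.2 p.2.1 _ _ _
        (Submodule.add_mem _ (Submodule.smul_mem _ _ p.2.2.1.1)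
          (Submodule.smul_mem _ _ p.2.2.1.2)), Q_pair, p.2.2.2.1, p.2.2.2.2.1, p.2.2.2.2.2,
        minusQS_Q]
      ring
    have hunit := isUnit_of_pres (minusQS k F a b) (minus_ND k hab) M hQ
    refine ⟨⟨hunit.unit, fun u _ => hQ u⟩, ?_⟩
    apply Subtype.ext
    apply Prod.ext
    · apply Prod.ext
      · funext i
        show M *ᵥ Pi.single (Sum.inl (Sum.inl i)) 1 = p.1.1.1 i
        rw [hMv, hφ, Fintype.linearCombination_apply_single, one_smul]
        rfl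
      · funext i
        show M *ᵥ Pi.single (Sum.inl (Sum.inr i)) 1 = p.1.1.2 i
        rw [hMv, hφ, Fintype.linearCombination_apply_single, one_smul]
        rfl
    · apply Prod.ext
      · show M *ᵥ Pi.single (Sum.inr 0) 1 = p.1.2.1
        rw [hMv, hφ, Fintype.linearCombination_apply_single, one_smul]
        rfl
      · show M *ᵥ Pi.single (Sum.inr 1) 1 = p.1.2.2
        rw [hMv, hφ, Fintype.linearCombination_apply_single, one_smul]
        rfl
  exact Nat.card_congr (Equiv.ofBijective Φ ⟨hinj, hsurj⟩)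

theorem card_T_minus (k : ℕ) {a b : F} (hab : Aniso a b) :
    Nat.card {x : ((Fin k → ((Fin k ⊕ Fin k) ⊕ Fin 2 → F)) ×
        (Fin k → ((Fin k ⊕ Fin k) ⊕ Fin 2 → F))) ×
        (((Fin k ⊕ Fin k) ⊕ Fin 2 → F) × ((Fin k ⊕ Fin k) ⊕ Fin 2 → F)) //
        IsHF (minusQS k F a b) x.1.1 x.1.2 ∧
        (x.2.1 ∈ compl (minusQS k F a b) x.1.1 x.1.2 ∧
          x.2.2 ∈ compl (minusQS k F a b) x.1.1 x.1.2) ∧
        (minusQS k F a b).Q x.2.1 = 1 ∧ (minusQS k F a b).Q x.2.2 = b ∧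
          (minusQS k F a b).B x.2.1 x.2.2 = a} =
      Nat.card {p : (Fin k → ((Fin k ⊕ Fin k) ⊕ Fin 2 → F)) ×
        (Fin k → ((Fin k ⊕ Fin k) ⊕ Fin 2 → F)) // IsHF (minusQS k F a b) p.1 p.2} *
        ((Fintype.card F + 1) * 2) := by
  have hq : 0 < Fintype.card F := Fintype.card_pos
  apply card_fibers
    (fun x : {x : ((Fin k → ((Fin k ⊕ Fin k) ⊕ Fin 2 → F)) ×
        (Fin k → ((Fin k ⊕ Fin k) ⊕ Fin 2 → F))) ×
        (((Fin k ⊕ Fin k) ⊕ Fin 2 → F) × ((Fin k ⊕ Fin k) ⊕ Fin 2 → F)) //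
        IsHF (minusQS k F a b) x.1.1 x.1.2 ∧
        (x.2.1 ∈ compl (minusQS k F a b) x.1.1 x.1.2 ∧
          x.2.2 ∈ compl (minusQS k F a b) x.1.1 x.1.2) ∧
        (minusQS k F a b).Q x.2.1 = 1 ∧ (minusQS k F a b).Q x.2.2 = b ∧
          (minusQS k F a b).B x.2.1 x.2.2 = a} =>
      (⟨x.1.1, x.2.1⟩ : {p : (Fin k → ((Fin k ⊕ Fin k) ⊕ Fin 2 → F)) ×
        (Fin k → ((Fin k ⊕ Fin k) ⊕ Fin 2 → F)) // IsHF (minusQS k F a b) p.1 p.2}))
  intro p
  obtain ⟨-, hS, -⟩ := std_frame (minusQS k F a b) 2 (Zm (Fintype.card F)) 1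
    (fun j => Fintype.card F ^ (2 * j + 1) + Fintype.card F ^ j)
    (Zm_succ _) rfl (Z1m_succ _ hq) k (minus_QStd k hab) (minus_ND k hab) k p.1.1 p.1.2 p.2
  obtain ⟨hS1, hS2, hS3⟩ := hS
  rw [Nat.sub_self] at hS1 hS2 hS3
  have hS1' : Nat.card {w : (Fin k ⊕ Fin k) ⊕ Fin 2 → F //
      w ∈ compl (minusQS k F a b) p.1.1 p.1.2} = Fintype.card F ^ 2 := hS1
  have hS2' : Nat.card {w : (Fin k ⊕ Fin k) ⊕ Fin 2 → F //
      w ∈ compl (minusQS k F a b) p.1.1 p.1.2 ∧ (minusQS k F a b).Q w = 0} = 1 := hS2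
  have hS3' : Nat.card {w : (Fin k ⊕ Fin k) ⊕ Fin 2 → F //
      w ∈ compl (minusQS k F a b) p.1.1 p.1.2 ∧ (minusQS k F a b).Q w = 1} =
      Fintype.card F + 1 := by
    rw [hS3]
    simp
  rw [← card_pairs_W (minusQS k F a b) hab _ hS1' hS2' hS3']
  apply Nat.card_congr
  refine
    { toFun := fun x => ⟨x.1.1.2, ?_, x.1.2.2.2⟩
      invFun := fun w => ⟨⟨(p.1, w.1), p.2, w.2.1, w.2.2⟩, rfl⟩
      left_inv := fun x => ?_
      right_inv := fun w => rfl }
  · have h : x.1.1.1 = p.1 := congrArg Subtype.val x.2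
    rw [← h]
    exact x.1.2.2.1
  · have h : x.1.1.1 = p.1 := congrArg Subtype.val x.2
    exact Subtype.ext (Subtype.ext (Prod.ext h.symm rfl))

end

end Cfsg.Agent.Lib.Helper2.Quad
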