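import Mathlib
import Cfsg.Prelude.Def_Classical
import Cfsg.Agent.Lib.Helper1.CountForms
import Cfsg.Agent.Lib.Helper2.HermField
import Cfsg.Agent.Lib.Helper2.QuadFrame3

set_option autoImplicit false
set_option linter.style.haveILetI false
set_option linter.unusedSectionVars false

namespace Cfsg.Agent.Lib.Helper2.Quad

open Cfsg.Agent.Lib.Helper2.Herm Cfsg.Agent.Lib.Helper1 Matrix

/-- the odd-dimensional form with its polar form -/
def oddQS (m : ℕ) (F : Type*) [Field F] : QS (Unit ⊕ (Fin m ⊕ Fin m)) F where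
  Q := Cfsg.quadFormOdd m F
  B := fun u v => 2 * u (.inl ()) * v (.inl ()) +
    ∑ i : Fin m, (u (.inr (.inl i)) * v (.inr (.inr i)) + u (.inr (.inr i)) * v (.inr (.inl i)))
  B_add_left := by
    intro u v w
    have hs : ∑ i : Fin m, ((u + v) (.inr (.inl i)) * w (.inr (.inr i)) +
        (u + v) (.inr (.inr i)) * w (.inr (.inl i))) =
        ∑ i : Fin m, (u (.inr (.inl i)) * w (.inr (.inr i)) + u (.inr (.inr i)) * w (.inr (.inl i))) +
        ∑ i : Fin m, (v (.inr (.inl i)) * w (.inr (.inr i)) + v (.inr (.inr i)) * w (.inr (.inl i))) := by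
      rw [← Finset.sum_add_distrib]
      apply Finset.sum_congr rfl
      intro i _
      simp only [Pi.add_apply]
      ring
    rw [hs]
    simp only [Pi.add_apply]
    ring
  B_smul_left := by
    intro a u w
    have hs : ∑ i : Fin m, ((a • u) (.inr (.inl i)) * w (.inr (.inr i)) +
        (a • u) (.inr (.inr i)) * w (.inr (.inl i))) =
        a * ∑ i : Fin m, (u (.inr (.inl i)) * w (.inr (.inr i)) +
          u (.inr (.inr i)) * w (.inr (.inl i))) := by
      rw [Finset.mul_sum]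
      apply Finset.sum_congr rfl
      intro i _
      simp only [Pi.smul_apply, smul_eq_mul]
      ring
    rw [hs]
    simp only [Pi.smul_apply, smul_eq_mul]
    ring
  B_symm := by
    intro u v
    have hs : ∑ i : Fin m, (u (.inr (.inl i)) * v (.inr (.inr i)) +
        u (.inr (.inr i)) * v (.inr (.inl i))) =
        ∑ i : Fin m, (v (.inr (.inl i)) * u (.inr (.inr i)) +
          v (.inr (.inr i)) * u (.inr (.inl i))) := by
      apply Finset.sum_congr rfl
      intro i _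
      ring
    rw [hs]
    ring
  Q_add := by
    intro u v
    unfold Cfsg.quadFormOdd
    have hs : ∑ i : Fin m, (u + v) (.inr (.inl i)) * (u + v) (.inr (.inr i)) =
        ∑ i : Fin m, u (.inr (.inl i)) * u (.inr (.inr i)) +
        ∑ i : Fin m, v (.inr (.inl i)) * v (.inr (.inr i)) +
        ∑ i : Fin m, (u (.inr (.inl i)) * v (.inr (.inr i)) +
          u (.inr (.inr i)) * v (.inr (.inl i))) := by
      rw [← Finset.sum_add_distrib, ← Finset.sum_add_distrib]
      apply Finset.sum_congr rfl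
      intro i _
      simp only [Pi.add_apply]
      ring
    rw [hs]
    simp only [Pi.add_apply]
    ring
  Q_smul := by
    intro a u
    unfold Cfsg.quadFormOdd
    have hs : ∑ i : Fin m, (a • u) (.inr (.inl i)) * (a • u) (.inr (.inr i)) =
        a ^ 2 * ∑ i : Fin m, u (.inr (.inl i)) * u (.inr (.inr i)) := by
      rw [Finset.mul_sum]
      apply Finset.sum_congr rfl
      intro i _
      simp only [Pi.smul_apply, smul_eq_mul]
      ring
    rw [hs]
    simp only [Pi.smul_apply, smul_eq_mul]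
    ring

section
variable {F : Type*} [Field F] [Fintype F]

theorem two_ne_zero_of_odd (hF : Odd (Fintype.card F)) : (2 : F) ≠ 0 := by
  apply Ring.two_ne_zero
  intro h
  have := FiniteField.even_card_of_char_two h
  rw [Nat.odd_iff] at hF
  omega

theorem oddQS_Q (m : ℕ) (u : Unit ⊕ (Fin m ⊕ Fin m) → F) :
    (oddQS m F).Q u = u (.inl ()) ^ 2 + ∑ i : Fin m, u (.inr (.inl i)) * u (.inr (.inr i)) := rfl

theorem oddQS_B (m : ℕ) (u v : Unit ⊕ (Fin m ⊕ Fin m) → F) :
    (oddQS m F).B u v = 2 * u (.inl ()) * v (.inl ()) +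
      ∑ i : Fin m, (u (.inr (.inl i)) * v (.inr (.inr i)) +
        u (.inr (.inr i)) * v (.inr (.inl i))) := rfl

theorem odd_B_single_x (m : ℕ) (i : Fin m) (v : Unit ⊕ (Fin m ⊕ Fin m) → F) :
    (oddQS m F).B (Pi.single (Sum.inr (Sum.inl i)) 1) v = v (Sum.inr (Sum.inr i)) := by
  have e0 : (Pi.single (Sum.inr (Sum.inl i)) (1 : F) : Unit ⊕ (Fin m ⊕ Fin m) → F)
      (Sum.inl ()) = 0 := Pi.single_eq_of_ne (by simp) _
  rw [oddQS_B, e0, Finset.sum_eq_single i]
  · have e1 : (Pi.single (Sum.inr (Sum.inl i)) (1 : F) : Unit ⊕ (Fin m ⊕ Fin m) → F)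
        (Sum.inr (Sum.inl i)) = 1 := Pi.single_eq_same _ _
    have e2 : (Pi.single (Sum.inr (Sum.inl i)) (1 : F) : Unit ⊕ (Fin m ⊕ Fin m) → F)
        (Sum.inr (Sum.inr i)) = 0 := Pi.single_eq_of_ne (by simp) _
    rw [e1, e2]; ring
  · intro j _ hj
    have e1 : (Pi.single (Sum.inr (Sum.inl i)) (1 : F) : Unit ⊕ (Fin m ⊕ Fin m) → F)
        (Sum.inr (Sum.inl j)) = 0 := Pi.single_eq_of_ne (by simpa using hj) _
    have e2 : (Pi.single (Sum.inr (Sum.inl i)) (1 : F) : Unit ⊕ (Fin m ⊕ Fin m) → F)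
        (Sum.inr (Sum.inr j)) = 0 := Pi.single_eq_of_ne (by simp) _
    rw [e1, e2]; ring
  · intro h
    exact absurd (Finset.mem_univ i) h

theorem odd_B_single_y (m : ℕ) (i : Fin m) (v : Unit ⊕ (Fin m ⊕ Fin m) → F) :
    (oddQS m F).B (Pi.single (Sum.inr (Sum.inr i)) 1) v = v (Sum.inr (Sum.inl i)) := by
  have e0 : (Pi.single (Sum.inr (Sum.inr i)) (1 : F) : Unit ⊕ (Fin m ⊕ Fin m) → F)
      (Sum.inl ()) = 0 := Pi.single_eq_of_ne (by simp) _
  rw [oddQS_B, e0, Finset.sum_eq_single i]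
  · have e1 : (Pi.single (Sum.inr (Sum.inr i)) (1 : F) : Unit ⊕ (Fin m ⊕ Fin m) → F)
        (Sum.inr (Sum.inr i)) = 1 := Pi.single_eq_same _ _
    have e2 : (Pi.single (Sum.inr (Sum.inr i)) (1 : F) : Unit ⊕ (Fin m ⊕ Fin m) → F)
        (Sum.inr (Sum.inl i)) = 0 := Pi.single_eq_of_ne (by simp) _
    rw [e1, e2]; ring
  · intro j _ hj
    have e1 : (Pi.single (Sum.inr (Sum.inr i)) (1 : F) : Unit ⊕ (Fin m ⊕ Fin m) → F)
        (Sum.inr (Sum.inr j)) = 0 := Pi.single_eq_of_ne (by simpa using hj) _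
    have e2 : (Pi.single (Sum.inr (Sum.inr i)) (1 : F) : Unit ⊕ (Fin m ⊕ Fin m) → F)
        (Sum.inr (Sum.inl j)) = 0 := Pi.single_eq_of_ne (by simp) _
    rw [e1, e2]; ring
  · intro h
    exact absurd (Finset.mem_univ i) h

theorem odd_B_single_0 (m : ℕ) (v : Unit ⊕ (Fin m ⊕ Fin m) → F) :
    (oddQS m F).B (Pi.single (Sum.inl ()) 1) v = 2 * v (Sum.inl ()) := by
  have e0 : (Pi.single (Sum.inl ()) (1 : F) : Unit ⊕ (Fin m ⊕ Fin m) → F)
      (Sum.inl ()) = 1 := Pi.single_eq_same _ _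
  rw [oddQS_B, e0, Finset.sum_eq_zero]
  · ring
  · intro j _
    have e1 : (Pi.single (Sum.inl ()) (1 : F) : Unit ⊕ (Fin m ⊕ Fin m) → F)
        (Sum.inr (Sum.inl j)) = 0 := Pi.single_eq_of_ne (by simp) _
    have e2 : (Pi.single (Sum.inl ()) (1 : F) : Unit ⊕ (Fin m ⊕ Fin m) → F)
        (Sum.inr (Sum.inr j)) = 0 := Pi.single_eq_of_ne (by simp) _
    rw [e1, e2]; ring

theorem odd_ND (h2 : (2 : F) ≠ 0) (m : ℕ) : ND (oddQS m F) ⊤ := by
  intro e _ he0
  obtain ⟨t, ht⟩ := Function.ne_iff.1 he0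
  rcases t with u | i | i
  · refine ⟨Pi.single (Sum.inl ()) 1, Submodule.mem_top, ?_⟩
    rw [odd_B_single_0]
    exact mul_ne_zero h2 ht
  · refine ⟨Pi.single (Sum.inr (Sum.inr i)) 1, Submodule.mem_top, ?_⟩
    rw [odd_B_single_y]
    exact ht
  · refine ⟨Pi.single (Sum.inr (Sum.inl i)) 1, Submodule.mem_top, ?_⟩
    rw [odd_B_single_x]
    exact ht

theorem odd_Q_single_x (m : ℕ) (i : Fin m) :
    (oddQS m F).Q (Pi.single (Sum.inr (Sum.inl i)) 1) = 0 := by
  have h := B_self (oddQS m F) (Pi.single (Sum.inr (Sum.inl i)) 1)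
  rw [odd_B_single_x] at h
  have e2 : (Pi.single (Sum.inr (Sum.inl i)) (1 : F) : Unit ⊕ (Fin m ⊕ Fin m) → F)
      (Sum.inr (Sum.inr i)) = 0 := Pi.single_eq_of_ne (by simp) _
  rw [oddQS_Q]
  have e0 : (Pi.single (Sum.inr (Sum.inl i)) (1 : F) : Unit ⊕ (Fin m ⊕ Fin m) → F)
      (Sum.inl ()) = 0 := Pi.single_eq_of_ne (by simp) _
  rw [e0, Finset.sum_eq_zero]
  · ring
  · intro k _
    have e3 : (Pi.single (Sum.inr (Sum.inl i)) (1 : F) : Unit ⊕ (Fin m ⊕ Fin m) → F)
        (Sum.inr (Sum.inr k)) = 0 := Pi.single_eq_of_ne (by simp) _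
    rw [e3, mul_zero]

theorem odd_Q_single_y (m : ℕ) (i : Fin m) :
    (oddQS m F).Q (Pi.single (Sum.inr (Sum.inr i)) 1) = 0 := by
  rw [oddQS_Q]
  have e0 : (Pi.single (Sum.inr (Sum.inr i)) (1 : F) : Unit ⊕ (Fin m ⊕ Fin m) → F)
      (Sum.inl ()) = 0 := Pi.single_eq_of_ne (by simp) _
  rw [e0, Finset.sum_eq_zero]
  · ring
  · intro k _
    have e3 : (Pi.single (Sum.inr (Sum.inr i)) (1 : F) : Unit ⊕ (Fin m ⊕ Fin m) → F)
        (Sum.inr (Sum.inl k)) = 0 := Pi.single_eq_of_ne (by simp) _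
    rw [e3, zero_mul]

theorem odd_Q_single_0 (m : ℕ) :
    (oddQS m F).Q (Pi.single (Sum.inl ()) 1) = 1 := by
  rw [oddQS_Q]
  have e0 : (Pi.single (Sum.inl ()) (1 : F) : Unit ⊕ (Fin m ⊕ Fin m) → F)
      (Sum.inl ()) = 1 := Pi.single_eq_same _ _
  rw [e0, Finset.sum_eq_zero]
  · ring
  · intro k _
    have e3 : (Pi.single (Sum.inl ()) (1 : F) : Unit ⊕ (Fin m ⊕ Fin m) → F)
        (Sum.inr (Sum.inl k)) = 0 := Pi.single_eq_of_ne (by simp) _
    rw [e3, zero_mul]

/-- the standard hyperbolic frame -/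
theorem odd_std_frame (m : ℕ) :
    IsHF (oddQS m F)
      (fun i : Fin m => (Pi.single (Sum.inr (Sum.inl i)) 1 : Unit ⊕ (Fin m ⊕ Fin m) → F))
      (fun i : Fin m => (Pi.single (Sum.inr (Sum.inr i)) 1 : Unit ⊕ (Fin m ⊕ Fin m) → F)) := by
  refine ⟨fun i => ⟨odd_Q_single_x m i, odd_Q_single_y m i⟩, fun i j => ?_,
    fun i j hij => ⟨?_, ?_⟩⟩
  · show (oddQS m F).B (Pi.single (Sum.inr (Sum.inl i)) 1) (Pi.single (Sum.inr (Sum.inr j)) 1) = _
    rw [odd_B_single_x]
    by_cases hij : i = j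
    · rw [if_pos hij, hij]
      exact Pi.single_eq_same _ _
    · rw [if_neg hij]
      exact Pi.single_eq_of_ne (by simpa using hij) _
  · show (oddQS m F).B (Pi.single (Sum.inr (Sum.inl i)) 1) (Pi.single (Sum.inr (Sum.inl j)) 1) = 0
    rw [odd_B_single_x]
    exact Pi.single_eq_of_ne (by simp) _
  · show (oddQS m F).B (Pi.single (Sum.inr (Sum.inr i)) 1) (Pi.single (Sum.inr (Sum.inr j)) 1) = 0
    rw [odd_B_single_y]
    exact Pi.single_eq_of_ne (by simp) _

/-- number of solutions of `Q = c` for the odd form -/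
theorem card_odd [DecidableEq F] (m : ℕ) (c : F) :
    Nat.card {v : Unit ⊕ (Fin m ⊕ Fin m) → F // (oddQS m F).Q v = c} + Fintype.card F ^ m =
      (Finset.univ.filter (fun t : F => c - t ^ 2 = 0)).card * Fintype.card F ^ m +
        Fintype.card F ^ (2 * m) := by
  have hq : 0 < Fintype.card F := Fintype.card_pos
  rcases Nat.eq_zero_or_pos m with rfl | hm
  · let e : {v : Unit ⊕ (Fin 0 ⊕ Fin 0) → F // (oddQS 0 F).Q v = c} ≃
        (Σ t : F, {p : (Fin 0 → F) × (Fin 0 → F) // ∑ i, p.1 i * p.2 i = c - t ^ 2}) :=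
      { toFun := fun v => ⟨v.1 (Sum.inl ()), ⟨(fun i => v.1 (Sum.inr (Sum.inl i)),
          fun i => v.1 (Sum.inr (Sum.inr i))), by
            have := v.2
            rw [oddQS_Q] at this
            exact eq_sub_of_add_eq' this⟩⟩
        invFun := fun s => ⟨Sum.elim (fun _ => s.1) (Sum.elim s.2.1.1 s.2.1.2), by
          have := s.2.2
          show s.1 ^ 2 + ∑ i, s.2.1.1 i * s.2.1.2 i = c
          rw [this]; ring⟩
        left_inv := fun v => by
          apply Subtype.ext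
          funext x
          rcases x with x | x | x <;> rfl
        right_inv := fun s => rfl }
    rw [Nat.card_congr e, card_sigma_pairs_zero]
    simp
  · obtain ⟨k, rfl⟩ : ∃ k, m = k + 1 := ⟨m - 1, by omega⟩
    let e : {v : Unit ⊕ (Fin (k + 1) ⊕ Fin (k + 1)) → F // (oddQS (k + 1) F).Q v = c} ≃
        (Σ t : F, {p : (Fin (k + 1) → F) × (Fin (k + 1) → F) //
          ∑ i, p.1 i * p.2 i = c - t ^ 2}) :=
      { toFun := fun v => ⟨v.1 (Sum.inl ()), ⟨(fun i => v.1 (Sum.inr (Sum.inl i)),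
          fun i => v.1 (Sum.inr (Sum.inr i))), by
            have := v.2
            rw [oddQS_Q] at this
            exact eq_sub_of_add_eq' this⟩⟩
        invFun := fun s => ⟨Sum.elim (fun _ => s.1) (Sum.elim s.2.1.1 s.2.1.2), by
          have := s.2.2
          show s.1 ^ 2 + ∑ i, s.2.1.1 i * s.2.1.2 i = c
          rw [this]; ring⟩
        left_inv := fun v => by
          apply Subtype.ext
          funext x
          rcases x with x | x | x <;> rfl
        right_inv := fun s => rfl }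
    rw [Nat.card_congr e, card_sigma_pairs]
    obtain ⟨b, hb⟩ : ∃ b, Fintype.card F ^ (k + 1) = b + 1 :=
      ⟨Fintype.card F ^ (k + 1) - 1, by have := Nat.one_le_pow (k + 1) _ hq; omega⟩
    have e2 : Fintype.card F ^ (2 * (k + 1)) = (b + 1) * (b + 1) := by
      rw [← hb, ← pow_add]; congr 1; omega
    have e3 : Fintype.card F * Fintype.card F ^ k = b + 1 := by rw [← hb, pow_succ]; ring
    rw [e2, hb, Nat.add_sub_cancel]
    have e4 : Fintype.card F * (b * Fintype.card F ^ k) = b * (b + 1) := by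
      rw [← e3]; ring
    rw [e4]
    ring

end

end Cfsg.Agent.Lib.Helper2.Quad
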