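import Mathlib
import Cfsg.Prelude.Def_Classical
import Cfsg.Agent.Lib.Helper1.CountForms
import Cfsg.Agent.Lib.Helper2.HermField
import Cfsg.Agent.Lib.Helper2.QuadFrame3
import Cfsg.Agent.Lib.Helper2.QuadOdd

set_option autoImplicit false
set_option linter.style.haveILetI false
set_option linter.unusedSectionVars false

namespace Cfsg.Agent.Lib.Helper2.Quad

open Cfsg.Agent.Lib.Helper2.Herm Cfsg.Agent.Lib.Helper1 Matrix

section
variable {F : Type*} [Field F] [Fintype F]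

theorem odd_hZ (q : ℕ) (hq : 0 < q) (j : ℕ) :
    q ^ (2 * (j + 1)) = q * q ^ (2 * j) + (q - 1) * q ^ (2 * j + 1) := by
  obtain ⟨s, rfl⟩ : ∃ s, q = s + 1 := ⟨q - 1, by omega⟩
  rw [Nat.add_sub_cancel]
  ring

theorem odd_hZ1 (q : ℕ) (hq : 0 < q) (j : ℕ) :
    q ^ (2 * (j + 1)) + q ^ (j + 1) =
      q * (q ^ (2 * j) + q ^ j) + (q - 1) * q ^ (2 * j + 1) := by
  obtain ⟨s, rfl⟩ : ∃ s, q = s + 1 := ⟨q - 1, by omega⟩
  rw [Nat.add_sub_cancel]
  ring

theorem odd_QStd (h2 : (2 : F) ≠ 0) (m : ℕ) :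
    QStd (oddQS m F) 1 (fun j => Fintype.card F ^ (2 * j)) 1
      (fun j => Fintype.card F ^ (2 * j) + Fintype.card F ^ j) ⊤ m := by
  classical
  have htop : ∀ c : F, Nat.card {w : Unit ⊕ (Fin m ⊕ Fin m) → F //
      w ∈ (⊤ : Submodule F (Unit ⊕ (Fin m ⊕ Fin m) → F)) ∧ (oddQS m F).Q w = c} =
      Nat.card {w : Unit ⊕ (Fin m ⊕ Fin m) → F // (oddQS m F).Q w = c} := fun c =>
    Nat.card_congr (Equiv.subtypeEquivRight
      (fun _ => ⟨fun h => h.2, fun h => ⟨Submodule.mem_top, h⟩⟩))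
  refine ⟨?_, ?_, ?_⟩
  · rw [Nat.card_congr (Equiv.subtypeUnivEquiv (fun _ => Submodule.mem_top)),
      Nat.card_eq_fintype_card, Fintype.card_fun, Fintype.card_sum, Fintype.card_sum,
      Fintype.card_fin, Fintype.card_unit]
    congr 1
    omega
  · rw [htop]
    have h := card_odd (F := F) m 0
    have hf : (Finset.univ.filter (fun t : F => (0 : F) - t ^ 2 = 0)).card = 1 := by
      rw [Finset.card_eq_one]
      refine ⟨0, ?_⟩
      ext t
      simp
    rw [hf, one_mul] at h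
    show _ = Fintype.card F ^ (2 * m)
    omega
  · rw [htop]
    have h := card_odd (F := F) m 1
    have hf : (Finset.univ.filter (fun t : F => (1 : F) - t ^ 2 = 0)).card = 2 := by
      have hne : (1 : F) ≠ -1 := by
        intro h1
        apply h2
        have : (2 : F) = 1 + 1 := by norm_num
        rw [this]
        nth_rewrite 1 [h1]
        ring
      have hset : Finset.univ.filter (fun t : F => (1 : F) - t ^ 2 = 0) = {1, -1} := by
        ext t
        simp only [Finset.mem_filter, Finset.mem_univ, true_and, Finset.mem_insert,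
          Finset.mem_singleton]
        constructor
        · intro ht
          have : t * t = 1 := by linear_combination (-1 : F) * ht
          exact mul_self_eq_one_iff.1 this
        · rintro (rfl | rfl) <;> ring
      rw [hset, Finset.card_pair hne]
    rw [hf] at h
    show _ = Fintype.card F ^ (2 * m) + Fintype.card F ^ m
    omega

/-- isometries of the odd form correspond to hyperbolic frames plus a norm-one vector -/
theorem card_isom_odd (h2 : (2 : F) ≠ 0) (m : ℕ) :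
    Nat.card (Cfsg.isometryGroup F (Cfsg.quadFormOdd m F)) =
      Nat.card {x : ((Fin m → (Unit ⊕ (Fin m ⊕ Fin m) → F)) ×
        (Fin m → (Unit ⊕ (Fin m ⊕ Fin m) → F))) × (Unit ⊕ (Fin m ⊕ Fin m) → F) //
        IsHF (oddQS m F) x.1.1 x.1.2 ∧ x.2 ∈ compl (oddQS m F) x.1.1 x.1.2 ∧
          (oddQS m F).Q x.2 = 1} := by
  classical
  have hpres : ∀ g : ↥(Cfsg.isometryGroup F (Cfsg.quadFormOdd m F)),
      ∀ u, (oddQS m F).Q
        ((g.1 : Matrix (Unit ⊕ (Fin m ⊕ Fin m)) (Unit ⊕ (Fin m ⊕ Fin m)) F) *ᵥ u) =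
        (oddQS m F).Q u := fun g u => g.2 u u
  let Φ : ↥(Cfsg.isometryGroup F (Cfsg.quadFormOdd m F)) →
      {x : ((Fin m → (Unit ⊕ (Fin m ⊕ Fin m) → F)) ×
        (Fin m → (Unit ⊕ (Fin m ⊕ Fin m) → F))) × (Unit ⊕ (Fin m ⊕ Fin m) → F) //
        IsHF (oddQS m F) x.1.1 x.1.2 ∧ x.2 ∈ compl (oddQS m F) x.1.1 x.1.2 ∧
          (oddQS m F).Q x.2 = 1} := fun g =>
    ⟨((fun i => (g.1 : Matrix (Unit ⊕ (Fin m ⊕ Fin m)) (Unit ⊕ (Fin m ⊕ Fin m)) F) *ᵥ
          Pi.single (Sum.inr (Sum.inl i)) 1,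
        fun i => (g.1 : Matrix (Unit ⊕ (Fin m ⊕ Fin m)) (Unit ⊕ (Fin m ⊕ Fin m)) F) *ᵥ
          Pi.single (Sum.inr (Sum.inr i)) 1),
      (g.1 : Matrix (Unit ⊕ (Fin m ⊕ Fin m)) (Unit ⊕ (Fin m ⊕ Fin m)) F) *ᵥ
        Pi.single (Sum.inl ()) 1), by
      have hs := odd_std_frame (F := F) m
      refine ⟨⟨fun i => ⟨?_, ?_⟩, fun i j => ?_, fun i j hij => ⟨?_, ?_⟩⟩, fun i => ⟨?_, ?_⟩, ?_⟩
      · show (oddQS m F).Q _ = 0
        rw [hpres g]; exact (hs.1 i).1
      · show (oddQS m F).Q _ = 0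
        rw [hpres g]; exact (hs.1 i).2
      · show (oddQS m F).B _ _ = _
        rw [B_pres _ _ (hpres g)]; exact hs.2.1 i j
      · show (oddQS m F).B _ _ = _
        rw [B_pres _ _ (hpres g)]; exact (hs.2.2 i j hij).1
      · show (oddQS m F).B _ _ = _
        rw [B_pres _ _ (hpres g)]; exact (hs.2.2 i j hij).2
      · show (oddQS m F).B _ _ = _
        rw [B_pres _ _ (hpres g), odd_B_single_0]
        have : (Pi.single (Sum.inr (Sum.inl i)) (1 : F) : Unit ⊕ (Fin m ⊕ Fin m) → F)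
            (Sum.inl ()) = 0 := Pi.single_eq_of_ne (by simp) _
        rw [this, mul_zero]
      · show (oddQS m F).B _ _ = _
        rw [B_pres _ _ (hpres g), odd_B_single_0]
        have : (Pi.single (Sum.inr (Sum.inr i)) (1 : F) : Unit ⊕ (Fin m ⊕ Fin m) → F)
            (Sum.inl ()) = 0 := Pi.single_eq_of_ne (by simp) _
        rw [this, mul_zero]
      · show (oddQS m F).Q _ = 1
        rw [hpres g]; exact odd_Q_single_0 m⟩
  have hinj : Function.Injective Φ := by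
    intro g g' h
    apply Subtype.ext
    apply Units.ext
    apply Matrix.ext_of_mulVec_single
    intro s
    have h1 := congrArg (fun x => x.1.1.1) h
    have h2' := congrArg (fun x => x.1.1.2) h
    have h3 := congrArg (fun x => x.1.2) h
    rcases s with u | i | i
    · exact h3
    · exact congrFun h1 i
    · exact congrFun h2' i
  have hsurj : Function.Surjective Φ := by
    intro p
    set φ := Fintype.linearCombination F
      (Sum.elim (fun _ : Unit => p.1.2) (Sum.elim p.1.1.1 p.1.1.2)) with hφ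
    set M : Matrix (Unit ⊕ (Fin m ⊕ Fin m)) (Unit ⊕ (Fin m ⊕ Fin m)) F :=
      LinearMap.toMatrix' φ with hM
    have hMv : ∀ x, M *ᵥ x = φ x := by
      intro x
      rw [← Matrix.toLin'_apply, hM, Matrix.toLin'_toMatrix']
    have hφx : ∀ x : Unit ⊕ (Fin m ⊕ Fin m) → F,
        φ x = (∑ i, (x (Sum.inr (Sum.inl i)) • p.1.1.1 i + x (Sum.inr (Sum.inr i)) • p.1.1.2 i)) +
          x (Sum.inl ()) • p.1.2 := by
      intro x
      rw [hφ, Fintype.linearCombination_apply, Fintype.sum_sum_type, Fintype.sum_sum_type,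
        Finset.sum_add_distrib, add_comm]
      simp
    have hQ : ∀ x, (oddQS m F).Q (M *ᵥ x) = (oddQS m F).Q x := by
      intro x
      rw [hMv, hφx, Q_frame (oddQS m F) m p.1.1.1 p.1.1.2 p.2.1 _ _ _
        (Submodule.smul_mem _ _ p.2.2.1), (oddQS m F).Q_smul, p.2.2.2, oddQS_Q]
      ring
    have hunit := isUnit_of_pres (oddQS m F) (odd_ND h2 m) M hQ
    refine ⟨⟨hunit.unit, fun u _ => hQ u⟩, ?_⟩
    apply Subtype.ext
    apply Prod.ext
    · apply Prod.ext
      · funext i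
        show M *ᵥ Pi.single (Sum.inr (Sum.inl i)) 1 = p.1.1.1 i
        rw [hMv, hφ, Fintype.linearCombination_apply_single, one_smul]
        rfl
      · funext i
        show M *ᵥ Pi.single (Sum.inr (Sum.inr i)) 1 = p.1.1.2 i
        rw [hMv, hφ, Fintype.linearCombination_apply_single, one_smul]
        rfl
    · show M *ᵥ Pi.single (Sum.inl ()) 1 = p.1.2
      rw [hMv, hφ, Fintype.linearCombination_apply_single, one_smul]
      rfl
  exact Nat.card_congr (Equiv.ofBijective Φ ⟨hinj, hsurj⟩)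

theorem card_T_odd (h2 : (2 : F) ≠ 0) (m : ℕ) :
    Nat.card {x : ((Fin m → (Unit ⊕ (Fin m ⊕ Fin m) → F)) ×
        (Fin m → (Unit ⊕ (Fin m ⊕ Fin m) → F))) × (Unit ⊕ (Fin m ⊕ Fin m) → F) //
        IsHF (oddQS m F) x.1.1 x.1.2 ∧ x.2 ∈ compl (oddQS m F) x.1.1 x.1.2 ∧
          (oddQS m F).Q x.2 = 1} =
      Nat.card {p : (Fin m → (Unit ⊕ (Fin m ⊕ Fin m) → F)) ×
        (Fin m → (Unit ⊕ (Fin m ⊕ Fin m) → F)) // IsHF (oddQS m F) p.1 p.2} * 2 := by
  have hq : 0 < Fintype.card F := Fintype.card_pos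
  apply card_fibers
    (fun x : {x : ((Fin m → (Unit ⊕ (Fin m ⊕ Fin m) → F)) ×
        (Fin m → (Unit ⊕ (Fin m ⊕ Fin m) → F))) × (Unit ⊕ (Fin m ⊕ Fin m) → F) //
        IsHF (oddQS m F) x.1.1 x.1.2 ∧ x.2 ∈ compl (oddQS m F) x.1.1 x.1.2 ∧
          (oddQS m F).Q x.2 = 1} =>
      (⟨x.1.1, x.2.1⟩ : {p : (Fin m → (Unit ⊕ (Fin m ⊕ Fin m) → F)) ×
        (Fin m → (Unit ⊕ (Fin m ⊕ Fin m) → F)) // IsHF (oddQS m F) p.1 p.2}))
  intro p
  obtain ⟨-, hS, -⟩ := std_frame (oddQS m F) 1 (fun j => Fintype.card F ^ (2 * j)) 1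
    (fun j => Fintype.card F ^ (2 * j) + Fintype.card F ^ j)
    (odd_hZ _ hq) (by simp) (odd_hZ1 _ hq) m (odd_QStd h2 m) (odd_ND h2 m) m p.1.1 p.1.2 p.2
  have h3 := hS.2.2
  rw [Nat.sub_self] at h3
  simp only [mul_zero, pow_zero] at h3
  refine (Nat.card_congr ?_).trans h3
  refine
    { toFun := fun x => ⟨x.1.1.2, ?_, x.1.2.2.2⟩
      invFun := fun w => ⟨⟨(p.1, w.1), p.2, w.2.1, w.2.2⟩, rfl⟩
      left_inv := fun x => ?_
      right_inv := fun w => rfl }
  · have h : x.1.1.1 = p.1 := congrArg Subtype.val x.2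
    rw [← h]
    exact x.1.2.2.1
  · have h : x.1.1.1 = p.1 := congrArg Subtype.val x.2
    exact Subtype.ext (Subtype.ext (Prod.ext h.symm rfl))

end

end Cfsg.Agent.Lib.Helper2.Quad
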