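import Mathlib
import Cfsg.Prelude.Def_Classical
import Cfsg.Agent.Lib.Helper1.CountForms
import Cfsg.Agent.Lib.Helper2.HermField
import Cfsg.Agent.Lib.Helper2.QuadFrame3

set_option autoImplicit false
set_option linter.style.haveILetI false
set_option linter.unusedSectionVars false

namespace Cfsg.Agent.Lib.Helper2.Quad

open Cfsg.Agent.Lib.Helper2.Herm Cfsg.Agent.Lib.Helper1 Matrix

/-- the hyperbolic form with its polar form -/
def plusQS (m : ℕ) (F : Type*) [Field F] : QS (Fin m ⊕ Fin m) F where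
  Q := Cfsg.quadFormPlus m F
  B := fun u v => ∑ i : Fin m, (u (.inl i) * v (.inr i) + u (.inr i) * v (.inl i))
  B_add_left := by
    intro u v w
    rw [← Finset.sum_add_distrib]
    apply Finset.sum_congr rfl
    intro i _
    simp only [Pi.add_apply]
    ring
  B_smul_left := by
    intro a u w
    rw [Finset.mul_sum]
    apply Finset.sum_congr rfl
    intro i _
    simp only [Pi.smul_apply, smul_eq_mul]
    ring
  B_symm := by
    intro u v
    apply Finset.sum_congr rfl
    intro i _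
    ring
  Q_add := by
    intro u v
    unfold Cfsg.quadFormPlus
    rw [← Finset.sum_add_distrib, ← Finset.sum_add_distrib]
    apply Finset.sum_congr rfl
    intro i _
    simp only [Pi.add_apply]
    ring
  Q_smul := by
    intro a u
    unfold Cfsg.quadFormPlus
    rw [Finset.mul_sum]
    apply Finset.sum_congr rfl
    intro i _
    simp only [Pi.smul_apply, smul_eq_mul]
    ring

section
variable {F : Type*} [Field F] [Fintype F]

theorem plusQS_Q (m : ℕ) (u : Fin m ⊕ Fin m → F) :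
    (plusQS m F).Q u = ∑ i : Fin m, u (.inl i) * u (.inr i) := rfl

theorem plusQS_B (m : ℕ) (u v : Fin m ⊕ Fin m → F) :
    (plusQS m F).B u v = ∑ i : Fin m, (u (.inl i) * v (.inr i) + u (.inr i) * v (.inl i)) := rfl

theorem plus_B_single_inl (m : ℕ) (i : Fin m) (v : Fin m ⊕ Fin m → F) :
    (plusQS m F).B (Pi.single (Sum.inl i) 1) v = v (Sum.inr i) := by
  rw [plusQS_B, Finset.sum_eq_single i]
  · have e1 : (Pi.single (Sum.inl i) (1 : F) : Fin m ⊕ Fin m → F) (Sum.inl i) = 1 :=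
      Pi.single_eq_same _ _
    have e2 : (Pi.single (Sum.inl i) (1 : F) : Fin m ⊕ Fin m → F) (Sum.inr i) = 0 :=
      Pi.single_eq_of_ne (by simp) _
    rw [e1, e2, one_mul, zero_mul, add_zero]
  · intro j _ hj
    have e1 : (Pi.single (Sum.inl i) (1 : F) : Fin m ⊕ Fin m → F) (Sum.inl j) = 0 :=
      Pi.single_eq_of_ne (by simpa using hj) _
    have e2 : (Pi.single (Sum.inl i) (1 : F) : Fin m ⊕ Fin m → F) (Sum.inr j) = 0 :=
      Pi.single_eq_of_ne (by simp) _
    rw [e1, e2, zero_mul, zero_mul, add_zero]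
  · intro h
    exact absurd (Finset.mem_univ i) h

theorem plus_B_single_inr (m : ℕ) (i : Fin m) (v : Fin m ⊕ Fin m → F) :
    (plusQS m F).B (Pi.single (Sum.inr i) 1) v = v (Sum.inl i) := by
  rw [plusQS_B, Finset.sum_eq_single i]
  · have e1 : (Pi.single (Sum.inr i) (1 : F) : Fin m ⊕ Fin m → F) (Sum.inr i) = 1 :=
      Pi.single_eq_same _ _
    have e2 : (Pi.single (Sum.inr i) (1 : F) : Fin m ⊕ Fin m → F) (Sum.inl i) = 0 :=
      Pi.single_eq_of_ne (by simp) _
    rw [e1, e2, one_mul, zero_mul, zero_add]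
  · intro j _ hj
    have e1 : (Pi.single (Sum.inr i) (1 : F) : Fin m ⊕ Fin m → F) (Sum.inr j) = 0 :=
      Pi.single_eq_of_ne (by simpa using hj) _
    have e2 : (Pi.single (Sum.inr i) (1 : F) : Fin m ⊕ Fin m → F) (Sum.inl j) = 0 :=
      Pi.single_eq_of_ne (by simp) _
    rw [e1, e2, zero_mul, zero_mul, add_zero]
  · intro h
    exact absurd (Finset.mem_univ i) h

theorem plus_ND (m : ℕ) : ND (plusQS m F) ⊤ := by
  intro e _ he0
  obtain ⟨t, ht⟩ := Function.ne_iff.1 he0
  rcases t with i | i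
  · refine ⟨Pi.single (Sum.inr i) 1, Submodule.mem_top, ?_⟩
    rw [plus_B_single_inr]
    exact ht
  · refine ⟨Pi.single (Sum.inl i) 1, Submodule.mem_top, ?_⟩
    rw [plus_B_single_inl]
    exact ht

/-- the standard hyperbolic frame -/
theorem plus_std_frame (m : ℕ) :
    IsHF (plusQS m F) (fun i : Fin m => (Pi.single (Sum.inl i) 1 : Fin m ⊕ Fin m → F))
      (fun i : Fin m => (Pi.single (Sum.inr i) 1 : Fin m ⊕ Fin m → F)) := by
  refine ⟨fun i => ⟨?_, ?_⟩, fun i j => ?_, fun i j hij => ⟨?_, ?_⟩⟩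
  · rw [plusQS_Q]
    apply Finset.sum_eq_zero
    intro k _
    have e2 : (Pi.single (Sum.inl i) (1 : F) : Fin m ⊕ Fin m → F) (Sum.inr k) = 0 :=
      Pi.single_eq_of_ne (by simp) _
    show (Pi.single (Sum.inl i) (1 : F) : Fin m ⊕ Fin m → F) (Sum.inl k) *
      (Pi.single (Sum.inl i) (1 : F) : Fin m ⊕ Fin m → F) (Sum.inr k) = 0
    rw [e2, mul_zero]
  · rw [plusQS_Q]
    apply Finset.sum_eq_zero
    intro k _
    have e2 : (Pi.single (Sum.inr i) (1 : F) : Fin m ⊕ Fin m → F) (Sum.inl k) = 0 :=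
      Pi.single_eq_of_ne (by simp) _
    show (Pi.single (Sum.inr i) (1 : F) : Fin m ⊕ Fin m → F) (Sum.inl k) *
      (Pi.single (Sum.inr i) (1 : F) : Fin m ⊕ Fin m → F) (Sum.inr k) = 0
    rw [e2, zero_mul]
  · show (plusQS m F).B (Pi.single (Sum.inl i) 1) (Pi.single (Sum.inr j) 1) = _
    rw [plus_B_single_inl]
    by_cases hij : i = j
    · rw [if_pos hij, hij]
      exact Pi.single_eq_same _ _
    · rw [if_neg hij]
      exact Pi.single_eq_of_ne (by simpa using hij) _
  · show (plusQS m F).B (Pi.single (Sum.inl i) 1) (Pi.single (Sum.inl j) 1) = 0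
    rw [plus_B_single_inl]
    exact Pi.single_eq_of_ne (by simp) _
  · show (plusQS m F).B (Pi.single (Sum.inr i) 1) (Pi.single (Sum.inr j) 1) = 0
    rw [plus_B_single_inr]
    exact Pi.single_eq_of_ne (by simp) _

theorem card_plus [DecidableEq F] (k : ℕ) (c : F) :
    Nat.card {w : Fin (k + 1) ⊕ Fin (k + 1) → F // (plusQS (k + 1) F).Q w = c} =
      (if c = 0 then Fintype.card F ^ (k + 1) else 0) +
        (Fintype.card F ^ (k + 1) - 1) * Fintype.card F ^ k := by
  rw [← card_pairs_dot k c]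
  apply Nat.card_congr
  exact
    { toFun := fun v => ⟨(fun i => v.1 (Sum.inl i), fun i => v.1 (Sum.inr i)), v.2⟩
      invFun := fun p => ⟨Sum.elim p.1.1 p.1.2, p.2⟩
      left_inv := fun v => by
        apply Subtype.ext
        funext x
        cases x <;> rfl
      right_inv := fun p => rfl }

/-- zero count of the hyperbolic form -/
def Zp (q : ℕ) : ℕ → ℕ
  | 0 => 1
  | (i + 1) => q ^ (i + 1) + (q ^ (i + 1) - 1) * q ^ i

theorem Zp_rec (q : ℕ) (hq : 0 < q) (j : ℕ) :
    Zp q (j + 1) = q * Zp q j + (q - 1) * q ^ (2 * j + 0) := by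
  rcases j with _ | i
  · simp [Zp]
  · have h1 : 1 ≤ q ^ (i + 1 + 1) := Nat.one_le_pow _ _ hq
    have h2 : 1 ≤ q ^ (i + 1) := Nat.one_le_pow _ _ hq
    have h3 : 1 ≤ q := hq
    show q ^ (i + 1 + 1) + (q ^ (i + 1 + 1) - 1) * q ^ (i + 1) =
      q * (q ^ (i + 1) + (q ^ (i + 1) - 1) * q ^ i) + (q - 1) * q ^ (2 * (i + 1) + 0)
    zify [h1, h2, h3]
    ring

theorem plus_QStd (m : ℕ) :
    QStd (plusQS m F) 0 (Zp (Fintype.card F)) 0 (Zp (Fintype.card F)) ⊤ m := by
  classical
  have htop : ∀ c : F, Nat.card {w : Fin m ⊕ Fin m → F //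
      w ∈ (⊤ : Submodule F (Fin m ⊕ Fin m → F)) ∧ (plusQS m F).Q w = c} =
      Nat.card {w : Fin m ⊕ Fin m → F // (plusQS m F).Q w = c} := fun c =>
    Nat.card_congr (Equiv.subtypeEquivRight
      (fun _ => ⟨fun h => h.2, fun h => ⟨Submodule.mem_top, h⟩⟩))
  have h0 : Nat.card {w : Fin m ⊕ Fin m → F //
      w ∈ (⊤ : Submodule F (Fin m ⊕ Fin m → F)) ∧ (plusQS m F).Q w = 0} =
      Zp (Fintype.card F) m := by
    rw [htop]
    rcases m with _ | k
    · have h : ∀ w : Fin 0 ⊕ Fin 0 → F, (plusQS 0 F).Q w = 0 := fun w => by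
        rw [plusQS_Q]; simp
      rw [Nat.card_congr (Equiv.subtypeUnivEquiv h)]
      simp [Zp]
    · rw [card_plus k 0, if_pos rfl]
      rfl
  refine ⟨?_, h0, h0⟩
  rw [Nat.card_congr (Equiv.subtypeUnivEquiv (fun _ => Submodule.mem_top)),
    Nat.card_eq_fintype_card, Fintype.card_fun, Fintype.card_sum, Fintype.card_fin]
  congr 1
  omega

/-- isometries of the hyperbolic form correspond to full hyperbolic frames -/
theorem card_isom_plus (m : ℕ) :
    Nat.card (Cfsg.isometryGroup F (Cfsg.quadFormPlus m F)) =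
      Nat.card {p : (Fin m → (Fin m ⊕ Fin m → F)) × (Fin m → (Fin m ⊕ Fin m → F)) //
        IsHF (plusQS m F) p.1 p.2} := by
  classical
  have hpres : ∀ g : ↥(Cfsg.isometryGroup F (Cfsg.quadFormPlus m F)),
      ∀ u, (plusQS m F).Q ((g.1 : Matrix (Fin m ⊕ Fin m) (Fin m ⊕ Fin m) F) *ᵥ u) =
        (plusQS m F).Q u := fun g u => g.2 u u
  let Φ : ↥(Cfsg.isometryGroup F (Cfsg.quadFormPlus m F)) →
      {p : (Fin m → (Fin m ⊕ Fin m → F)) × (Fin m → (Fin m ⊕ Fin m → F)) //
        IsHF (plusQS m F) p.1 p.2} := fun g =>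
    ⟨(fun i => (g.1 : Matrix (Fin m ⊕ Fin m) (Fin m ⊕ Fin m) F) *ᵥ Pi.single (Sum.inl i) 1,
      fun i => (g.1 : Matrix (Fin m ⊕ Fin m) (Fin m ⊕ Fin m) F) *ᵥ Pi.single (Sum.inr i) 1), by
      have hs := plus_std_frame (F := F) m
      refine ⟨fun i => ⟨?_, ?_⟩, fun i j => ?_, fun i j hij => ⟨?_, ?_⟩⟩
      · show (plusQS m F).Q _ = 0
        rw [hpres g]; exact (hs.1 i).1
      · show (plusQS m F).Q _ = 0
        rw [hpres g]; exact (hs.1 i).2
      · show (plusQS m F).B _ _ = _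
        rw [B_pres _ _ (hpres g)]; exact hs.2.1 i j
      · show (plusQS m F).B _ _ = _
        rw [B_pres _ _ (hpres g)]; exact (hs.2.2 i j hij).1
      · show (plusQS m F).B _ _ = _
        rw [B_pres _ _ (hpres g)]; exact (hs.2.2 i j hij).2⟩
  have hinj : Function.Injective Φ := by
    intro g g' h
    apply Subtype.ext
    apply Units.ext
    apply Matrix.ext_of_mulVec_single
    intro s
    have h1 := congrArg (fun x => x.1.1) h
    have h2 := congrArg (fun x => x.1.2) h
    rcases s with i | i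
    · exact congrFun h1 i
    · exact congrFun h2 i
  have hsurj : Function.Surjective Φ := by
    intro p
    set φ := Fintype.linearCombination F (Sum.elim p.1.1 p.1.2) with hφ
    set M : Matrix (Fin m ⊕ Fin m) (Fin m ⊕ Fin m) F := LinearMap.toMatrix' φ with hM
    have hMv : ∀ x, M *ᵥ x = φ x := by
      intro x
      rw [← Matrix.toLin'_apply, hM, Matrix.toLin'_toMatrix']
    have hφx : ∀ x : Fin m ⊕ Fin m → F,
        φ x = (∑ i, (x (Sum.inl i) • p.1.1 i + x (Sum.inr i) • p.1.2 i)) + 0 := by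
      intro x
      rw [hφ, Fintype.linearCombination_apply, Fintype.sum_sum_type, add_zero,
        Finset.sum_add_distrib]
      rfl
    have hQ : ∀ x, (plusQS m F).Q (M *ᵥ x) = (plusQS m F).Q x := by
      intro x
      rw [hMv, hφx, Q_frame (plusQS m F) m p.1.1 p.1.2 p.2 _ _ 0 (Submodule.zero_mem _), Q_zero,
        add_zero]
      rfl
    have hunit := isUnit_of_pres (plusQS m F) (plus_ND m) M hQ
    refine ⟨⟨hunit.unit, fun u _ => hQ u⟩, ?_⟩
    apply Subtype.ext
    apply Prod.ext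
    · funext i
      show M *ᵥ Pi.single (Sum.inl i) 1 = p.1.1 i
      rw [hMv, hφ, Fintype.linearCombination_apply_single, one_smul]
      rfl
    · funext i
      show M *ᵥ Pi.single (Sum.inr i) 1 = p.1.2 i
      rw [hMv, hφ, Fintype.linearCombination_apply_single, one_smul]
      rfl
  exact Nat.card_congr (Equiv.ofBijective Φ ⟨hinj, hsurj⟩)

end

end Cfsg.Agent.Lib.Helper2.Quad
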