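import Mathlib
import Cfsg.Agent.S2475
import Cfsg.Agent.S0268
import Cfsg.Agent.S1217
import Cfsg.Agent.Lib.Helper2.QuadExt

namespace Cfsg.Agent.Lib.Helper2.SL2Tori

theorem index_two_of {N : Type*} [Group N] (T : Subgroup N) (g₀ : N) (hg₀ : g₀ ∉ T)
    (h : ∀ b, b ∉ T → b * g₀ ∈ T) : T.index = 2 := by
  rw [Subgroup.index_eq_two_iff]
  refine ⟨g₀, fun b => ?_⟩
  by_cases hb : b ∈ T
  · right
    refine ⟨hb, fun hbg => hg₀ ?_⟩
    have := T.mul_mem (T.inv_mem hb) hbg
    simpa using this
  · left
    exact ⟨h b hb, hb⟩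

/-- the number of conjugacy classes of a group of dicyclic type -/
theorem dic_classes {N : Type*} [Group N] [Finite N] (T : Subgroup N) (z : N) (m : ℕ)
    (hT : Nat.card T = 2 * m) (hidx : T.index = 2) (hz1 : z ≠ 1) (hzT : z ∈ T) (hzz : z * z = 1)
    (hTcomm : ∀ s ∈ T, ∀ t ∈ T, s * t = t * s)
    (hsq : ∀ t ∈ T, t * t = 1 → t = 1 ∨ t = z)
    (hinv : ∀ g, g ∉ T → ∀ t ∈ T, g * t * g⁻¹ = t⁻¹) :
    Nat.card (ConjClasses N) = m + 3 := by
  classical
  haveI : Fintype N := Fintype.ofFinite N
  have hN : Nat.card N = 4 * m := by rw [← T.card_mul_index, hT, hidx]; ring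
  have hzinv : z⁻¹ = z := inv_eq_of_mul_eq_one_right hzz
  have hzc : ∀ h : N, Commute z h := by
    intro h
    by_cases hh : h ∈ T
    · exact hTcomm z hzT h hh
    · have h1 := hinv h hh z hzT
      rw [hzinv] at h1
      show z * h = h * z
      calc z * h = (h * z * h⁻¹) * h := by rw [h1]
        _ = h * z := by group
  have hf : ∀ g : N, Nat.card {h : N // Commute g h} =
      if g ∈ T then (if g = 1 ∨ g = z then 4 * m else 2 * m) else 4 := by
    intro g
    by_cases hg : g ∈ T
    · rw [if_pos hg]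
      by_cases hg1 : g = 1 ∨ g = z
      · rw [if_pos hg1, ← hN]
        have hall : ∀ h : N, Commute g h := by
          rcases hg1 with rfl | rfl
          · exact fun h => Commute.one_left h
          · exact hzc
        exact Nat.card_congr (Equiv.subtypeUnivEquiv hall)
      · rw [if_neg hg1, ← hT]
        apply Nat.card_congr
        apply Equiv.subtypeEquivRight
        intro h
        constructor
        · intro hc
          by_contra hh
          have h1 := hinv h hh g hg
          have h2 : h * g * h⁻¹ = g := by rw [← hc.eq]; group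
          have h3 : g * g = 1 := by
            have h4 : g⁻¹ = g := h1.symm.trans h2
            calc g * g = g⁻¹ * g := by rw [h4]
              _ = 1 := inv_mul_cancel g
          exact hg1 (hsq g hg h3)
        · intro hh
          exact hTcomm g hg h hh
    · rw [if_neg hg]
      have hgz : g * z ∉ T := fun h => hg (by
        have := T.mul_mem h (T.inv_mem hzT); simpa using this)
      have hset : ∀ h : N, Commute g h ↔ h ∈ ({1, z, g, g * z} : Finset N) := by
        intro h
        simp only [Finset.mem_insert, Finset.mem_singleton]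
        constructor
        · intro hc
          by_cases hh : h ∈ T
          · have h1 := hinv g hg h hh
            have h2 : g * h * g⁻¹ = h := by rw [hc.eq]; group
            have h3 : h * h = 1 := by
              have h4 : h⁻¹ = h := h1.symm.trans h2
              calc h * h = h⁻¹ * h := by rw [h4]
                _ = 1 := inv_mul_cancel h
            rcases hsq h hh h3 with h5 | h5
            · left; exact h5
            · right; left; exact h5
          · have ht : g⁻¹ * h ∈ T := by
              rw [Subgroup.mul_mem_iff_of_index_two hidx]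
              constructor
              · intro h1
                exact absurd (by simpa using T.inv_mem h1) hg
              · intro h1; exact absurd h1 hh
            have h1 := hinv g hg _ ht
            have h2 : g * (g⁻¹ * h) * g⁻¹ = g⁻¹ * h := by
              have h5 : h * g⁻¹ = g⁻¹ * h := by
                have h6 := hc.eq
                calc h * g⁻¹ = g⁻¹ * (g * h) * g⁻¹ := by group
                  _ = g⁻¹ * (h * g) * g⁻¹ := by rw [h6]
                  _ = g⁻¹ * h := by group
              calc g * (g⁻¹ * h) * g⁻¹ = h * g⁻¹ := by group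
                _ = g⁻¹ * h := h5
            have h3 : (g⁻¹ * h) * (g⁻¹ * h) = 1 := by
              have h4 : (g⁻¹ * h)⁻¹ = g⁻¹ * h := h1.symm.trans h2
              calc (g⁻¹ * h) * (g⁻¹ * h) = (g⁻¹ * h)⁻¹ * (g⁻¹ * h) := by rw [h4]
                _ = 1 := inv_mul_cancel _
            rcases hsq _ ht h3 with h4 | h4
            · right; right; left
              calc h = g * (g⁻¹ * h) := by group
                _ = g := by rw [h4, mul_one]
            · right; right; right
              calc h = g * (g⁻¹ * h) := by group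
                _ = g * z := by rw [h4]
        · rintro (h1 | h1 | h1 | h1)
          · rw [h1]; exact Commute.one_right g
          · rw [h1]; exact (hzc g).symm
          · rw [h1]
          · rw [h1]; exact (Commute.refl g).mul_right (hzc g).symm
      rw [Nat.card_congr (Equiv.subtypeEquivRight hset), Nat.card_eq_fintype_card,
        Fintype.card_coe]
      rw [Finset.card_insert_of_notMem, Finset.card_insert_of_notMem,
        Finset.card_insert_of_notMem, Finset.card_singleton]
      · simp only [Finset.mem_singleton]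
        intro h
        apply hz1
        have h1 : g * 1 = g * z := by rw [mul_one]; exact h
        exact (mul_left_cancel h1).symm
      · simp only [Finset.mem_insert, Finset.mem_singleton]
        rintro (h | h)
        · exact hg (h ▸ hzT)
        · exact hgz (h ▸ hzT)
      · simp only [Finset.mem_insert, Finset.mem_singleton]
        rintro (h | h | h)
        · exact hz1 h.symm
        · exact hg (h ▸ T.one_mem)
        · exact hgz (h ▸ T.one_mem)
  have key := card_comm_eq_card_conjClasses_mul_card N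
  rw [Nat.card_congr (Equiv.subtypeProdEquivSigmaSubtype (fun g h : N => Commute g h)),
    Nat.card_sigma] at key
  rw [Finset.sum_congr rfl (fun g _ => hf g), Finset.sum_ite, Finset.sum_ite, Finset.sum_const,
    Finset.sum_const, Finset.sum_const, hN] at key
  simp only [smul_eq_mul] at key
  have hcT : (Finset.univ.filter (fun g : N => g ∈ T)).card = 2 * m := by
    rw [← hT, Nat.card_eq_fintype_card, Fintype.card_subtype]
  have hc1 : ((Finset.univ.filter (fun g : N => g ∈ T)).filter
      (fun g : N => g = 1 ∨ g = z)).card = 2 := by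
    have h1 : (Finset.univ.filter (fun g : N => g ∈ T)).filter (fun g : N => g = 1 ∨ g = z) =
        {1, z} := by
      ext g
      simp only [Finset.mem_filter, Finset.mem_univ, true_and, Finset.mem_insert,
        Finset.mem_singleton]
      constructor
      · exact fun h => h.2
      · rintro (rfl | rfl)
        · exact ⟨T.one_mem, Or.inl rfl⟩
        · exact ⟨hzT, Or.inr rfl⟩
    rw [h1, Finset.card_pair hz1.symm]
  have hc12 := Finset.card_filter_add_card_filter_not
    (s := Finset.univ.filter (fun g : N => g ∈ T)) (fun g : N => g = 1 ∨ g = z)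
  have hc3 := Finset.card_filter_add_card_filter_not
    (s := (Finset.univ : Finset N)) (fun g : N => g ∈ T)
  rw [hc1, hcT] at hc12
  rw [hcT, Finset.card_univ, ← Nat.card_eq_fintype_card, hN] at hc3
  have hm0 : m ≠ 0 := by omega
  obtain ⟨j, rfl⟩ : ∃ j, m = j + 1 := ⟨m - 1, by omega⟩
  have hc2 : ((Finset.univ.filter (fun g : N => g ∈ T)).filter
      (fun g : N => ¬ (g = 1 ∨ g = z))).card = 2 * j := by omega
  have hc3' : (Finset.univ.filter (fun g : N => ¬ g ∈ T)).card = 2 * (j + 1) := by omega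
  rw [hc1, hc2, hc3'] at key
  have hpos : 0 < 4 * (j + 1) := by omega
  apply Nat.eq_of_mul_eq_mul_right hpos
  rw [← key]
  ring

theorem dic_sub {G : Type*} [Group G] (T N : Subgroup G) [Finite N] (hTN : T ≤ N) (z g₀ : G)
    (m : ℕ) (hT : Nat.card T = 2 * m) (hz1 : z ≠ 1) (hzT : z ∈ T) (hzz : z * z = 1)
    (hTcomm : ∀ s ∈ T, ∀ t ∈ T, s * t = t * s)
    (hsq : ∀ t ∈ T, t * t = 1 → t = 1 ∨ t = z)
    (hinv : ∀ g ∈ N, g ∉ T → ∀ t ∈ T, g * t * g⁻¹ = t⁻¹)
    (hg₀N : g₀ ∈ N) (hg₀T : g₀ ∉ T) (hprod : ∀ b ∈ N, b ∉ T → b * g₀ ∈ T) :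
    Nat.card N = 4 * m ∧ Nat.card (ConjClasses N) = m + 3 := by
  have hidx : (T.subgroupOf N).index = 2 := by
    apply index_two_of (T.subgroupOf N) ⟨g₀, hg₀N⟩
    · rw [Subgroup.mem_subgroupOf]; exact hg₀T
    · intro b hb
      rw [Subgroup.mem_subgroupOf] at hb ⊢
      exact hprod b.1 b.2 hb
  have hT' : Nat.card (T.subgroupOf N) = 2 * m := by
    rw [Nat.card_congr (Subgroup.subgroupOfEquivOfLe hTN).toEquiv, hT]
  constructor
  · rw [← (T.subgroupOf N).card_mul_index, hT', hidx]; ring
  · apply dic_classes (T.subgroupOf N) ⟨z, hTN hzT⟩ m hT' hidx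
    · intro h; exact hz1 (congrArg Subtype.val h)
    · rw [Subgroup.mem_subgroupOf]; exact hzT
    · apply Subtype.ext
      show z * z = 1
      exact hzz
    · intro s hs t ht
      rw [Subgroup.mem_subgroupOf] at hs ht
      apply Subtype.ext
      show (s : G) * (t : G) = (t : G) * (s : G)
      exact hTcomm s.1 hs t.1 ht
    · intro t ht htt
      rw [Subgroup.mem_subgroupOf] at ht
      have h1 : (t : G) * (t : G) = 1 := congrArg Subtype.val htt
      rcases hsq t.1 ht h1 with h | h
      · left; exact Subtype.ext h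
      · right; exact Subtype.ext h
    · intro g hg t ht
      rw [Subgroup.mem_subgroupOf] at hg ht
      apply Subtype.ext
      show (g : G) * (t : G) * (g : G)⁻¹ = (t : G)⁻¹
      exact hinv g.1 g.2 hg t.1 ht

section split

open Matrix

variable {F : Type*} [Field F]

/-- diagonal matrices -/
def dsp (F : Type*) [Field F] : Fˣ →* Matrix.SpecialLinearGroup (Fin 2) F where
  toFun r := ⟨!![(r : F), 0; 0, ((r⁻¹ : Fˣ) : F)], by rw [Matrix.det_fin_two_of]; simp⟩
  map_one' := by
    apply Subtype.ext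
    show !![((1 : Fˣ) : F), 0; 0, (((1 : Fˣ)⁻¹ : Fˣ) : F)] =
      ((1 : Matrix.SpecialLinearGroup (Fin 2) F) : Matrix (Fin 2) (Fin 2) F)
    rw [Matrix.SpecialLinearGroup.coe_one, Matrix.one_fin_two]
    apply Cfsg.Agent.S2475.ext2 <;> simp
  map_mul' r s := by
    apply Subtype.ext
    show !![((r * s : Fˣ) : F), 0; 0, (((r * s)⁻¹ : Fˣ) : F)] =
      (!![(r : F), 0; 0, ((r⁻¹ : Fˣ) : F)] : Matrix (Fin 2) (Fin 2) F) *
        !![(s : F), 0; 0, ((s⁻¹ : Fˣ) : F)]
    rw [Matrix.mul_fin_two]
    apply Cfsg.Agent.S2475.ext2 <;> simp [mul_comm]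

theorem dsp_val (r : Fˣ) : ((dsp F r : Matrix.SpecialLinearGroup (Fin 2) F) :
    Matrix (Fin 2) (Fin 2) F) = !![(r : F), 0; 0, ((r⁻¹ : Fˣ) : F)] := rfl

theorem dsp_injective : Function.Injective (dsp F) := by
  intro r s h
  have h1 := congrArg (fun g : Matrix.SpecialLinearGroup (Fin 2) F =>
    (g : Matrix (Fin 2) (Fin 2) F) 0 0) h
  simp only [dsp_val] at h1
  simp at h1
  exact Units.ext h1

/-- the split torus -/
def Tsp (F : Type*) [Field F] : Subgroup (Matrix.SpecialLinearGroup (Fin 2) F) := (dsp F).range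

theorem mem_Tsp {g : Matrix.SpecialLinearGroup (Fin 2) F} :
    g ∈ Tsp F ↔ (g : Matrix (Fin 2) (Fin 2) F) 0 1 = 0 ∧ (g : Matrix (Fin 2) (Fin 2) F) 1 0 = 0 := by
  constructor
  · rintro ⟨r, rfl⟩
    rw [dsp_val]
    simp
  · rintro ⟨h01, h10⟩
    have hdet := g.det_coe
    rw [Matrix.det_fin_two, h01, h10] at hdet
    refine ⟨⟨(g : Matrix (Fin 2) (Fin 2) F) 0 0, (g : Matrix (Fin 2) (Fin 2) F) 1 1,
      by linear_combination hdet, by linear_combination hdet⟩, ?_⟩
    apply Subtype.ext
    rw [dsp_val]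
    apply Cfsg.Agent.S2475.ext2
    · simp
    · simp [h01]
    · simp [h10]
    · simp

theorem card_Tsp [Fintype F] : Nat.card (Tsp F) = Fintype.card F - 1 := by
  show Nat.card (dsp F).range = _
  rw [← Nat.card_congr (MonoidHom.ofInjective (dsp_injective (F := F))).toEquiv, Nat.card_units,
    Nat.card_eq_fintype_card]

theorem Tsp_cyclic [Finite F] : IsCyclic (Tsp F) :=
  isCyclic_of_surjective (dsp F).rangeRestrict (dsp F).rangeRestrict_surjective

theorem Tsp_comm (s t : Matrix.SpecialLinearGroup (Fin 2) F) (hs : s ∈ Tsp F) (ht : t ∈ Tsp F) :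
    s * t = t * s := by
  obtain ⟨r, rfl⟩ := hs
  obtain ⟨r', rfl⟩ := ht
  rw [← map_mul, ← map_mul, mul_comm]

theorem diag_det {d : Matrix.SpecialLinearGroup (Fin 2) F} (hd : d ∈ Tsp F) :
    (d : Matrix (Fin 2) (Fin 2) F) 0 0 * (d : Matrix (Fin 2) (Fin 2) F) 1 1 = 1 := by
  obtain ⟨h01, h10⟩ := mem_Tsp.1 hd
  have hdet := d.det_coe
  rw [Matrix.det_fin_two, h01, h10] at hdet
  linear_combination hdet

theorem diag_ne {d : Matrix.SpecialLinearGroup (Fin 2) F} (hd : d ∈ Tsp F)
    (hda : (d : Matrix (Fin 2) (Fin 2) F) 0 0 ^ 2 ≠ 1) :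
    (d : Matrix (Fin 2) (Fin 2) F) 0 0 ≠ (d : Matrix (Fin 2) (Fin 2) F) 1 1 := by
  intro h
  apply hda
  have := diag_det hd
  rw [← h] at this
  rw [pow_two]; exact this

theorem entry_mul (g h : Matrix.SpecialLinearGroup (Fin 2) F) (i j : Fin 2) :
    ((g * h : Matrix.SpecialLinearGroup (Fin 2) F) : Matrix (Fin 2) (Fin 2) F) i j =
      (g : Matrix (Fin 2) (Fin 2) F) i 0 * (h : Matrix (Fin 2) (Fin 2) F) 0 j +
      (g : Matrix (Fin 2) (Fin 2) F) i 1 * (h : Matrix (Fin 2) (Fin 2) F) 1 j := by
  rw [Matrix.SpecialLinearGroup.coe_mul, Cfsg.Agent.S2475.mul2]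

theorem cent_diag {d : Matrix.SpecialLinearGroup (Fin 2) F} (hd : d ∈ Tsp F)
    (hda : (d : Matrix (Fin 2) (Fin 2) F) 0 0 ^ 2 ≠ 1) :
    Subgroup.centralizer ({d} : Set (Matrix.SpecialLinearGroup (Fin 2) F)) = Tsp F := by
  obtain ⟨d01, d10⟩ := mem_Tsp.1 hd
  have hne := diag_ne hd hda
  ext g
  rw [Subgroup.mem_centralizer_singleton_iff, mem_Tsp]
  constructor
  · intro h
    have e01 := congrArg (fun x : Matrix.SpecialLinearGroup (Fin 2) F =>
      (x : Matrix (Fin 2) (Fin 2) F) 0 1) h
    have e10 := congrArg (fun x : Matrix.SpecialLinearGroup (Fin 2) F =>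
      (x : Matrix (Fin 2) (Fin 2) F) 1 0) h
    simp only [entry_mul, d01, d10] at e01 e10
    constructor
    · have h1 : (g : Matrix (Fin 2) (Fin 2) F) 0 1 *
          ((d : Matrix (Fin 2) (Fin 2) F) 0 0 - (d : Matrix (Fin 2) (Fin 2) F) 1 1) = 0 := by
        linear_combination -e01
      rcases mul_eq_zero.1 h1 with h2 | h2
      · exact h2
      · exact absurd (sub_eq_zero.1 h2) hne
    · have h1 : (g : Matrix (Fin 2) (Fin 2) F) 1 0 *
          ((d : Matrix (Fin 2) (Fin 2) F) 0 0 - (d : Matrix (Fin 2) (Fin 2) F) 1 1) = 0 := by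
        linear_combination e10
      rcases mul_eq_zero.1 h1 with h2 | h2
      · exact h2
      · exact absurd (sub_eq_zero.1 h2) hne
  · intro hg
    exact Tsp_comm g d (mem_Tsp.2 hg) hd

/-- anti-diagonal matrices -/
def IsAnti (g : Matrix.SpecialLinearGroup (Fin 2) F) : Prop :=
  (g : Matrix (Fin 2) (Fin 2) F) 0 0 = 0 ∧ (g : Matrix (Fin 2) (Fin 2) F) 1 1 = 0

theorem entry_inv (g : Matrix.SpecialLinearGroup (Fin 2) F) :
    ((g⁻¹ : Matrix.SpecialLinearGroup (Fin 2) F) : Matrix (Fin 2) (Fin 2) F) =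
      !![(g : Matrix (Fin 2) (Fin 2) F) 1 1, -(g : Matrix (Fin 2) (Fin 2) F) 0 1;
        -(g : Matrix (Fin 2) (Fin 2) F) 1 0, (g : Matrix (Fin 2) (Fin 2) F) 0 0] := by
  rw [Matrix.SpecialLinearGroup.coe_inv, Matrix.adjugate_fin_two]

theorem anti_conj {g t : Matrix.SpecialLinearGroup (Fin 2) F} (hg : IsAnti g) (ht : t ∈ Tsp F) :
    g * t * g⁻¹ = t⁻¹ := by
  obtain ⟨t01, t10⟩ := mem_Tsp.1 ht
  have h1 : g * t = t⁻¹ * g := by
    apply Subtype.ext
    apply Cfsg.Agent.S2475.ext2
    all_goals
      rw [entry_mul, entry_mul, entry_inv]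
      simp [hg.1, hg.2, t01, t10]
    all_goals ring
  rw [h1]; group

theorem anti_sq {g : Matrix.SpecialLinearGroup (Fin 2) F} (hg : IsAnti g) :
    ((g * g : Matrix.SpecialLinearGroup (Fin 2) F) : Matrix (Fin 2) (Fin 2) F) = -1 := by
  have hdet := g.det_coe
  rw [Matrix.det_fin_two, hg.1, hg.2] at hdet
  apply Cfsg.Agent.S2475.ext2
  all_goals
    rw [entry_mul]
    simp [hg.1, hg.2]
  all_goals linear_combination -hdet

theorem anti_mul_anti {g h : Matrix.SpecialLinearGroup (Fin 2) F} (hg : IsAnti g) (hh : IsAnti h) :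
    g * h ∈ Tsp F := by
  rw [mem_Tsp, entry_mul, entry_mul, hg.1, hg.2, hh.1, hh.2]
  simp

theorem norm_Tsp [Finite F] (hex : ∃ d ∈ Tsp F, (d : Matrix (Fin 2) (Fin 2) F) 0 0 ^ 2 ≠ 1)
    (g : Matrix.SpecialLinearGroup (Fin 2) F) :
    g ∈ Subgroup.normalizer ((Tsp F : Subgroup (Matrix.SpecialLinearGroup (Fin 2) F)) : Set _) ↔
      g ∈ Tsp F ∨ IsAnti g := by
  obtain ⟨d, hd, hda⟩ := hex
  obtain ⟨d01, d10⟩ := mem_Tsp.1 hd
  have hne := diag_ne hd hda
  constructor
  · intro hg
    have he : g * d * g⁻¹ ∈ Tsp F := (Subgroup.mem_normalizer_iff.1 hg d).1 hd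
    obtain ⟨e, hedef⟩ : ∃ e, e = g * d * g⁻¹ := ⟨_, rfl⟩
    rw [← hedef] at he
    obtain ⟨e01, e10⟩ := mem_Tsp.1 he
    have hgd : g * d = e * g := by rw [hedef]; group
    have q00 := congrArg (fun x : Matrix.SpecialLinearGroup (Fin 2) F =>
      (x : Matrix (Fin 2) (Fin 2) F) 0 0) hgd
    have q01 := congrArg (fun x : Matrix.SpecialLinearGroup (Fin 2) F =>
      (x : Matrix (Fin 2) (Fin 2) F) 0 1) hgd
    have q10 := congrArg (fun x : Matrix.SpecialLinearGroup (Fin 2) F =>
      (x : Matrix (Fin 2) (Fin 2) F) 1 0) hgd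
    have q11 := congrArg (fun x : Matrix.SpecialLinearGroup (Fin 2) F =>
      (x : Matrix (Fin 2) (Fin 2) F) 1 1) hgd
    simp only [entry_mul, d01, d10, e01, e10, mul_zero, zero_mul, add_zero, zero_add] at q00 q01 q10 q11
    have hdet := g.det_coe
    rw [Matrix.det_fin_two] at hdet
    by_cases g00 : (g : Matrix (Fin 2) (Fin 2) F) 0 0 = 0
    · right
      refine ⟨g00, ?_⟩
      rw [g00] at hdet
      have g01 : (g : Matrix (Fin 2) (Fin 2) F) 0 1 ≠ 0 := by
        intro h; rw [h] at hdet; simp at hdet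
      have g10 : (g : Matrix (Fin 2) (Fin 2) F) 1 0 ≠ 0 := by
        intro h; rw [h] at hdet; simp at hdet
      have h1 : (e : Matrix (Fin 2) (Fin 2) F) 0 0 = (d : Matrix (Fin 2) (Fin 2) F) 1 1 := by
        apply mul_right_cancel₀ g01
        linear_combination -q01
      have h2 : (e : Matrix (Fin 2) (Fin 2) F) 1 1 = (d : Matrix (Fin 2) (Fin 2) F) 0 0 := by
        apply mul_right_cancel₀ g10
        linear_combination -q10
      by_contra g11
      apply hne
      rw [← h2]
      apply mul_right_cancel₀ g11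
      linear_combination -q11
    · left
      rw [mem_Tsp]
      have h1 : (e : Matrix (Fin 2) (Fin 2) F) 0 0 = (d : Matrix (Fin 2) (Fin 2) F) 0 0 := by
        apply mul_right_cancel₀ g00
        linear_combination -q00
      have g01 : (g : Matrix (Fin 2) (Fin 2) F) 0 1 = 0 := by
        by_contra g01
        apply hne
        rw [← h1]
        apply mul_right_cancel₀ g01
        linear_combination -q01
      rw [g01] at hdet
      have g11 : (g : Matrix (Fin 2) (Fin 2) F) 1 1 ≠ 0 := by
        intro h; rw [h] at hdet; simp at hdet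
      have h2 : (e : Matrix (Fin 2) (Fin 2) F) 1 1 = (d : Matrix (Fin 2) (Fin 2) F) 1 1 := by
        apply mul_right_cancel₀ g11
        linear_combination -q11
      refine ⟨g01, ?_⟩
      by_contra g10
      apply hne
      rw [← h2]
      apply mul_right_cancel₀ g10
      linear_combination q10
  · rintro (hg | hg)
    · exact Subgroup.le_normalizer hg
    · apply Subgroup.mem_normalizer_fintype
      intro t ht
      rw [SetLike.mem_coe] at ht ⊢
      rw [anti_conj hg ht]
      exact (Tsp F).inv_mem ht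

end split

end Cfsg.Agent.Lib.Helper2.SL2Tori
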