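import Mathlib
import Cfsg.Agent.Lib.Helper2.SL2Tori

set_option linter.style.haveILetI false
set_option linter.unusedSectionVars false

namespace Cfsg.Agent.Lib.Helper2.SL2Nonsplit

open Matrix QuadraticAlgebra Cfsg.Agent.Lib.Helper2.Quad Cfsg.Agent.Lib.Helper2.SL2Tori
open Cfsg.Agent.S1217 (Mat Mat_apply Mat_injective)

section
variable {F : Type*} [Field F]

/-- the norm form -/
def nf (a b : F) (z : QuadraticAlgebra F (-b) a) : F :=
  z.re ^ 2 + a * z.re * z.im + b * z.im ^ 2

theorem det_Mat (a b : F) (z : QuadraticAlgebra F (-b) a) : (Mat a b z).det = nf a b z := by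
  rw [Mat_apply, Matrix.det_fin_two_of]; unfold nf; ring

theorem norm_eq (a b : F) (z : QuadraticAlgebra F (-b) a) :
    QuadraticAlgebra.norm z = nf a b z := by
  rw [QuadraticAlgebra.norm_def]; unfold nf; ring

theorem mul_star_eq (a b : F) (z : QuadraticAlgebra F (-b) a) :
    z * star z = algebraMap F _ (nf a b z) := by
  rw [← norm_eq, algebraMap_norm_eq_mul_star]

theorem nf_star (a b : F) (z : QuadraticAlgebra F (-b) a) : nf a b (star z) = nf a b z := by
  unfold nf
  rw [re_star, im_star]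
  ring

theorem Mat_algebraMap (a b c : F) :
    Mat a b (algebraMap F _ c) = !![c, 0; 0, c] := by
  rw [Mat_apply]
  apply Cfsg.Agent.S2475.ext2 <;> simp [algebraMap_re, algebraMap_im]

theorem Mat_mul_star (a b : F) (z : QuadraticAlgebra F (-b) a) (h : nf a b z = 1) :
    Mat a b z * Mat a b (star z) = 1 := by
  rw [← map_mul, mul_star_eq, h, map_one, map_one]

/-- the matrix of the conjugation -/
def Ym (a : F) : Matrix (Fin 2) (Fin 2) F := !![1, a; 0, -1]

theorem Ym_sq (a : F) : Ym a * Ym a = 1 := by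
  unfold Ym
  rw [Matrix.mul_fin_two, Matrix.one_fin_two]
  apply Cfsg.Agent.S2475.ext2 <;> simp

theorem Ym_det (a : F) : (Ym a).det = -1 := by
  unfold Ym
  rw [Matrix.det_fin_two_of]; ring

theorem Ym_star (a b : F) (z : QuadraticAlgebra F (-b) a) :
    Ym a * Mat a b z = Mat a b (star z) * Ym a := by
  unfold Ym
  rw [Mat_apply, Mat_apply, Matrix.mul_fin_two, Matrix.mul_fin_two]
  apply Cfsg.Agent.S2475.ext2 <;> simp [re_star, im_star] <;> ring

theorem Ym_conj (a b : F) (z : QuadraticAlgebra F (-b) a) :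
    Ym a * Mat a b z * Ym a = Mat a b (star z) := by
  rw [Ym_star, Matrix.mul_assoc, Ym_sq, Matrix.mul_one]

theorem commutant (a b : F) (z : QuadraticAlgebra F (-b) a) (hz : z.im ≠ 0)
    (X : Matrix (Fin 2) (Fin 2) F) (hX : X * Mat a b z = Mat a b z * X) :
    ∃ w : QuadraticAlgebra F (-b) a, X = Mat a b w := by
  refine ⟨⟨X 0 0, X 1 0⟩, ?_⟩
  rw [Mat_apply] at hX
  have e00 := congrFun (congrFun hX 0) 0
  have e10 := congrFun (congrFun hX 1) 0
  rw [Cfsg.Agent.S2475.mul2, Cfsg.Agent.S2475.mul2] at e00 e10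
  simp at e00 e10
  rw [Mat_apply]
  apply Cfsg.Agent.S2475.ext2
  · simp
  · simp
    apply mul_right_cancel₀ hz
    linear_combination e00
  · simp
  · simp
    apply mul_right_cancel₀ hz
    linear_combination e10

/-- the norm one group -/
def normOne (a b : F) : Subgroup (QuadraticAlgebra F (-b) a)ˣ :=
  (Units.map (QuadraticAlgebra.norm : QuadraticAlgebra F (-b) a →* F)).ker

theorem mem_normOne {a b : F} {u : (QuadraticAlgebra F (-b) a)ˣ} :
    u ∈ normOne a b ↔ nf a b (u : QuadraticAlgebra F (-b) a) = 1 := by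
  unfold normOne
  rw [MonoidHom.mem_ker, Units.ext_iff, Units.coe_map, Units.val_one, ← norm_eq]

/-- the non-split torus as a homomorphic image -/
def psi (a b : F) : normOne a b →* Matrix.SpecialLinearGroup (Fin 2) F where
  toFun u := ⟨Mat a b ((u : (QuadraticAlgebra F (-b) a)ˣ) : QuadraticAlgebra F (-b) a), by
    rw [det_Mat]; exact mem_normOne.1 u.2⟩
  map_one' := by
    apply Subtype.ext
    show Mat a b (((1 : normOne a b) : (QuadraticAlgebra F (-b) a)ˣ) :
      QuadraticAlgebra F (-b) a) = ((1 : Matrix.SpecialLinearGroup (Fin 2) F) :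
      Matrix (Fin 2) (Fin 2) F)
    rw [Subgroup.coe_one, Units.val_one, map_one, Matrix.SpecialLinearGroup.coe_one]
  map_mul' u v := by
    apply Subtype.ext
    show Mat a b (((u * v : normOne a b) : (QuadraticAlgebra F (-b) a)ˣ) :
      QuadraticAlgebra F (-b) a) = Mat a b _ * Mat a b _
    rw [Subgroup.coe_mul, Units.val_mul, map_mul]

theorem psi_val (a b : F) (u : normOne a b) :
    ((psi a b u : Matrix.SpecialLinearGroup (Fin 2) F) : Matrix (Fin 2) (Fin 2) F) =
      Mat a b ((u : (QuadraticAlgebra F (-b) a)ˣ) : QuadraticAlgebra F (-b) a) := rfl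

theorem psi_injective (a b : F) : Function.Injective (psi a b) := by
  intro u v h
  have h1 := congrArg (fun g : Matrix.SpecialLinearGroup (Fin 2) F =>
    (g : Matrix (Fin 2) (Fin 2) F)) h
  simp only [psi_val] at h1
  exact Subtype.ext (Units.ext (Mat_injective a b h1))

/-- the non-split torus -/
def Tns (a b : F) : Subgroup (Matrix.SpecialLinearGroup (Fin 2) F) := (psi a b).range

theorem mem_Tns {a b : F} {g : Matrix.SpecialLinearGroup (Fin 2) F} :
    g ∈ Tns a b ↔ ∃ z : QuadraticAlgebra F (-b) a, (g : Matrix (Fin 2) (Fin 2) F) = Mat a b z := by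
  constructor
  · rintro ⟨u, rfl⟩
    exact ⟨_, psi_val a b u⟩
  · rintro ⟨z, hz⟩
    have hnf : nf a b z = 1 := by
      rw [← det_Mat, ← hz]; exact g.det_coe
    have h1 : z * star z = 1 := by rw [mul_star_eq, hnf, map_one]
    have h2 : star z * z = 1 := by rw [mul_comm]; exact h1
    refine ⟨⟨⟨z, star z, h1, h2⟩, mem_normOne.2 hnf⟩, ?_⟩
    apply Subtype.ext
    rw [psi_val]
    exact hz.symm

theorem Tns_comm {a b : F} (s t : Matrix.SpecialLinearGroup (Fin 2) F) (hs : s ∈ Tns a b)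
    (ht : t ∈ Tns a b) : s * t = t * s := by
  obtain ⟨u, rfl⟩ := hs
  obtain ⟨v, rfl⟩ := ht
  rw [← map_mul, ← map_mul, mul_comm]

theorem nf_of_mem {a b : F} {g : Matrix.SpecialLinearGroup (Fin 2) F}
    {z : QuadraticAlgebra F (-b) a} (hz : (g : Matrix (Fin 2) (Fin 2) F) = Mat a b z) :
    nf a b z = 1 := by
  rw [← det_Mat, ← hz]; exact g.det_coe

/-- elements of the torus other than `±1` have non-zero imaginary part -/
theorem im_ne_zero {a b : F} {g : Matrix.SpecialLinearGroup (Fin 2) F}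
    {z : QuadraticAlgebra F (-b) a} (hz : (g : Matrix (Fin 2) (Fin 2) F) = Mat a b z)
    (h1 : (g : Matrix (Fin 2) (Fin 2) F) ≠ 1) (h2 : (g : Matrix (Fin 2) (Fin 2) F) ≠ -1) :
    z.im ≠ 0 := by
  intro him
  have hnf := nf_of_mem hz
  unfold nf at hnf
  rw [him] at hnf
  have h3 : (z.re - 1) * (z.re + 1) = 0 := by linear_combination hnf
  rcases mul_eq_zero.1 h3 with h | h
  · apply h1
    rw [hz, Mat_apply, him, sub_eq_zero.1 h, Matrix.one_fin_two]
    apply Cfsg.Agent.S2475.ext2 <;> simp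
  · apply h2
    rw [hz, Mat_apply, him, eq_neg_of_add_eq_zero_left h]
    apply Cfsg.Agent.S2475.ext2 <;> simp

theorem cent_ns {a b : F} {t : Matrix.SpecialLinearGroup (Fin 2) F} (ht : t ∈ Tns a b)
    (h1 : (t : Matrix (Fin 2) (Fin 2) F) ≠ 1) (h2 : (t : Matrix (Fin 2) (Fin 2) F) ≠ -1) :
    Subgroup.centralizer ({t} : Set (Matrix.SpecialLinearGroup (Fin 2) F)) = Tns a b := by
  obtain ⟨z, hz⟩ := mem_Tns.1 ht
  have him := im_ne_zero hz h1 h2
  ext g
  rw [Subgroup.mem_centralizer_singleton_iff]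
  constructor
  · intro h
    have h3 := congrArg (fun x : Matrix.SpecialLinearGroup (Fin 2) F =>
      (x : Matrix (Fin 2) (Fin 2) F)) h
    simp only [Matrix.SpecialLinearGroup.coe_mul, hz] at h3
    obtain ⟨w, hw⟩ := commutant a b z him _ h3
    exact mem_Tns.2 ⟨w, hw⟩
  · intro hg
    exact Tns_comm g t hg ht

/-- the other coset of the normaliser -/
def IsAntiNs (a b : F) (g : Matrix.SpecialLinearGroup (Fin 2) F) : Prop :=
  ∃ w : QuadraticAlgebra F (-b) a, (g : Matrix (Fin 2) (Fin 2) F) = Ym a * Mat a b w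

theorem nf_anti {a b : F} {g : Matrix.SpecialLinearGroup (Fin 2) F}
    {w : QuadraticAlgebra F (-b) a} (hw : (g : Matrix (Fin 2) (Fin 2) F) = Ym a * Mat a b w) :
    nf a b w = -1 := by
  have h := g.det_coe
  rw [hw, Matrix.det_mul, Ym_det, det_Mat] at h
  linear_combination -h

theorem ns_conj {a b : F} {g t : Matrix.SpecialLinearGroup (Fin 2) F} (hg : IsAntiNs a b g)
    (ht : t ∈ Tns a b) : g * t * g⁻¹ = t⁻¹ := by
  obtain ⟨w, hw⟩ := hg
  obtain ⟨z, hz⟩ := mem_Tns.1 ht
  have hnf := nf_of_mem hz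
  obtain ⟨t', ht'⟩ : ∃ t' : Matrix.SpecialLinearGroup (Fin 2) F,
      (t' : Matrix (Fin 2) (Fin 2) F) = Mat a b (star z) :=
    ⟨⟨Mat a b (star z), by rw [det_Mat, nf_star, hnf]⟩, rfl⟩
  have h1 : t * t' = 1 := by
    apply Subtype.ext
    rw [Matrix.SpecialLinearGroup.coe_mul, hz, ht', Mat_mul_star a b z hnf,
      Matrix.SpecialLinearGroup.coe_one]
  have h2 : t⁻¹ = t' := inv_eq_of_mul_eq_one_right h1
  have h3 : g * t = t' * g := by
    apply Subtype.ext
    rw [Matrix.SpecialLinearGroup.coe_mul, Matrix.SpecialLinearGroup.coe_mul, hw, hz, ht',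
      Matrix.mul_assoc, ← map_mul, mul_comm w z, map_mul, ← Matrix.mul_assoc, Ym_star,
      Matrix.mul_assoc]
  rw [h3, h2]; group

theorem ns_sq {a b : F} {g : Matrix.SpecialLinearGroup (Fin 2) F} (hg : IsAntiNs a b g) :
    ((g * g : Matrix.SpecialLinearGroup (Fin 2) F) : Matrix (Fin 2) (Fin 2) F) = -1 := by
  obtain ⟨w, hw⟩ := hg
  have hnf := nf_anti hw
  rw [Matrix.SpecialLinearGroup.coe_mul, hw]
  calc Ym a * Mat a b w * (Ym a * Mat a b w)
      = (Ym a * Mat a b w * Ym a) * Mat a b w := by simp only [Matrix.mul_assoc]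
    _ = Mat a b (star w * w) := by rw [Ym_conj, map_mul]
    _ = -1 := by
        rw [mul_comm, mul_star_eq, hnf, Mat_algebraMap]
        apply Cfsg.Agent.S2475.ext2 <;> simp

theorem ns_mul_anti {a b : F} {g h : Matrix.SpecialLinearGroup (Fin 2) F}
    (hg : IsAntiNs a b g) (hh : IsAntiNs a b h) : g * h ∈ Tns a b := by
  obtain ⟨w, hw⟩ := hg
  obtain ⟨w', hw'⟩ := hh
  rw [mem_Tns]
  refine ⟨star w * w', ?_⟩
  rw [Matrix.SpecialLinearGroup.coe_mul, hw, hw']
  calc Ym a * Mat a b w * (Ym a * Mat a b w')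
      = (Ym a * Mat a b w * Ym a) * Mat a b w' := by simp only [Matrix.mul_assoc]
    _ = Mat a b (star w * w') := by rw [Ym_conj, map_mul]

end

section finite
variable {F : Type*} [Field F] [Fintype F]

theorem exists_nf {a b : F} (hab : Aniso a b) (c : F) (hc : c ≠ 0) :
    ∃ u : QuadraticAlgebra F (-b) a, nf a b u = c := by
  have h := card_norm_eq hab c hc
  have hpos : 0 < Nat.card {z : QuadraticAlgebra F (-b) a //
      z.re ^ 2 + a * z.re * z.im + b * z.im ^ 2 = c} := by omega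
  obtain ⟨u⟩ := (Nat.card_pos_iff.1 hpos).1
  exact ⟨u.1, u.2⟩

theorem card_Tns {a b : F} (hab : Aniso a b) : Nat.card (Tns a b) = Fintype.card F + 1 := by
  show Nat.card (psi a b).range = _
  rw [← Nat.card_congr (MonoidHom.ofInjective (psi_injective a b)).toEquiv,
    ← card_norm_eq hab 1 one_ne_zero]
  apply Nat.card_congr
  exact
    { toFun := fun u => ⟨((u : (QuadraticAlgebra F (-b) a)ˣ) : QuadraticAlgebra F (-b) a),
        mem_normOne.1 u.2⟩
      invFun := fun z =>
        have h1 : z.1 * star z.1 = 1 := by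
          rw [mul_star_eq]
          have := z.2
          unfold nf
          rw [this, map_one]
        ⟨⟨z.1, star z.1, h1, by rw [mul_comm]; exact h1⟩, mem_normOne.2 z.2⟩
      left_inv := fun u => Subtype.ext (Units.ext rfl)
      right_inv := fun z => rfl }

theorem Tns_cyclic {a b : F} (hab : Aniso a b) : IsCyclic (Tns a b) := by
  haveI := aniso_fact hab
  haveI := qa_finite (F := F) (-b) a
  exact isCyclic_of_surjective (psi a b).rangeRestrict (psi a b).rangeRestrict_surjective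

theorem exists_anti {a b : F} (hab : Aniso a b) :
    ∃ g : Matrix.SpecialLinearGroup (Fin 2) F, IsAntiNs a b g := by
  obtain ⟨w, hw⟩ := exists_nf hab (-1) (by simp)
  exact ⟨⟨Ym a * Mat a b w, by rw [Matrix.det_mul, Ym_det, det_Mat, hw]; ring⟩, w, rfl⟩

theorem exists_t0 {a b : F} (hab : Aniso a b) (hq : 3 ≤ Fintype.card F) :
    ∃ t ∈ Tns a b, (t : Matrix (Fin 2) (Fin 2) F) ≠ 1 ∧ (t : Matrix (Fin 2) (Fin 2) F) ≠ -1 := by
  classical
  by_contra hcon
  push Not at hcon
  have hinj : Function.Injective (fun t : Tns a b =>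
      decide (((t : Matrix.SpecialLinearGroup (Fin 2) F) : Matrix (Fin 2) (Fin 2) F) = 1)) := by
    intro s t hst
    apply Subtype.ext
    apply Subtype.ext
    by_cases hs : ((s : Matrix.SpecialLinearGroup (Fin 2) F) : Matrix (Fin 2) (Fin 2) F) = 1
    · have ht : ((t : Matrix.SpecialLinearGroup (Fin 2) F) : Matrix (Fin 2) (Fin 2) F) = 1 := by
        simpa [hs] using hst
      rw [hs, ht]
    · have ht : ((t : Matrix.SpecialLinearGroup (Fin 2) F) : Matrix (Fin 2) (Fin 2) F) ≠ 1 := by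
        simpa [hs] using hst
      rw [hcon s.1 s.2 hs, hcon t.1 t.2 ht]
  have h1 := Nat.card_le_card_of_injective _ hinj
  rw [card_Tns hab, Nat.card_eq_fintype_card, Fintype.card_bool] at h1
  omega

theorem anti_not_mem {a b : F} (hab : Aniso a b) (hodd : Odd (Fintype.card F))
    {g : Matrix.SpecialLinearGroup (Fin 2) F} (hg : IsAntiNs a b g) : g ∉ Tns a b := by
  intro hgT
  have hq : 3 ≤ Fintype.card F := by
    have h1 : 1 < Fintype.card F := Fintype.one_lt_card
    obtain ⟨c, hc⟩ := hodd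
    omega
  obtain ⟨t, ht, ht1, ht2⟩ := exists_t0 hab hq
  have h1 := ns_conj hg ht
  have h2 : g * t * g⁻¹ = t := by rw [Tns_comm g t hgT ht]; group
  have h3 : t * t = 1 := by
    have h4 : t⁻¹ = t := h1.symm.trans h2
    calc t * t = t⁻¹ * t := by rw [h4]
      _ = 1 := inv_mul_cancel t
  exact ht2 (Cfsg.Agent.S0268.result hodd t (fun h => ht1 (by rw [h]; rfl)) h3)

theorem norm_ns {a b : F} (hab : Aniso a b) (hq : 3 ≤ Fintype.card F)
    (g : Matrix.SpecialLinearGroup (Fin 2) F) :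
    g ∈ Subgroup.normalizer ((Tns a b : Subgroup (Matrix.SpecialLinearGroup (Fin 2) F)) : Set _) ↔
      g ∈ Tns a b ∨ IsAntiNs a b g := by
  haveI := aniso_fact hab
  constructor
  · intro hg
    obtain ⟨t, ht, ht1, ht2⟩ := exists_t0 hab hq
    obtain ⟨z, hz⟩ := mem_Tns.1 ht
    have him := im_ne_zero hz ht1 ht2
    have he : g * t * g⁻¹ ∈ Tns a b := (Subgroup.mem_normalizer_iff.1 hg t).1 ht
    obtain ⟨e, hedef⟩ : ∃ e, e = g * t * g⁻¹ := ⟨_, rfl⟩
    rw [← hedef] at he
    obtain ⟨z', hz'⟩ := mem_Tns.1 he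
    have hgt : g * t = e * g := by rw [hedef]; group
    have hgtm : (g : Matrix (Fin 2) (Fin 2) F) * Mat a b z = Mat a b z' * (g : Matrix (Fin 2) (Fin 2) F) := by
      have := congrArg (fun x : Matrix.SpecialLinearGroup (Fin 2) F =>
        (x : Matrix (Fin 2) (Fin 2) F)) hgt
      simp only [Matrix.SpecialLinearGroup.coe_mul, hz, hz'] at this
      exact this
    have htr : (Mat a b z').trace = (Mat a b z).trace := by
      rw [← hz', ← hz, hedef, Matrix.SpecialLinearGroup.coe_mul, Matrix.SpecialLinearGroup.coe_mul,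
        Matrix.trace_mul_cycle, ← Matrix.SpecialLinearGroup.coe_mul, inv_mul_cancel,
        Matrix.SpecialLinearGroup.coe_one, Matrix.one_mul]
    rw [Mat_apply, Mat_apply, Matrix.trace_fin_two_of, Matrix.trace_fin_two_of] at htr
    have hnf := nf_of_mem hz
    have hnf' := nf_of_mem hz'
    have s1 : z' + star z' = z + star z := by
      apply QuadraticAlgebra.ext
      · rw [re_add, re_add, re_star, re_star]; linear_combination htr
      · rw [im_add, im_add, im_star, im_star]; ring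
    have p1 : z' * star z' = 1 := by rw [mul_star_eq, hnf', map_one]
    have p0 : z * star z = 1 := by rw [mul_star_eq, hnf, map_one]
    have hprod : (z' - z) * (z' - star z) = 0 := by
      linear_combination z' * s1 - p1 + p0
    rcases mul_eq_zero.1 hprod with h | h
    · left
      have hzz : z' = z := sub_eq_zero.1 h
      have het : e = t := by
        apply Subtype.ext
        rw [hz', hz, hzz]
      rw [het] at hgt
      rw [← cent_ns ht ht1 ht2, Subgroup.mem_centralizer_singleton_iff]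
      exact hgt
    · right
      have hzz : z' = star z := sub_eq_zero.1 h
      rw [hzz] at hgtm
      have hX : (Ym a * (g : Matrix (Fin 2) (Fin 2) F)) * Mat a b z =
          Mat a b z * (Ym a * (g : Matrix (Fin 2) (Fin 2) F)) := by
        rw [Matrix.mul_assoc, hgtm, ← Matrix.mul_assoc, Ym_star, star_star, Matrix.mul_assoc]
      obtain ⟨w, hw⟩ := commutant a b z him _ hX
      refine ⟨w, ?_⟩
      rw [← hw, ← Matrix.mul_assoc, Ym_sq, Matrix.one_mul]
  · rintro (hg | hg)
    · exact Subgroup.le_normalizer hg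
    · apply Subgroup.mem_normalizer_fintype
      intro t ht
      rw [SetLike.mem_coe] at ht ⊢
      rw [ns_conj hg ht]
      exact (Tns a b).inv_mem ht

theorem mulVec2 (M : Matrix (Fin 2) (Fin 2) F) (v : Fin 2 → F) (i : Fin 2) :
    (M *ᵥ v) i = M i 0 * v 0 + M i 1 * v 1 := by
  rw [Matrix.mulVec, dotProduct, Fin.sum_univ_two]

/-- elements without eigenvectors are conjugate into the non-split torus -/
theorem conj_into {a b : F} (hab : Aniso a b) (g : Matrix.SpecialLinearGroup (Fin 2) F)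
    (hne : ∀ (c : F) (v : Fin 2 → F), v ≠ 0 → (g : Matrix (Fin 2) (Fin 2) F).mulVec v ≠ c • v) :
    ∃ h : Matrix.SpecialLinearGroup (Fin 2) F, h * g * h⁻¹ ∈ Tns a b := by
  obtain ⟨α, hα⟩ : ∃ α, α = (g : Matrix (Fin 2) (Fin 2) F) 0 0 := ⟨_, rfl⟩
  obtain ⟨β, hβ⟩ : ∃ β, β = (g : Matrix (Fin 2) (Fin 2) F) 0 1 := ⟨_, rfl⟩
  obtain ⟨γ, hγ⟩ : ∃ γ, γ = (g : Matrix (Fin 2) (Fin 2) F) 1 0 := ⟨_, rfl⟩
  obtain ⟨δ, hδ⟩ : ∃ δ, δ = (g : Matrix (Fin 2) (Fin 2) F) 1 1 := ⟨_, rfl⟩
  have hdet : α * δ - β * γ = 1 := by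
    have := g.det_coe
    rw [Matrix.det_fin_two, ← hα, ← hβ, ← hγ, ← hδ] at this
    exact this
  have hγ0 : γ ≠ 0 := by
    intro h0
    apply hne α ![1, 0] (by intro h; have := congrFun h 0; simp at this)
    funext i
    fin_cases i
    · simp [mulVec2, ← hα]
    · simp [mulVec2, ← hγ, h0]
  have hβ0 : β ≠ 0 := by
    intro h0
    apply hne δ ![0, 1] (by intro h; have := congrFun h 1; simp at this)
    funext i
    fin_cases i
    · simp [mulVec2, ← hβ, h0]
    · simp [mulVec2, ← hδ]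
  -- anisotropy of the characteristic polynomial
  have hchar : Aniso (α + δ) 1 := by
    intro z₁ z₂ hz
    by_cases hz2 : z₂ = 0
    · rw [hz2] at hz
      have : z₁ ^ 2 = 0 := by linear_combination hz
      exact ⟨(pow_eq_zero_iff two_ne_zero).1 this, hz2⟩
    · exfalso
      -- `r = -z₁/z₂` is a root of `X² - tX + 1`
      obtain ⟨r, hr⟩ : ∃ r, r = -z₁ / z₂ := ⟨_, rfl⟩
      have hroot : r ^ 2 - (α + δ) * r + 1 = 0 := by
        rw [hr]
        field_simp
        linear_combination hz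
      apply hne r ![β, r - α] (by intro h; have := congrFun h 0; simp at this; exact hβ0 this)
      funext i
      fin_cases i
      · simp [mulVec2, ← hα, ← hβ]
        ring
      · simp [mulVec2, ← hγ, ← hδ]
        linear_combination (-1 : F) * hroot - hdet
  obtain ⟨w, hw⟩ := exists_root hchar hab
  have hre := congrArg QuadraticAlgebra.re hw
  have him := congrArg QuadraticAlgebra.im hw
  rw [re_mul, re_add, re_mul, algebraMap_re, algebraMap_re, algebraMap_im] at hre
  rw [im_mul, im_add, im_mul, algebraMap_re, algebraMap_im, algebraMap_im] at him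
  obtain ⟨r, hr⟩ : ∃ r, r = w.re := ⟨_, rfl⟩
  obtain ⟨s, hs⟩ : ∃ s, s = w.im := ⟨_, rfl⟩
  rw [← hr, ← hs] at hre him
  have hs0 : s ≠ 0 := by
    intro h0
    rw [h0] at hre
    have := hchar (-r) 1 (by linear_combination hre)
    exact one_ne_zero this.2
  have htr : 2 * r + a * s = α + δ := by
    apply mul_right_cancel₀ hs0
    linear_combination him
  have hnorm : r ^ 2 + a * r * s + b * s ^ 2 = 1 := by
    linear_combination (-1 : F) * hre + r * htr
  have hnfw : nf a b w = 1 := by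
    unfold nf; rw [← hr, ← hs]; exact hnorm
  have hH : (!![γ, r - α; 0, s] : Matrix (Fin 2) (Fin 2) F) * (g : Matrix (Fin 2) (Fin 2) F) =
      Mat a b w * !![γ, r - α; 0, s] := by
    have hg : (g : Matrix (Fin 2) (Fin 2) F) = !![α, β; γ, δ] := by
      apply Cfsg.Agent.S2475.ext2 <;> simp [hα, hβ, hγ, hδ]
    rw [hg, Mat_apply, ← hr, ← hs, Matrix.mul_fin_two, Matrix.mul_fin_two]
    apply Cfsg.Agent.S2475.ext2
    · simp; ring
    · simp; linear_combination (-1 : F) * hdet + hnorm - r * htr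
    · simp
    · simp; linear_combination (-s) * htr
  have hγs : γ * s ≠ 0 := mul_ne_zero hγ0 hs0
  obtain ⟨u, hu⟩ := exists_nf hab (γ * s)⁻¹ (inv_ne_zero hγs)
  obtain ⟨h, hh⟩ : ∃ h : Matrix.SpecialLinearGroup (Fin 2) F,
      (h : Matrix (Fin 2) (Fin 2) F) = Mat a b u * !![γ, r - α; 0, s] :=
    ⟨⟨Mat a b u * !![γ, r - α; 0, s], by
      rw [Matrix.det_mul, det_Mat, hu, Matrix.det_fin_two_of, mul_zero, sub_zero]
      exact inv_mul_cancel₀ hγs⟩, rfl⟩
  obtain ⟨tw, htw⟩ : ∃ tw : Matrix.SpecialLinearGroup (Fin 2) F,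
      (tw : Matrix (Fin 2) (Fin 2) F) = Mat a b w :=
    ⟨⟨Mat a b w, by rw [det_Mat, hnfw]⟩, rfl⟩
  refine ⟨h, ?_⟩
  have hconj : h * g = tw * h := by
    apply Subtype.ext
    rw [Matrix.SpecialLinearGroup.coe_mul, Matrix.SpecialLinearGroup.coe_mul, hh, htw,
      Matrix.mul_assoc, hH, ← Matrix.mul_assoc, ← Matrix.mul_assoc, ← map_mul, ← map_mul,
      mul_comm u w]
  have : h * g * h⁻¹ = tw := by rw [hconj]; group
  rw [this]
  exact mem_Tns.2 ⟨w, htw⟩

end finite

end Cfsg.Agent.Lib.Helper2.SL2Nonsplit
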