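import Mathlib
import Cfsg.Agent.S2475
import Cfsg.Agent.Lib.Helper2.ClassCard
import Cfsg.Agent.Lib.Helper1.PSL2Small

set_option linter.style.haveILetI false
set_option linter.unusedSectionVars false

namespace Cfsg.Agent.Lib.Helper2.SL2Unip

open Matrix

section
variable {F : Type*} [Field F]

/-- upper unitriangular elements -/
def uu (b : F) : Matrix.SpecialLinearGroup (Fin 2) F :=
  ⟨!![1, b; 0, 1], by rw [Matrix.det_fin_two_of]; ring⟩

theorem uu_val (b : F) : ((uu b : Matrix.SpecialLinearGroup (Fin 2) F) :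
    Matrix (Fin 2) (Fin 2) F) = !![1, b; 0, 1] := rfl

theorem eq_uu {g : Matrix.SpecialLinearGroup (Fin 2) F}
    (h00 : (g : Matrix (Fin 2) (Fin 2) F) 0 0 = 1)
    (h11 : (g : Matrix (Fin 2) (Fin 2) F) 1 1 = 1) (h10 : (g : Matrix (Fin 2) (Fin 2) F) 1 0 = 0) :
    g = uu ((g : Matrix (Fin 2) (Fin 2) F) 0 1) := by
  apply Subtype.ext
  rw [uu_val]
  apply Cfsg.Agent.S2475.ext2
  · simp [h00]
  · simp
  · simp [h10]
  · simp [h11]

theorem uu_mul (b c : F) : uu b * uu c = uu (b + c) := by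
  apply Subtype.ext
  rw [Matrix.SpecialLinearGroup.coe_mul, uu_val, uu_val, uu_val, Matrix.mul_fin_two]
  apply Cfsg.Agent.S2475.ext2
  · simp
  · simp [add_comm]
  · simp
  · simp

theorem uu_zero : uu (0 : F) = 1 := by
  apply Subtype.ext
  rw [uu_val, Matrix.SpecialLinearGroup.coe_one]
  apply Cfsg.Agent.S2475.ext2 <;> simp

theorem uu_pow (b : F) (k : ℕ) : uu b ^ k = uu ((k : F) * b) := by
  induction k with
  | zero => rw [pow_zero, Nat.cast_zero, zero_mul, uu_zero]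
  | succ k ih =>
    rw [pow_succ, ih, uu_mul, Nat.cast_succ]
    congr 1
    ring

theorem uu_injective : Function.Injective (uu : F → Matrix.SpecialLinearGroup (Fin 2) F) := by
  intro b c h
  have h1 := congrArg (fun g : Matrix.SpecialLinearGroup (Fin 2) F =>
    (g : Matrix (Fin 2) (Fin 2) F) 0 1) h
  simpa [uu_val] using h1

theorem uu_eq_one_iff (b : F) : uu b = 1 ↔ b = 0 := by
  rw [← uu_zero]; exact uu_injective.eq_iff

/-- the central involution -/
def zz : Matrix.SpecialLinearGroup (Fin 2) F :=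
  ⟨!![-1, 0; 0, -1], by rw [Matrix.det_fin_two_of]; ring⟩

theorem zz_val : ((zz : Matrix.SpecialLinearGroup (Fin 2) F) :
    Matrix (Fin 2) (Fin 2) F) = !![-1, 0; 0, -1] := rfl

theorem zz_comm (g : Matrix.SpecialLinearGroup (Fin 2) F) : zz * g = g * zz := by
  apply Subtype.ext
  rw [Matrix.SpecialLinearGroup.coe_mul, Matrix.SpecialLinearGroup.coe_mul, zz_val]
  apply Cfsg.Agent.S2475.ext2 <;> rw [Cfsg.Agent.S2475.mul2, Cfsg.Agent.S2475.mul2] <;> simp

theorem zz_sq : (zz : Matrix.SpecialLinearGroup (Fin 2) F) * zz = 1 := by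
  apply Subtype.ext
  rw [Matrix.SpecialLinearGroup.coe_mul, zz_val, Matrix.SpecialLinearGroup.coe_one,
    Matrix.mul_fin_two]
  apply Cfsg.Agent.S2475.ext2 <;> simp

/-- the two central elements -/
def sg (s : Bool) : Matrix.SpecialLinearGroup (Fin 2) F := if s then zz else 1

/-- the sign -/
def es (s : Bool) : F := if s then -1 else 1

theorem sg_comm (s : Bool) (g : Matrix.SpecialLinearGroup (Fin 2) F) : sg s * g = g * sg s := by
  cases s
  · simp [sg]
  · simp only [sg, if_true]; exact zz_comm g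

theorem sg_sq (s : Bool) : (sg s : Matrix.SpecialLinearGroup (Fin 2) F) * sg s = 1 := by
  cases s
  · simp [sg]
  · simp only [sg, if_true]; exact zz_sq

theorem es_sq (s : Bool) : (es s : F) * es s = 1 := by cases s <;> simp [es]

theorem es_ne_zero (s : Bool) : (es s : F) ≠ 0 := by cases s <;> simp [es]

theorem sg_val (s : Bool) : ((sg s : Matrix.SpecialLinearGroup (Fin 2) F) :
    Matrix (Fin 2) (Fin 2) F) = !![es s, 0; 0, es s] := by
  cases s
  · show ((1 : Matrix.SpecialLinearGroup (Fin 2) F) : Matrix (Fin 2) (Fin 2) F) = _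
    rw [Matrix.SpecialLinearGroup.coe_one]
    apply Cfsg.Agent.S2475.ext2 <;> simp [es]
  · show ((zz : Matrix.SpecialLinearGroup (Fin 2) F) : Matrix (Fin 2) (Fin 2) F) = _
    rw [zz_val]
    apply Cfsg.Agent.S2475.ext2 <;> simp [es]

theorem sg_uu_val (s : Bool) (b : F) :
    ((sg s * uu b : Matrix.SpecialLinearGroup (Fin 2) F) : Matrix (Fin 2) (Fin 2) F) =
      !![es s, es s * b; 0, es s] := by
  rw [Matrix.SpecialLinearGroup.coe_mul, sg_val, uu_val, Matrix.mul_fin_two]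
  apply Cfsg.Agent.S2475.ext2 <;> simp

theorem es_injective (h2 : (2 : F) ≠ 0) {s s' : Bool} (h : (es s : F) = es s') : s = s' := by
  cases s <;> cases s' <;> simp [es] at h ⊢
  · apply h2; linear_combination h
  · apply h2; linear_combination -h

theorem isConj_sg_mul (s : Bool) (a a' : Matrix.SpecialLinearGroup (Fin 2) F) :
    IsConj (sg s * a) (sg s * a') ↔ IsConj a a' := by
  rw [isConj_iff, isConj_iff]
  constructor
  · rintro ⟨x, hx⟩
    refine ⟨x, ?_⟩
    have h1 : x * (sg s * a) * x⁻¹ = sg s * (x * a * x⁻¹) := by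
      rw [← mul_assoc, ← sg_comm s x]; group
    rw [h1] at hx
    exact mul_left_cancel hx
  · rintro ⟨x, hx⟩
    refine ⟨x, ?_⟩
    rw [← hx, ← mul_assoc, ← sg_comm s x]; group

theorem trace_conj (x a : Matrix.SpecialLinearGroup (Fin 2) F) :
    ((x * a * x⁻¹ : Matrix.SpecialLinearGroup (Fin 2) F) : Matrix (Fin 2) (Fin 2) F).trace =
      (a : Matrix (Fin 2) (Fin 2) F).trace := by
  rw [Matrix.SpecialLinearGroup.coe_mul, Matrix.SpecialLinearGroup.coe_mul,
    Matrix.trace_mul_cycle, ← Matrix.SpecialLinearGroup.coe_mul, inv_mul_cancel,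
    Matrix.SpecialLinearGroup.coe_one, Matrix.one_mul]

/-- diagonal elements -/
def dg (x : F) (hx : x ≠ 0) : Matrix.SpecialLinearGroup (Fin 2) F :=
  ⟨!![x, 0; 0, x⁻¹], by rw [Matrix.det_fin_two_of, mul_zero, sub_zero, mul_inv_cancel₀ hx]⟩

theorem dg_val (x : F) (hx : x ≠ 0) : ((dg x hx : Matrix.SpecialLinearGroup (Fin 2) F) :
    Matrix (Fin 2) (Fin 2) F) = !![x, 0; 0, x⁻¹] := rfl

/-- entries of the commutation relation with a unipotent -/
theorem comm_entries {b b' : F} {h : Matrix.SpecialLinearGroup (Fin 2) F}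
    (h1 : h * uu b = uu b' * h) :
    b' * (h : Matrix (Fin 2) (Fin 2) F) 1 0 = 0 ∧
      (h : Matrix (Fin 2) (Fin 2) F) 0 0 * b = b' * (h : Matrix (Fin 2) (Fin 2) F) 1 1 := by
  have e00 : (h : Matrix (Fin 2) (Fin 2) F) 0 0 * 1 + (h : Matrix (Fin 2) (Fin 2) F) 0 1 * 0 =
      1 * (h : Matrix (Fin 2) (Fin 2) F) 0 0 + b' * (h : Matrix (Fin 2) (Fin 2) F) 1 0 := by
    have h2 := congrArg (fun g : Matrix.SpecialLinearGroup (Fin 2) F =>
      (g : Matrix (Fin 2) (Fin 2) F) 0 0) h1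
    simp only [Matrix.SpecialLinearGroup.coe_mul, Cfsg.Agent.S2475.mul2, uu_val] at h2
    simpa using h2
  have e01 : (h : Matrix (Fin 2) (Fin 2) F) 0 0 * b + (h : Matrix (Fin 2) (Fin 2) F) 0 1 * 1 =
      1 * (h : Matrix (Fin 2) (Fin 2) F) 0 1 + b' * (h : Matrix (Fin 2) (Fin 2) F) 1 1 := by
    have h2 := congrArg (fun g : Matrix.SpecialLinearGroup (Fin 2) F =>
      (g : Matrix (Fin 2) (Fin 2) F) 0 1) h1
    simp only [Matrix.SpecialLinearGroup.coe_mul, Cfsg.Agent.S2475.mul2, uu_val] at h2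
    simpa using h2
  constructor
  · linear_combination -e00
  · linear_combination e01

theorem uu_conj_iff {b b' : F} (hb : b ≠ 0) (hb' : b' ≠ 0) :
    IsConj (uu b) (uu b') ↔ IsSquare (b * b') := by
  rw [isConj_iff]
  constructor
  · rintro ⟨h, hh⟩
    have h1 : h * uu b = uu b' * h := by rw [← hh]; group
    obtain ⟨e1, e2⟩ := comm_entries h1
    have h10 : (h : Matrix (Fin 2) (Fin 2) F) 1 0 = 0 := by
      rcases mul_eq_zero.1 e1 with h | h
      · exact absurd h hb'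
      · exact h
    have hdet := h.det_coe
    rw [Matrix.det_fin_two, h10] at hdet
    refine ⟨(h : Matrix (Fin 2) (Fin 2) F) 0 0 * b, ?_⟩
    linear_combination (-b) * b' * hdet - b * (h : Matrix (Fin 2) (Fin 2) F) 0 0 * e2
  · rintro ⟨s, hs⟩
    have hs0 : s ≠ 0 := by
      rintro rfl
      rw [mul_zero] at hs
      rcases mul_eq_zero.1 hs with h | h
      · exact hb h
      · exact hb' h
    have hx : s / b ≠ 0 := div_ne_zero hs0 hb
    refine ⟨dg (s / b) hx, ?_⟩
    apply mul_inv_eq_of_eq_mul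
    apply Subtype.ext
    rw [Matrix.SpecialLinearGroup.coe_mul, Matrix.SpecialLinearGroup.coe_mul, uu_val, uu_val,
      dg_val, Matrix.mul_fin_two, Matrix.mul_fin_two]
    apply Cfsg.Agent.S2475.ext2
    · simp
    · simp
      field_simp
      linear_combination -hs
    · simp
    · simp

theorem cent_uu {b : F} (hb : b ≠ 0) (h : Matrix.SpecialLinearGroup (Fin 2) F)
    (h1 : h * uu b = uu b * h) :
    (h : Matrix (Fin 2) (Fin 2) F) 1 0 = 0 ∧
      (h : Matrix (Fin 2) (Fin 2) F) 0 0 = (h : Matrix (Fin 2) (Fin 2) F) 1 1 := by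
  obtain ⟨e1, e2⟩ := comm_entries h1
  constructor
  · rcases mul_eq_zero.1 e1 with h | h
    · exact absurd h hb
    · exact h
  · apply mul_right_cancel₀ hb
    linear_combination e2

theorem cent_form {h : Matrix.SpecialLinearGroup (Fin 2) F}
    (h10 : (h : Matrix (Fin 2) (Fin 2) F) 1 0 = 0)
    (heq : (h : Matrix (Fin 2) (Fin 2) F) 0 0 = (h : Matrix (Fin 2) (Fin 2) F) 1 1) :
    ∃ (s : Bool) (y : F), h = sg s * uu y := by
  have hdet := h.det_coe
  rw [Matrix.det_fin_two, h10, ← heq] at hdet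
  have h3 : ((h : Matrix (Fin 2) (Fin 2) F) 0 0 - 1) * ((h : Matrix (Fin 2) (Fin 2) F) 0 0 + 1) = 0 := by
    linear_combination hdet
  rcases mul_eq_zero.1 h3 with h1 | h1
  · have h00 : (h : Matrix (Fin 2) (Fin 2) F) 0 0 = 1 := sub_eq_zero.1 h1
    refine ⟨false, (h : Matrix (Fin 2) (Fin 2) F) 0 1, ?_⟩
    apply Subtype.ext
    rw [sg_uu_val]
    apply Cfsg.Agent.S2475.ext2
    · simp [es, h00]
    · simp [es]
    · simp [h10]
    · simp [es, ← heq, h00]
  · have h00 : (h : Matrix (Fin 2) (Fin 2) F) 0 0 = -1 := eq_neg_of_add_eq_zero_left h1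
    refine ⟨true, -(h : Matrix (Fin 2) (Fin 2) F) 0 1, ?_⟩
    apply Subtype.ext
    rw [sg_uu_val]
    apply Cfsg.Agent.S2475.ext2
    · simp [es, h00]
    · simp [es]
    · simp [h10]
    · simp [es, ← heq, h00]

theorem sg_uu_mem_cent (s : Bool) (y b : F) :
    sg s * uu y ∈ Subgroup.centralizer ({uu b} : Set (Matrix.SpecialLinearGroup (Fin 2) F)) := by
  rw [Subgroup.mem_centralizer_singleton_iff]
  calc sg s * uu y * uu b = sg s * uu (y + b) := by rw [mul_assoc, uu_mul]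
    _ = sg s * uu (b + y) := by rw [add_comm]
    _ = sg s * (uu b * uu y) := by rw [uu_mul]
    _ = sg s * uu b * uu y := by rw [mul_assoc]
    _ = uu b * sg s * uu y := by rw [sg_comm]
    _ = uu b * (sg s * uu y) := by rw [mul_assoc]

theorem sg_uu_injective (h2 : (2 : F) ≠ 0) {s s' : Bool} {y y' : F}
    (h : sg s * uu y = sg s' * uu y') : s = s' ∧ y = y' := by
  have h1 := congrArg (fun g : Matrix.SpecialLinearGroup (Fin 2) F =>
    (g : Matrix (Fin 2) (Fin 2) F)) h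
  simp only [sg_uu_val] at h1
  have e00 := congrFun (congrFun h1 0) 0
  have e01 := congrFun (congrFun h1 0) 1
  simp at e00 e01
  have hs := es_injective h2 e00
  subst hs
  exact ⟨rfl, mul_left_cancel₀ (es_ne_zero s) e01⟩

theorem trace_of_pow (p : ℕ) [Fact p.Prime] [CharP F p] (g : Matrix.SpecialLinearGroup (Fin 2) F)
    (hg : g ^ p = 1) :
    (g : Matrix (Fin 2) (Fin 2) F) 0 0 + (g : Matrix (Fin 2) (Fin 2) F) 1 1 = 2 := by
  have hM : (g : Matrix (Fin 2) (Fin 2) F) ^ p = 1 := by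
    rw [← Matrix.SpecialLinearGroup.coe_pow, hg, Matrix.SpecialLinearGroup.coe_one]
  haveI : CharP (Matrix (Fin 2) (Fin 2) F) p := Matrix.charP p
  have h1 : ((g : Matrix (Fin 2) (Fin 2) F) - 1) ^ p = 0 := by
    rw [sub_pow_char_of_commute p (Commute.one_right _), hM, one_pow, sub_self]
  have h2 : ((g : Matrix (Fin 2) (Fin 2) F) - 1).det ^ p = 0 := by
    rw [← Matrix.det_pow, h1, Matrix.det_zero]
  have h3 : ((g : Matrix (Fin 2) (Fin 2) F) - 1).det = 0 :=
    (pow_eq_zero_iff (Fact.out : p.Prime).ne_zero).1 h2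
  rw [Matrix.det_fin_two] at h3
  simp only [Matrix.sub_apply, Matrix.one_apply_eq] at h3
  rw [Matrix.one_apply_ne (show (0 : Fin 2) ≠ 1 by decide),
    Matrix.one_apply_ne (show (1 : Fin 2) ≠ 0 by decide)] at h3
  have hdet := g.det_coe
  rw [Matrix.det_fin_two] at hdet
  linear_combination (-1 : F) * h3 + hdet

theorem conj_uu_of_trace (g : Matrix.SpecialLinearGroup (Fin 2) F)
    (htr : (g : Matrix (Fin 2) (Fin 2) F) 0 0 + (g : Matrix (Fin 2) (Fin 2) F) 1 1 = 2)
    (hg1 : g ≠ 1) : ∃ b : F, b ≠ 0 ∧ IsConj g (uu b) := by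
  obtain ⟨α, hα⟩ : ∃ α, α = (g : Matrix (Fin 2) (Fin 2) F) 0 0 := ⟨_, rfl⟩
  obtain ⟨β, hβ⟩ : ∃ β, β = (g : Matrix (Fin 2) (Fin 2) F) 0 1 := ⟨_, rfl⟩
  obtain ⟨γ, hγ⟩ : ∃ γ, γ = (g : Matrix (Fin 2) (Fin 2) F) 1 0 := ⟨_, rfl⟩
  obtain ⟨δ, hδ⟩ : ∃ δ, δ = (g : Matrix (Fin 2) (Fin 2) F) 1 1 := ⟨_, rfl⟩
  have hdet : α * δ - β * γ = 1 := by
    have := g.det_coe
    rw [Matrix.det_fin_two, ← hα, ← hβ, ← hγ, ← hδ] at this
    exact this
  rw [← hα, ← hδ] at htr
  have hgval : (g : Matrix (Fin 2) (Fin 2) F) = !![α, β; γ, δ] := by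
    apply Cfsg.Agent.S2475.ext2 <;> simp [hα, hβ, hγ, hδ]
  by_cases hγ0 : γ = 0
  · have hα1 : α = 1 := by
      have h1 : (α - 1) ^ 2 = 0 := by
        rw [hγ0] at hdet
        linear_combination (-1 : F) * hdet + α * htr
      exact sub_eq_zero.1 ((pow_eq_zero_iff two_ne_zero).1 h1)
    have hδ1 : δ = 1 := by linear_combination htr - hα1
    have hgu : g = uu β := by
      rw [hβ]
      exact eq_uu (by rw [← hα, hα1]) (by rw [← hδ, hδ1]) (by rw [← hγ, hγ0])
    refine ⟨β, ?_, ?_⟩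
    · rintro h0
      apply hg1
      rw [hgu, h0, uu_zero]
    · rw [hgu]
  · refine ⟨-γ⁻¹, neg_ne_zero.2 (inv_ne_zero hγ0), ?_⟩
    rw [isConj_iff]
    obtain ⟨P, hP⟩ : ∃ P : Matrix.SpecialLinearGroup (Fin 2) F,
        (P : Matrix (Fin 2) (Fin 2) F) = !![0, -γ⁻¹; γ, -(α - 1)] :=
      ⟨⟨!![0, -γ⁻¹; γ, -(α - 1)], by
        rw [Matrix.det_fin_two_of, zero_mul, zero_sub, neg_mul, neg_neg, inv_mul_cancel₀ hγ0]⟩, rfl⟩
    refine ⟨P, ?_⟩
    apply mul_inv_eq_of_eq_mul
    apply Subtype.ext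
    rw [Matrix.SpecialLinearGroup.coe_mul, Matrix.SpecialLinearGroup.coe_mul, uu_val, hP, hgval,
      Matrix.mul_fin_two, Matrix.mul_fin_two]
    apply Cfsg.Agent.S2475.ext2
    · simp
    · simp
      field_simp
      linear_combination (-1 : F) * htr
    · simp
      linear_combination (0 : F) * htr
    · simp
      field_simp
      linear_combination (-1 : F) * hdet + htr

end

section finite
variable {F : Type*} [Field F] [Fintype F]

theorem nsq_mul (hF : ringChar F ≠ 2) {a b : F} (ha0 : a ≠ 0) (hb0 : b ≠ 0) (ha : ¬ IsSquare a)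
    (hb : ¬ IsSquare b) : IsSquare (a * b) := by
  have hodd := FiniteField.odd_card_of_char_ne_two hF
  have key : ∀ c : F, c ≠ 0 → ¬ IsSquare c → c ^ (Fintype.card F / 2) = -1 := by
    intro c hc0 hc
    have h1 : (c ^ (Fintype.card F / 2)) ^ 2 = 1 := by
      rw [← pow_mul, show Fintype.card F / 2 * 2 = Fintype.card F - 1 by omega]
      exact FiniteField.pow_card_sub_one_eq_one c hc0
    have h2 : c ^ (Fintype.card F / 2) ≠ 1 := fun h => hc ((FiniteField.isSquare_iff hF hc0).2 h)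
    have h3 : (c ^ (Fintype.card F / 2) - 1) * (c ^ (Fintype.card F / 2) + 1) = 0 := by
      linear_combination h1
    rcases mul_eq_zero.1 h3 with h | h
    · exact absurd (sub_eq_zero.1 h) h2
    · exact eq_neg_of_add_eq_zero_left h
  rw [FiniteField.isSquare_iff hF (mul_ne_zero ha0 hb0), mul_pow, key a ha0 ha, key b hb0 hb]
  ring

/-- the two class representatives of `Fˣ` modulo squares -/
def be (ε : F) (e : Bool) : F := if e then ε else 1

theorem be_ne_zero {ε : F} (hε : ε ≠ 0) (e : Bool) : be ε e ≠ 0 := by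
  cases e <;> simp [be, hε]

theorem be_sq_iff {ε : F} (hε : ¬ IsSquare ε) (e e' : Bool) :
    IsSquare (be ε e * be ε e') ↔ e = e' := by
  cases e <;> cases e' <;> simp [be, hε]

theorem exists_be (hF : ringChar F ≠ 2) {ε : F} (hε0 : ε ≠ 0) (hε : ¬ IsSquare ε) (b : F)
    (hb : b ≠ 0) : ∃ e, IsSquare (b * be ε e) := by
  by_cases h : IsSquare b
  · exact ⟨false, by simpa [be] using h⟩
  · exact ⟨true, by simpa [be] using nsq_mul hF hb hε0 h hε⟩

theorem card_sl2 : Nat.card (Matrix.SpecialLinearGroup (Fin 2) F) =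
    Fintype.card F * (Fintype.card F - 1) * (Fintype.card F + 1) := by
  have h := Cfsg.Agent.Lib.Helper1.card_SL2 F
  have h1 : 1 < Fintype.card F := Fintype.one_lt_card
  obtain ⟨k, hk⟩ : ∃ k, Fintype.card F = k + 1 := ⟨Fintype.card F - 1, by omega⟩
  rw [hk] at h ⊢
  have hk0 : 0 < k := by omega
  rw [Nat.add_sub_cancel] at h ⊢
  have e1 : (k + 1) ^ 2 - 1 = k * (k + 2) := Nat.sub_eq_of_eq_add (by ring)
  have e2 : (k + 1) ^ 2 - (k + 1) = k * (k + 1) := Nat.sub_eq_of_eq_add (by ring)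
  rw [e1, e2] at h
  apply Nat.eq_of_mul_eq_mul_left hk0
  rw [h]; ring

theorem card_cent_uu (h2 : (2 : F) ≠ 0) {b : F} (hb : b ≠ 0) :
    Nat.card (Subgroup.centralizer ({uu b} : Set (Matrix.SpecialLinearGroup (Fin 2) F))) =
      2 * Fintype.card F := by
  have h1 : Nat.card (Bool × F) = 2 * Fintype.card F := by
    rw [Nat.card_prod, Nat.card_eq_fintype_card, Nat.card_eq_fintype_card, Fintype.card_bool]
  rw [← h1]
  symm
  apply Nat.card_congr
  refine Equiv.ofBijective (fun sy : Bool × F =>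
    (⟨sg sy.1 * uu sy.2, sg_uu_mem_cent sy.1 sy.2 b⟩ :
      Subgroup.centralizer ({uu b} : Set (Matrix.SpecialLinearGroup (Fin 2) F)))) ⟨?_, ?_⟩
  · intro sy sy' h
    have h3 := congrArg Subtype.val h
    obtain ⟨e1, e2⟩ := sg_uu_injective h2 h3
    exact Prod.ext e1 e2
  · rintro ⟨h, hh⟩
    rw [Subgroup.mem_centralizer_singleton_iff] at hh
    obtain ⟨h10, heq⟩ := cent_uu hb h hh
    obtain ⟨s, y, hsy⟩ := cent_form h10 heq
    exact ⟨(s, y), Subtype.ext hsy.symm⟩

theorem order_uu (p : ℕ) [Fact p.Prime] [CharP F p] {b : F} (hb : b ≠ 0) : orderOf (uu b) = p := by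
  apply orderOf_eq_prime
  · rw [uu_pow, CharP.cast_eq_zero, zero_mul, uu_zero]
  · rw [Ne, uu_eq_one_iff]; exact hb

theorem conj_uu_of_order (p : ℕ) [Fact p.Prime] [CharP F p]
    (g : Matrix.SpecialLinearGroup (Fin 2) F) (hg : orderOf g = p) :
    ∃ b : F, b ≠ 0 ∧ IsConj g (uu b) := by
  have hgp : g ^ p = 1 := by rw [← hg]; exact pow_orderOf_eq_one g
  have hg1 : g ≠ 1 := by
    rintro rfl
    rw [orderOf_one] at hg
    exact (Fact.out : p.Prime).one_lt.ne hg
  exact conj_uu_of_trace g (trace_of_pow p g hgp) hg1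

theorem p_dvd_order (p : ℕ) [Fact p.Prime] [CharP F p] (h2 : (2 : F) ≠ 0) (s : Bool) {b : F}
    (hb : b ≠ 0) : p ∣ orderOf (sg s * uu b) := by
  obtain ⟨o, ho⟩ : ∃ o, o = orderOf (sg s * uu b) := ⟨_, rfl⟩
  rw [← ho]
  have h1 : (sg s * uu b) ^ (o * 2) = 1 := by rw [pow_mul, ho, pow_orderOf_eq_one, one_pow]
  have hc : Commute (sg s) (uu b) := sg_comm s (uu b)
  rw [mul_comm o 2, hc.mul_pow, pow_mul (sg s), pow_two, sg_sq, one_pow, one_mul, uu_pow,
    uu_eq_one_iff] at h1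
  rcases mul_eq_zero.1 h1 with h | h
  · rw [Nat.cast_mul, Nat.cast_ofNat] at h
    rcases mul_eq_zero.1 h with h' | h'
    · exact absurd h' h2
    · exact (CharP.cast_eq_zero_iff F p o).1 h'
  · exact absurd h hb

end finite

end Cfsg.Agent.Lib.Helper2.SL2Unip
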