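import Mathlib
import Cfsg.Agent.S2508

set_option linter.style.haveILetI false
set_option linter.unusedSectionVars false
set_option linter.unusedVariables false

namespace Cfsg.Agent.Lib.Helper2.SL2SylTwo

open Cfsg.Agent.Lib.Helper2.SL2Unip Cfsg.Agent.Lib.Helper2.SL2Tori
open Cfsg.Agent.S2507 (e00 e01 e10 e11)
open Cfsg.Agent.S2508 (inv_of_sq zz_mul_val zz_ne_one mem_center zz_cancel comm_zz)

section
variable {F : Type*} [Field F] [Fintype F]

theorem zz_val' : ((zz : Matrix.SpecialLinearGroup (Fin 2) F) : Matrix (Fin 2) (Fin 2) F) = -1 := by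
  rw [zz_val]
  apply Cfsg.Agent.S2475.ext2 <;> simp [e00, e01, e10, e11]

theorem sq_one_cases (hodd : Odd (Fintype.card F)) (t : Matrix.SpecialLinearGroup (Fin 2) F)
    (h : t * t = 1) : t = 1 ∨ t = zz := by
  by_cases h1 : t = 1
  · left; exact h1
  · right
    apply Subtype.ext
    rw [Cfsg.Agent.S0268.result hodd t h1 h, zz_val']

theorem zz_mem_center :
    (zz : Matrix.SpecialLinearGroup (Fin 2) F) ∈
      Subgroup.center (Matrix.SpecialLinearGroup (Fin 2) F) :=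
  Subgroup.mem_center_iff.2 (fun g => (zz_comm g).symm)

theorem trace_zero_of_sq (h2 : (2 : F) ≠ 0) (x : Matrix.SpecialLinearGroup (Fin 2) F)
    (h : x * x = zz) :
    (x : Matrix (Fin 2) (Fin 2) F) 0 0 + (x : Matrix (Fin 2) (Fin 2) F) 1 1 = 0 := by
  have h1 := congrArg (fun A : Matrix.SpecialLinearGroup (Fin 2) F =>
    (A : Matrix (Fin 2) (Fin 2) F)) h
  simp only [Matrix.SpecialLinearGroup.coe_mul, zz_val] at h1
  have a00 := congrFun (congrFun h1 0) 0
  have a01 := congrFun (congrFun h1 0) 1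
  have a10 := congrFun (congrFun h1 1) 0
  have a11 := congrFun (congrFun h1 1) 1
  rw [Cfsg.Agent.S2475.mul2] at a00 a01 a10 a11
  rw [e00] at a00
  rw [e01] at a01
  rw [e10] at a10
  rw [e11] at a11
  have hdet := x.det_coe
  rw [Matrix.det_fin_two] at hdet
  by_contra hne
  have h01 : (x : Matrix (Fin 2) (Fin 2) F) 0 1 = 0 := by
    apply mul_right_cancel₀ hne
    linear_combination a01
  have h10 : (x : Matrix (Fin 2) (Fin 2) F) 1 0 = 0 := by
    apply mul_right_cancel₀ hne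
    linear_combination a10
  rw [h01, h10] at a00 a11 hdet
  have h3 : ((x : Matrix (Fin 2) (Fin 2) F) 0 0 - (x : Matrix (Fin 2) (Fin 2) F) 1 1) *
      ((x : Matrix (Fin 2) (Fin 2) F) 0 0 + (x : Matrix (Fin 2) (Fin 2) F) 1 1) = 0 := by
    linear_combination a00 - a11
  rcases mul_eq_zero.1 h3 with h4 | h4
  · have h5 : (x : Matrix (Fin 2) (Fin 2) F) 0 0 = (x : Matrix (Fin 2) (Fin 2) F) 1 1 :=
      sub_eq_zero.1 h4
    apply h2
    rw [← h5] at hdet
    linear_combination a00 - hdet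
  · exact hne h4

/-- the configuration of a Sylow 2-subgroup inside the normaliser of a torus -/
structure Cfg (T S' : Subgroup (Matrix.SpecialLinearGroup (Fin 2) F))
    (g : Matrix.SpecialLinearGroup (Fin 2) F) (a : ℕ) : Prop where
  comm : ∀ s ∈ T, ∀ t ∈ T, s * t = t * s
  cent : ∀ t ∈ T, t * t ≠ 1 →
    Subgroup.centralizer ({t} : Set (Matrix.SpecialLinearGroup (Fin 2) F)) = T
  SN : S' ≤ Subgroup.normalizer (T : Set (Matrix.SpecialLinearGroup (Fin 2) F))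
  gS : g ∈ S'
  gT : g ∉ T
  inv : ∀ h ∈ Subgroup.normalizer (T : Set (Matrix.SpecialLinearGroup (Fin 2) F)), h ∉ T →
    ∀ t ∈ T, h * t * h⁻¹ = t⁻¹
  sq : ∀ h ∈ Subgroup.normalizer (T : Set (Matrix.SpecialLinearGroup (Fin 2) F)), h ∉ T →
    h * h = zz
  prod : ∀ h ∈ Subgroup.normalizer (T : Set (Matrix.SpecialLinearGroup (Fin 2) F)), h ∉ T →
    ∀ h' ∈ Subgroup.normalizer (T : Set (Matrix.SpecialLinearGroup (Fin 2) F)), h' ∉ T →
      h * h' ∈ T
  cardD : Nat.card (T ⊓ S' : Subgroup (Matrix.SpecialLinearGroup (Fin 2) F)) = 2 ^ a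
  a2 : 2 ≤ a
  syl : ∀ t ∈ T, ∀ k : ℕ, t ^ (2 ^ k) = 1 → t ∈ T ⊓ S'
  dex : ∃ δ ∈ T ⊓ S', orderOf δ = 2 ^ a

variable {T S' : Subgroup (Matrix.SpecialLinearGroup (Fin 2) F)}
  {g : Matrix.SpecialLinearGroup (Fin 2) F} {a : ℕ}

theorem Cfg.order_sq (c : Cfg T S' g a) {δ : Matrix.SpecialLinearGroup (Fin 2) F}
    (hδ : orderOf δ = 2 ^ a) : δ * δ ≠ 1 := by
  intro h
  have h1 := orderOf_dvd_of_pow_eq_one (show δ ^ 2 = 1 by rw [pow_two]; exact h)
  rw [hδ] at h1
  have h3 := Nat.le_of_dvd (by norm_num) h1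
  have h4 : 2 ^ 2 ≤ 2 ^ a := Nat.pow_le_pow_right (by norm_num) c.a2
  omega

theorem Cfg.center (hodd : Odd (Fintype.card F)) (c : Cfg T S' g a) :
    Subgroup.centralizer (S' : Set (Matrix.SpecialLinearGroup (Fin 2) F)) =
      Subgroup.center (Matrix.SpecialLinearGroup (Fin 2) F) := by
  obtain ⟨δ, hδD, hδo⟩ := c.dex
  have hδT : δ ∈ T := hδD.1
  have hδS : δ ∈ S' := hδD.2
  apply le_antisymm
  · intro x hx
    rw [Subgroup.mem_centralizer_iff] at hx
    have hxd : x ∈ Subgroup.centralizer ({δ} : Set (Matrix.SpecialLinearGroup (Fin 2) F)) := by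
      rw [Subgroup.mem_centralizer_singleton_iff]; exact (hx δ hδS).symm
    rw [c.cent δ hδT (c.order_sq hδo)] at hxd
    have h1 := c.inv g (c.SN c.gS) c.gT x hxd
    have h2 : g * x * g⁻¹ = x := by rw [hx g c.gS]; group
    have h3 : x * x = 1 := by
      have h4 : x⁻¹ = x := h1.symm.trans h2
      calc x * x = x⁻¹ * x := by rw [h4]
        _ = 1 := inv_mul_cancel x
    rcases sq_one_cases hodd x h3 with h | h
    · rw [h]; exact Subgroup.one_mem _
    · rw [h]; exact zz_mem_center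
  · exact Subgroup.center_le_centralizer _

/-- Step D -/
theorem Cfg.keyD (c : Cfg T S' g a) (y : Matrix.SpecialLinearGroup (Fin 2) F)
    (hyN : y ∈ Subgroup.normalizer (T : Set (Matrix.SpecialLinearGroup (Fin 2) F)))
    (hyS : y ∈ Subgroup.normalizer (S' : Set (Matrix.SpecialLinearGroup (Fin 2) F))) : y ∈ S' := by
  have hgN := c.SN c.gS
  have hT' : ∀ y ∈ T, y ∈ Subgroup.normalizer (S' : Set (Matrix.SpecialLinearGroup (Fin 2) F)) →
      y ∈ S' := by
    intro y hyT hyN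
    have h1 : y * g * y⁻¹ ∈ S' := (Subgroup.mem_normalizer_iff.1 hyN g).1 c.gS
    have h2 : g * y⁻¹ * g⁻¹ = y := by rw [c.inv g hgN c.gT y⁻¹ (T.inv_mem hyT), inv_inv]
    have h3 : y * g * y⁻¹ = y * y * g := by
      calc y * g * y⁻¹ = y * (g * y⁻¹ * g⁻¹) * g := by group
        _ = y * y * g := by rw [h2]
    rw [h3] at h1
    have h4 : y * y ∈ S' := by
      have := S'.mul_mem h1 (S'.inv_mem c.gS)
      simpa using this
    have h5 : y * y ∈ T ⊓ S' := ⟨T.mul_mem hyT hyT, h4⟩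
    have h6 : (y * y) ^ (2 ^ a) = 1 := by
      have h7 := pow_card_eq_one' (G := (T ⊓ S' : Subgroup (Matrix.SpecialLinearGroup (Fin 2) F)))
        (x := ⟨y * y, h5⟩)
      rw [c.cardD] at h7
      exact congrArg Subtype.val h7
    have h7 : y ^ (2 ^ (a + 1)) = 1 := by
      rw [pow_succ, pow_mul', pow_two]; exact h6
    exact (c.syl y hyT (a + 1) h7).2
  by_cases hyT : y ∈ T
  · exact hT' y hyT hyS
  · have h1 : y * g ∈ T := c.prod y hyN hyT g hgN c.gT
    have h2 : y * g ∈ Subgroup.normalizer (S' : Set (Matrix.SpecialLinearGroup (Fin 2) F)) :=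
      (Subgroup.normalizer _).mul_mem hyS (Subgroup.le_normalizer c.gS)
    have h3 := hT' (y * g) h1 h2
    have := S'.mul_mem h3 (S'.inv_mem c.gS)
    simpa using this

/-- an element conjugating a regular element of `T` into `T` normalises `T` -/
theorem Cfg.norm_of_conj (c : Cfg T S' g a) (x e : Matrix.SpecialLinearGroup (Fin 2) F)
    (he : e ∈ T) (hee : e * e ≠ 1) (hxe : x * e * x⁻¹ ∈ T) :
    x ∈ Subgroup.normalizer (T : Set (Matrix.SpecialLinearGroup (Fin 2) F)) := by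
  have hee' : (x * e * x⁻¹) * (x * e * x⁻¹) ≠ 1 := by
    intro h
    apply hee
    have : x * (e * e) * x⁻¹ = 1 := by rw [← h]; group
    calc e * e = x⁻¹ * (x * (e * e) * x⁻¹) * x := by group
      _ = 1 := by rw [this]; group
  apply Subgroup.mem_normalizer_fintype
  intro t ht
  rw [SetLike.mem_coe] at ht ⊢
  rw [← c.cent _ hxe hee', Subgroup.mem_centralizer_singleton_iff]
  have h1 : t * e = e * t := c.comm t ht e he
  calc x * t * x⁻¹ * (x * e * x⁻¹) = x * (t * e) * x⁻¹ := by group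
    _ = x * (e * t) * x⁻¹ := by rw [h1]
    _ = x * e * x⁻¹ * (x * t * x⁻¹) := by group

/-- the case of large Sylow subgroups -/
theorem Cfg.norm_big (c : Cfg T S' g a) (ha3 : 3 ≤ a) :
    Subgroup.normalizer (S' : Set (Matrix.SpecialLinearGroup (Fin 2) F)) = S' := by
  obtain ⟨δ, hδD, hδo⟩ := c.dex
  apply le_antisymm
  · intro x hx
    have h1 : x * δ * x⁻¹ ∈ S' := (Subgroup.mem_normalizer_iff.1 hx δ).1 hδD.2
    have hord : orderOf (x * δ * x⁻¹) = 2 ^ a := by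
      rw [Cfsg.Agent.Lib.Helper2.orderOf_conj_eq, hδo]
    have h2 : x * δ * x⁻¹ ∈ T := by
      by_contra hnT
      have h3 := c.sq _ (c.SN h1) hnT
      have h4 : (x * δ * x⁻¹) ^ 4 = 1 := by
        rw [show (4 : ℕ) = 2 + 2 from rfl, pow_add, pow_two, h3, zz_sq]
      have h5 := Nat.le_of_dvd (by norm_num) (orderOf_dvd_of_pow_eq_one h4)
      rw [hord] at h5
      have h6 : 2 ^ 3 ≤ 2 ^ a := Nat.pow_le_pow_right (by norm_num) ha3
      omega
    exact c.keyD x (c.norm_of_conj x δ hδD.1 (c.order_sq hδo) h2) hx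
  · exact Subgroup.le_normalizer


/-- the case of quaternion Sylow subgroups of order 8 -/
theorem Cfg.norm_small (hodd : Odd (Fintype.card F)) (h2 : (2 : F) ≠ 0) (c : Cfg T S' g 2) :
    Nat.card (Subgroup.normalizer (S' : Set (Matrix.SpecialLinearGroup (Fin 2) F))) =
      3 * Nat.card S' := by
  classical
  obtain ⟨δ, hδD, hδo⟩ := c.dex
  have hδT : δ ∈ T := hδD.1
  have hδS : δ ∈ S' := hδD.2
  have hgN := c.SN c.gS
  have hδ4 : δ ^ 4 = 1 := by
    rw [show (4 : ℕ) = 2 ^ 2 by norm_num, ← hδo]; exact pow_orderOf_eq_one δ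
  have hδδ : δ * δ = zz := by
    have h1 : (δ * δ) * (δ * δ) = 1 := by
      rw [← hδ4, show (4 : ℕ) = 2 + 2 from rfl, pow_add, pow_two]
    rcases sq_one_cases hodd _ h1 with h | h
    · exact absurd h (c.order_sq hδo)
    · exact h
  have hγγ : g * g = zz := c.sq g hgN c.gT
  have hzT : zz ∈ T := by rw [← hδδ]; exact T.mul_mem hδT hδT
  have hzS : zz ∈ S' := by rw [← hδδ]; exact S'.mul_mem hδS hδS
  have hδinv : δ⁻¹ = zz * δ := inv_of_sq hδδ
  have hgδ : g * δ = zz * (δ * g) := by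
    have h1 := c.inv g hgN c.gT δ hδT
    calc g * δ = (g * δ * g⁻¹) * g := by group
      _ = δ⁻¹ * g := by rw [h1]
      _ = zz * (δ * g) := by rw [hδinv, mul_assoc]
  obtain ⟨k, hk⟩ : ∃ k, k = δ * g := ⟨_, rfl⟩
  have hkS : k ∈ S' := by rw [hk]; exact S'.mul_mem hδS c.gS
  have hkT : k ∉ T := by
    intro h
    apply c.gT
    have := T.mul_mem (T.inv_mem hδT) h
    rw [hk] at this
    simpa using this
  have hkk : k * k = zz := c.sq k (c.SN hkS) hkT
  -- the matrices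
  obtain ⟨Dm, hDm⟩ : ∃ Dm : Matrix (Fin 2) (Fin 2) F, Dm = (δ : Matrix (Fin 2) (Fin 2) F) := ⟨_, rfl⟩
  obtain ⟨Gm, hGm⟩ : ∃ Gm : Matrix (Fin 2) (Fin 2) F, Gm = (g : Matrix (Fin 2) (Fin 2) F) := ⟨_, rfl⟩
  obtain ⟨Km, hKm⟩ : ∃ Km : Matrix (Fin 2) (Fin 2) F, Km = (k : Matrix (Fin 2) (Fin 2) F) := ⟨_, rfl⟩
  have hDD : Dm * Dm = -1 := by
    rw [hDm, ← Matrix.SpecialLinearGroup.coe_mul, hδδ, zz_val']
  have hGG : Gm * Gm = -1 := by
    rw [hGm, ← Matrix.SpecialLinearGroup.coe_mul, hγγ, zz_val']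
  have hKK : Km * Km = -1 := by
    rw [hKm, ← Matrix.SpecialLinearGroup.coe_mul, hkk, zz_val']
  have hDG : Dm * Gm = Km := by
    rw [hDm, hGm, hKm, hk, Matrix.SpecialLinearGroup.coe_mul]
  have hGD : Gm * Dm = -Km := by
    rw [hDm, hGm, hKm, ← Matrix.SpecialLinearGroup.coe_mul, hgδ, zz_mul_val, hk]
  have hDK : Dm * Km = -Gm := by
    rw [← hDG, ← Matrix.mul_assoc, hDD, Matrix.neg_mul, Matrix.one_mul]
  have hKG : Km * Gm = -Dm := by
    rw [← hDG, Matrix.mul_assoc, hGG, Matrix.mul_neg, Matrix.mul_one]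
  have hKD : Km * Dm = Gm := by
    rw [← hDG, Matrix.mul_assoc, hGD, Matrix.mul_neg, hDK, neg_neg]
  have hGK : Gm * Km = Dm := by
    rw [← hDG, ← Matrix.mul_assoc, hGD, Matrix.neg_mul, hKG, neg_neg]
  have tD : Dm 0 0 + Dm 1 1 = 0 := by rw [hDm]; exact trace_zero_of_sq h2 δ hδδ
  have tG : Gm 0 0 + Gm 1 1 = 0 := by rw [hGm]; exact trace_zero_of_sq h2 g hγγ
  have tK : Km 0 0 + Km 1 1 = 0 := by rw [hKm]; exact trace_zero_of_sq h2 k hkk
  obtain ⟨X, hX⟩ : ∃ X : Matrix (Fin 2) (Fin 2) F, X = Dm + Gm + Km := ⟨_, rfl⟩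
  have hXX : X * X = -1 + -1 + -1 := by
    rw [hX]
    simp only [add_mul, mul_add]
    rw [hDD, hDG, hDK, hGD, hGG, hGK, hKD, hKG, hKK]
    abel
  have tX : X 0 0 + X 1 1 = 0 := by
    rw [hX]
    simp only [Matrix.add_apply]
    linear_combination tD + tG + tK
  have hX00 : X 0 0 * X 0 0 + X 0 1 * X 1 0 = -3 := by
    have h1 := congrFun (congrFun hXX 0) 0
    rw [Cfsg.Agent.S2475.mul2] at h1
    simp only [Matrix.add_apply, Matrix.neg_apply, Matrix.one_apply_eq] at h1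
    linear_combination h1
  obtain ⟨A, hA⟩ : ∃ A : Matrix (Fin 2) (Fin 2) F, A = -1 + X := ⟨_, rfl⟩
  have hAdet : A.det = 4 := by
    rw [Matrix.det_fin_two, hA]
    simp only [Matrix.add_apply, Matrix.neg_apply, Matrix.one_apply_eq]
    rw [Matrix.one_apply_ne (show (0 : Fin 2) ≠ 1 by decide),
      Matrix.one_apply_ne (show (1 : Fin 2) ≠ 0 by decide)]
    linear_combination (-1 : F) * hX00 + (X 0 0 - 1) * tX
  have hAD : A * Dm = Km * A := by
    rw [hA, hX]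
    simp only [add_mul, mul_add, Matrix.neg_mul, Matrix.mul_neg, Matrix.one_mul, Matrix.mul_one]
    rw [hDD, hGD, hKD, hKG, hKK]
    abel
  have hAG : A * Gm = Dm * A := by
    rw [hA, hX]
    simp only [add_mul, mul_add, Matrix.neg_mul, Matrix.mul_neg, Matrix.one_mul, Matrix.mul_one]
    rw [hDG, hGG, hKG, hDD, hDK]
    abel
  obtain ⟨ω, hω⟩ : ∃ ω : Matrix.SpecialLinearGroup (Fin 2) F,
      (ω : Matrix (Fin 2) (Fin 2) F) = (2 : F)⁻¹ • A :=
    ⟨⟨(2 : F)⁻¹ • A, by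
      rw [Matrix.det_smul, hAdet, Fintype.card_fin]
      field_simp
      norm_num⟩, rfl⟩
  have hωδ : ω * δ = k * ω := by
    apply Subtype.ext
    rw [Matrix.SpecialLinearGroup.coe_mul, Matrix.SpecialLinearGroup.coe_mul, hω, ← hDm, ← hKm,
      Matrix.smul_mul, Matrix.mul_smul, hAD]
  have hωg : ω * g = δ * ω := by
    apply Subtype.ext
    rw [Matrix.SpecialLinearGroup.coe_mul, Matrix.SpecialLinearGroup.coe_mul, hω, ← hDm, ← hGm,
      Matrix.smul_mul, Matrix.mul_smul, hAG]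
  have cδ : ω * δ * ω⁻¹ = k := by rw [hωδ]; group
  have cg : ω * g * ω⁻¹ = δ := by rw [hωg]; group
  have hkδ : k * δ = g := by
    rw [hk, mul_assoc, hgδ, comm_zz, ← mul_assoc δ δ g, hδδ, zz_cancel]
  have ck : ω * k * ω⁻¹ = g := by
    calc ω * k * ω⁻¹ = (ω * δ * ω⁻¹) * (ω * g * ω⁻¹) := by rw [hk]; group
      _ = g := by rw [cδ, cg, hkδ]
  have cz : ∀ m : ℤ, ω * zz ^ m * ω⁻¹ = zz ^ m := by
    intro m
    have h1 : Commute zz ω := zz_comm ω
    have h3 : zz ^ m * ω = ω * zz ^ m := (h1.zpow_left m).eq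
    rw [← h3]; group
  -- `T ⊓ S'` is generated by `δ`
  have hzp : ∀ s ∈ T ⊓ S', ∃ i : ℤ, δ ^ i = s := by
    have h1 : Subgroup.zpowers δ = T ⊓ S' := by
      apply Subgroup.eq_of_le_of_card_ge
      · rw [Subgroup.zpowers_le]; exact hδD
      · rw [Nat.card_zpowers, hδo, c.cardD]
    intro s hs
    rw [← h1] at hs
    exact Subgroup.mem_zpowers_iff.1 hs
  have hδ2 : ∀ m : ℤ, δ ^ (2 * m) = zz ^ m := by
    intro m
    rw [zpow_mul, zpow_two, hδδ]
  -- the normaliser contains `ω`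
  have hωN : ω ∈ Subgroup.normalizer (S' : Set (Matrix.SpecialLinearGroup (Fin 2) F)) := by
    apply Subgroup.mem_normalizer_fintype
    intro s hs
    rw [SetLike.mem_coe] at hs ⊢
    by_cases hsT : s ∈ T
    · obtain ⟨i, hi⟩ := hzp s ⟨hsT, hs⟩
      rw [← hi, ← conj_zpow, cδ]
      exact S'.zpow_mem hkS i
    · have h1 : s * g ∈ T := c.prod s (c.SN hs) hsT g hgN c.gT
      obtain ⟨i, hi⟩ := hzp (s * g) ⟨h1, S'.mul_mem hs c.gS⟩
      have h3 : s = δ ^ i * g⁻¹ := by rw [hi]; group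
      have h4 : ω * s * ω⁻¹ = (ω * δ * ω⁻¹) ^ i * (ω * g * ω⁻¹)⁻¹ := by
        rw [h3, conj_zpow]; group
      rw [h4, cδ, cg]
      exact S'.mul_mem (S'.zpow_mem hkS i) (S'.inv_mem hδS)
  have hωS : ω ∉ S' := by
    intro h
    have h1 := (Subgroup.mem_normalizer_iff.1 (c.SN h) δ).1 hδT
    rw [cδ] at h1
    exact hkT h1
  have e3 : ω ^ 3 = ω * ω * ω := by rw [pow_succ, pow_two]
  have hω3 : ω ^ 3 ∈ S' := by
    have h1 : ω ^ 3 * δ * (ω ^ 3)⁻¹ = δ := by
      calc ω ^ 3 * δ * (ω ^ 3)⁻¹ = ω * (ω * (ω * δ * ω⁻¹) * ω⁻¹) * ω⁻¹ := by rw [e3]; group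
        _ = δ := by rw [cδ, ck, cg]
    have h1' : ω ^ 3 * g * (ω ^ 3)⁻¹ = g := by
      calc ω ^ 3 * g * (ω ^ 3)⁻¹ = ω * (ω * (ω * g * ω⁻¹) * ω⁻¹) * ω⁻¹ := by rw [e3]; group
        _ = g := by rw [cg, cδ, ck]
    have h3 : ω ^ 3 ∈ T := by
      rw [← c.cent δ hδT (c.order_sq hδo), Subgroup.mem_centralizer_singleton_iff]
      calc ω ^ 3 * δ = (ω ^ 3 * δ * (ω ^ 3)⁻¹) * ω ^ 3 := by group
        _ = δ * ω ^ 3 := by rw [h1]
    have h4 := c.inv g hgN c.gT (ω ^ 3) h3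
    have h5 : g * ω ^ 3 * g⁻¹ = ω ^ 3 := by
      have : ω ^ 3 * g = g * ω ^ 3 := by
        calc ω ^ 3 * g = (ω ^ 3 * g * (ω ^ 3)⁻¹) * ω ^ 3 := by group
          _ = g * ω ^ 3 := by rw [h1']
      rw [← this]; group
    have h6 : ω ^ 3 * ω ^ 3 = 1 := by
      have h7 : (ω ^ 3)⁻¹ = ω ^ 3 := h4.symm.trans h5
      calc ω ^ 3 * ω ^ 3 = (ω ^ 3)⁻¹ * ω ^ 3 := by rw [h7]
        _ = 1 := inv_mul_cancel _
    rcases sq_one_cases hodd _ h6 with h | h
    · rw [h]; exact S'.one_mem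
    · rw [h]; exact hzS
  -- every element of the normaliser lies in a coset of a power of `ω`
  have hcover : ∀ x ∈ Subgroup.normalizer (S' : Set (Matrix.SpecialLinearGroup (Fin 2) F)),
      ∃ j : ℕ, ω ^ j * x ∈ S' := by
    intro x hx
    have key : ∀ y ∈ Subgroup.normalizer (S' : Set (Matrix.SpecialLinearGroup (Fin 2) F)),
        y * δ * y⁻¹ ∈ T → y ∈ S' := by
      intro y hy hyT
      exact c.keyD y (c.norm_of_conj y δ hδT (c.order_sq hδo) hyT) hy
    obtain ⟨e, he⟩ : ∃ e, e = x * δ * x⁻¹ := ⟨_, rfl⟩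
    have heS : e ∈ S' := by rw [he]; exact (Subgroup.mem_normalizer_iff.1 hx δ).1 hδS
    by_cases heT : e ∈ T
    · exact ⟨0, by rw [pow_zero, one_mul]; exact key x hx (by rw [← he]; exact heT)⟩
    · have h1 : e * g ∈ T := c.prod e (c.SN heS) heT g hgN c.gT
      obtain ⟨i, hi⟩ := hzp (e * g) ⟨h1, S'.mul_mem heS c.gS⟩
      have h3 : e = δ ^ i * g⁻¹ := by rw [hi]; group
      obtain ⟨m, hm | hm⟩ := Int.even_or_odd' i
      · refine ⟨1, ?_⟩
        rw [pow_one]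
        apply key _ ((Subgroup.normalizer _).mul_mem hωN hx)
        have h4 : ω * x * δ * (ω * x)⁻¹ = ω * e * ω⁻¹ := by rw [he]; group
        rw [h4, h3, hm, hδ2]
        have h5 : ω * (zz ^ m * g⁻¹) * ω⁻¹ = (ω * zz ^ m * ω⁻¹) * (ω * g * ω⁻¹)⁻¹ := by group
        rw [h5, cz, cg]
        exact T.mul_mem (T.zpow_mem hzT m) (T.inv_mem hδT)
      · refine ⟨2, ?_⟩
        apply key _ ((Subgroup.normalizer _).mul_mem ((Subgroup.normalizer _).pow_mem hωN 2) hx)
        have h4 : ω ^ 2 * x * δ * (ω ^ 2 * x)⁻¹ = ω * (ω * e * ω⁻¹) * ω⁻¹ := by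
          rw [he, pow_two]; group
        have h6 : δ ^ i = zz ^ m * δ := by rw [hm, zpow_add, hδ2, zpow_one]
        rw [h4, h3, h6]
        have h5 : ω * (ω * (zz ^ m * δ * g⁻¹) * ω⁻¹) * ω⁻¹ =
            (ω * (ω * zz ^ m * ω⁻¹) * ω⁻¹) * (ω * (ω * δ * ω⁻¹) * ω⁻¹) *
              (ω * (ω * g * ω⁻¹) * ω⁻¹)⁻¹ := by group
        rw [h5, cz, cz, cδ, cg, ck, cδ]
        -- `zz^m * g * k⁻¹ ∈ T`
        have h7 : g * k⁻¹ = δ⁻¹ := by rw [hk]; group
        rw [mul_assoc, h7]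
        exact T.mul_mem (T.zpow_mem hzT m) (T.inv_mem hδT)
  -- counting
  obtain ⟨NS, hNS⟩ : ∃ NS : Subgroup (Matrix.SpecialLinearGroup (Fin 2) F),
      NS = Subgroup.normalizer (S' : Set (Matrix.SpecialLinearGroup (Fin 2) F)) := ⟨_, rfl⟩
  rw [← hNS] at hωN hcover ⊢
  have hle : S' ≤ NS := by rw [hNS]; exact Subgroup.le_normalizer
  haveI hnormal : (S'.subgroupOf NS).Normal := by rw [hNS]; exact Subgroup.normal_in_normalizer
  haveI : Fact (Nat.Prime 3) := ⟨Nat.prime_three⟩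
  obtain ⟨ωb, hωb⟩ : ∃ ωb : NS ⧸ S'.subgroupOf NS, ωb = QuotientGroup.mk ⟨ω, hωN⟩ := ⟨_, rfl⟩
  have hωb3 : ωb ^ 3 = 1 := by
    rw [hωb, ← QuotientGroup.mk_pow, QuotientGroup.eq_one_iff, Subgroup.mem_subgroupOf]
    exact hω3
  have hωb1 : ωb ≠ 1 := by
    rw [hωb, Ne, QuotientGroup.eq_one_iff, Subgroup.mem_subgroupOf]
    exact hωS
  have hord : orderOf ωb = 3 := orderOf_eq_prime hωb3 hωb1
  have hall : ∀ xb : NS ⧸ S'.subgroupOf NS, xb ∈ Subgroup.zpowers ωb := by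
    intro xb
    obtain ⟨x, rfl⟩ := QuotientGroup.mk_surjective xb
    obtain ⟨j, hj⟩ := hcover x.1 x.2
    have h1 : ωb ^ j * (QuotientGroup.mk x : NS ⧸ S'.subgroupOf NS) = 1 := by
      rw [hωb, ← QuotientGroup.mk_pow, ← QuotientGroup.mk_mul, QuotientGroup.eq_one_iff,
        Subgroup.mem_subgroupOf]
      exact hj
    have h3 : (QuotientGroup.mk x : NS ⧸ S'.subgroupOf NS) = (ωb ^ j)⁻¹ :=
      eq_inv_of_mul_eq_one_right h1
    rw [h3]
    exact (Subgroup.zpowers ωb).inv_mem ((Subgroup.zpowers ωb).pow_mem (Subgroup.mem_zpowers ωb) j)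
  have hcardQ : Nat.card (NS ⧸ S'.subgroupOf NS) = 3 := by
    rw [← orderOf_eq_card_of_forall_mem_zpowers hall, hord]
  have h1 := (S'.subgroupOf NS).card_mul_index
  rw [Subgroup.index_eq_card, hcardQ,
    Nat.card_congr (Subgroup.subgroupOfEquivOfLe hle).toEquiv] at h1
  rw [← h1]; ring


/-- existence of the configuration -/
theorem exists_cfg (hodd : Odd (Fintype.card F))
    (T : Subgroup (Matrix.SpecialLinearGroup (Fin 2) F)) (hcyc : IsCyclic T)
    (hcent : ∀ t ∈ T, t * t ≠ 1 →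
      Subgroup.centralizer ({t} : Set (Matrix.SpecialLinearGroup (Fin 2) F)) = T)
    (hcardN : Nat.card (Subgroup.normalizer (T : Set (Matrix.SpecialLinearGroup (Fin 2) F))) =
      2 * Nat.card T)
    (hsq : ∀ h ∈ Subgroup.normalizer (T : Set (Matrix.SpecialLinearGroup (Fin 2) F)), h ∉ T →
      h * h = zz)
    (hfac : (Nat.card (Matrix.SpecialLinearGroup (Fin 2) F)).factorization 2 =
      (Nat.card T).factorization 2 + 1)
    (h4 : 4 ∣ Nat.card T) :
    ∃ (S : Sylow 2 (Matrix.SpecialLinearGroup (Fin 2) F))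
      (g : Matrix.SpecialLinearGroup (Fin 2) F),
      Cfg T (S : Subgroup (Matrix.SpecialLinearGroup (Fin 2) F)) g
        ((Nat.card T).factorization 2) := by
  classical
  haveI : Fact (Nat.Prime 2) := ⟨Nat.prime_two⟩
  obtain ⟨N, hN⟩ : ∃ N : Subgroup (Matrix.SpecialLinearGroup (Fin 2) F),
      N = Subgroup.normalizer (T : Set (Matrix.SpecialLinearGroup (Fin 2) F)) := ⟨_, rfl⟩
  rw [← hN] at hcardN hsq
  have hTN : T ≤ N := by rw [hN]; exact Subgroup.le_normalizer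
  have hTcomm : ∀ s ∈ T, ∀ t ∈ T, s * t = t * s := by
    intro s hs t ht
    have h1 := (IsCyclic.isMulCommutative (α := T)).is_comm.comm ⟨s, hs⟩ ⟨t, ht⟩
    exact congrArg Subtype.val h1
  have hidxT : (T.subgroupOf N).index = 2 := by
    have h1 := (T.subgroupOf N).card_mul_index
    rw [Nat.card_congr (Subgroup.subgroupOfEquivOfLe hTN).toEquiv, hcardN] at h1
    have hpos : 0 < Nat.card T := Nat.card_pos
    exact Nat.eq_of_mul_eq_mul_left hpos (by rw [h1]; ring)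
  have hprod : ∀ h ∈ N, h ∉ T → ∀ h' ∈ N, h' ∉ T → h * h' ∈ T := by
    intro h hh hhT h' hh' hhT'
    have h1 := Subgroup.mul_mem_iff_of_index_two hidxT (a := (⟨h, hh⟩ : N)) (b := ⟨h', hh'⟩)
    have h3 : (⟨h, hh⟩ : N) * ⟨h', hh'⟩ ∈ T.subgroupOf N := by
      rw [h1, Subgroup.mem_subgroupOf, Subgroup.mem_subgroupOf]
      exact ⟨fun h => absurd h hhT, fun h => absurd h hhT'⟩
    exact h3
  have hinv : ∀ h ∈ N, h ∉ T → ∀ t ∈ T, h * t * h⁻¹ = t⁻¹ := by
    intro h hh hhT t ht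
    have hgt : h * t ∈ N := N.mul_mem hh (hTN ht)
    have hgtT : h * t ∉ T := by
      intro h1
      apply hhT
      have := T.mul_mem h1 (T.inv_mem ht)
      simpa using this
    have e1 := hsq h hh hhT
    have e2 := hsq (h * t) hgt hgtT
    have e3 : t * h * t = h := by
      have : h * (t * h * t) = h * h := by rw [e1, ← e2]; group
      exact mul_left_cancel this
    calc h * t * h⁻¹ = t⁻¹ * (t * h * t) * h⁻¹ := by group
      _ = t⁻¹ := by rw [e3]; group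
  -- a Sylow subgroup of the normaliser
  obtain ⟨P₀⟩ : Nonempty (Sylow 2 N) := inferInstance
  obtain ⟨S', hS'⟩ : ∃ S' : Subgroup (Matrix.SpecialLinearGroup (Fin 2) F),
      S' = (P₀ : Subgroup N).map N.subtype := ⟨_, rfl⟩
  have hS'N : S' ≤ N := by rw [hS']; exact Subgroup.map_subtype_le _
  obtain ⟨a, ha⟩ : ∃ a, a = (Nat.card T).factorization 2 := ⟨_, rfl⟩
  rw [← ha] at hfac ⊢
  have hT0 : Nat.card T ≠ 0 := Nat.card_pos.ne'
  have hcardS' : Nat.card S' = 2 ^ (a + 1) := by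
    rw [hS', ← Nat.card_congr ((P₀ : Subgroup N).equivMapOfInjective N.subtype
      N.subtype_injective).toEquiv, Sylow.card_eq_multiplicity, hcardN,
      Nat.factorization_mul two_ne_zero hT0, Finsupp.add_apply,
      Nat.Prime.factorization_self Nat.prime_two, ← ha, add_comm]
  obtain ⟨S, hS⟩ : ∃ S : Sylow 2 (Matrix.SpecialLinearGroup (Fin 2) F),
      (S : Subgroup (Matrix.SpecialLinearGroup (Fin 2) F)) = S' :=
    ⟨Sylow.ofCard S' (by rw [hcardS', hfac]), rfl⟩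
  have ha2 : 2 ≤ a := by
    rw [ha]
    exact (Nat.Prime.pow_dvd_iff_le_factorization Nat.prime_two hT0).1
      (by rw [show (2 : ℕ) ^ 2 = 4 from rfl]; exact h4)
  have hexg : ∃ g ∈ S', g ∉ T := by
    by_contra hcon
    push Not at hcon
    have hle : S' ≤ T := hcon
    have hdvd := Subgroup.card_dvd_of_le hle
    rw [hcardS', ha] at hdvd
    exact Nat.pow_succ_factorization_not_dvd hT0 Nat.prime_two hdvd
  obtain ⟨g, hgS, hgT⟩ := hexg
  have hgN : g ∈ N := hS'N hgS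
  have hidxD : (T.subgroupOf S').index = 2 := by
    apply index_two_of _ ⟨g, hgS⟩
    · rw [Subgroup.mem_subgroupOf]; exact hgT
    · intro b hb
      rw [Subgroup.mem_subgroupOf] at hb ⊢
      exact hprod b.1 (hS'N b.2) hb g hgN hgT
  have hcardD : Nat.card (T ⊓ S' : Subgroup (Matrix.SpecialLinearGroup (Fin 2) F)) = 2 ^ a := by
    have h1 := (T.subgroupOf S').card_mul_index
    rw [hidxD, hcardS', ← Subgroup.inf_subgroupOf_right,
      Nat.card_congr (Subgroup.subgroupOfEquivOfLe (inf_le_right : T ⊓ S' ≤ S')).toEquiv,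
      pow_succ] at h1
    exact Nat.eq_of_mul_eq_mul_right (by norm_num) h1
  have hDT : T ⊓ S' ≤ T := inf_le_left
  have hDS : T ⊓ S' ≤ S' := inf_le_right
  have hSp : IsPGroup 2 S' := by rw [← hS]; exact S.2
  have hDp : IsPGroup 2 (T ⊓ S' : Subgroup (Matrix.SpecialLinearGroup (Fin 2) F)) :=
    hSp.to_le hDS
  have hB4 : ∀ t ∈ T, ∀ k : ℕ, t ^ (2 ^ k) = 1 → t ∈ T ⊓ S' := by
    intro t ht k hk
    have hZp : IsPGroup 2 (Subgroup.zpowers t) := by
      obtain ⟨j, _, hj⟩ := (Nat.dvd_prime_pow Nat.prime_two).1 (orderOf_dvd_of_pow_eq_one hk)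
      exact IsPGroup.of_card (n := j) (by rw [Nat.card_zpowers, hj])
    have hZT : Subgroup.zpowers t ≤ T := by rw [Subgroup.zpowers_le]; exact ht
    have hnorm : Subgroup.zpowers t ≤ Subgroup.normalizer
        ((T ⊓ S' : Subgroup (Matrix.SpecialLinearGroup (Fin 2) F)) :
          Set (Matrix.SpecialLinearGroup (Fin 2) F)) := by
      intro y hy
      apply Subgroup.mem_normalizer_fintype
      intro w hw
      rw [SetLike.mem_coe] at hw ⊢
      have : y * w * y⁻¹ = w := by rw [hTcomm y (hZT hy) w (hDT hw)]; group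
      rw [this]; exact hw
    have hsup : IsPGroup 2 (Subgroup.zpowers t ⊔ (T ⊓ S') :
        Subgroup (Matrix.SpecialLinearGroup (Fin 2) F)) :=
      IsPGroup.to_sup_of_normal_right' hZp hDp hnorm
    obtain ⟨j, hj⟩ := hsup.exists_card_eq
    have hsupT : Subgroup.zpowers t ⊔ (T ⊓ S') ≤ T := sup_le hZT hDT
    have hdvd := Subgroup.card_dvd_of_le hsupT
    rw [hj] at hdvd
    have hja : j ≤ a := by
      rw [ha]; exact (Nat.Prime.pow_dvd_iff_le_factorization Nat.prime_two hT0).1 hdvd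
    have heq : T ⊓ S' = Subgroup.zpowers t ⊔ (T ⊓ S') :=
      Subgroup.eq_of_le_of_card_ge le_sup_right
        (by rw [hj, hcardD]; exact Nat.pow_le_pow_right (by norm_num) hja)
    rw [heq]
    exact (le_sup_left : Subgroup.zpowers t ≤ _) (Subgroup.mem_zpowers t)
  -- an element of order `2 ^ a`
  obtain ⟨τ, hτ⟩ := IsCyclic.exists_ofOrder_eq_natCard (α := T)
  obtain ⟨n, hn⟩ : 2 ^ a ∣ Nat.card T := by rw [ha]; exact Nat.ordProj_dvd _ _
  have hn0 : n ≠ 0 := by rintro rfl; rw [mul_zero] at hn; exact hT0 hn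
  have hordτ : orderOf (τ ^ n) = 2 ^ a := by
    rw [orderOf_pow_of_dvd hn0 (by rw [hτ, hn]; exact dvd_mul_left _ _), hτ, hn]
    exact Nat.mul_div_cancel _ (Nat.pos_of_ne_zero hn0)
  obtain ⟨δ, hδ⟩ : ∃ δ : Matrix.SpecialLinearGroup (Fin 2) F, δ = ((τ ^ n : T) :
      Matrix.SpecialLinearGroup (Fin 2) F) := ⟨_, rfl⟩
  have hδT : δ ∈ T := by rw [hδ]; exact (τ ^ n).2
  have hδo : orderOf δ = 2 ^ a := by rw [hδ, Subgroup.orderOf_coe, hordτ]
  have hδD : δ ∈ T ⊓ S' := hB4 δ hδT a (by rw [← hδo]; exact pow_orderOf_eq_one δ)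
  refine ⟨S, g, ?_⟩
  rw [hS]
  exact
    { comm := hTcomm
      cent := hcent
      SN := by rw [← hN]; exact hS'N
      gS := hgS
      gT := hgT
      inv := by rw [← hN]; exact hinv
      sq := by rw [← hN]; exact hsq
      prod := by rw [← hN]; exact hprod
      cardD := hcardD
      a2 := ha2
      syl := hB4
      dex := ⟨δ, hδD, hδo⟩ }

end

end Cfsg.Agent.Lib.Helper2.SL2SylTwo
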