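import Mathlib
import Cfsg.Agent.S2508
import Cfsg.Agent.Lib.Helper2.SL2SylTwo

set_option linter.style.haveILetI false
set_option linter.unusedSectionVars false
set_option linter.unusedVariables false

namespace Cfsg.Agent.Lib.Helper2.SL2Orders

open Cfsg.Agent.S2507 (upper_conj diag_conj e00 e01 e10 e11 val_eq zz_eq_one center_bot)
open Cfsg.Agent.S2508 (pr pr_surj mem_center pr_eq_iff)
open Cfsg.Agent.Lib.Helper2.SL2Unip Cfsg.Agent.Lib.Helper2.SL2Tori
  Cfsg.Agent.Lib.Helper2.SL2Nonsplit Cfsg.Agent.Lib.Helper2.Quad Cfsg.Agent.Lib.Helper2.SL2SylTwo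

theorem pow_conj_one {G : Type*} [Group G] (x g : G) (k : ℕ) (h1 : (x * g * x⁻¹) ^ k = 1) :
    g ^ k = 1 := by
  rw [conj_pow] at h1
  have h2 : g ^ k = x⁻¹ * (x * g ^ k * x⁻¹) * x := by group
  rw [h2, h1]; group

theorem exists_order {G : Type*} [Group G] [Finite G] [IsCyclic G] (k : ℕ) (hk : k ∣ Nat.card G) :
    ∃ s : G, orderOf s = k := by
  obtain ⟨t, ht⟩ := IsCyclic.exists_ofOrder_eq_natCard (α := G)
  have hN : Nat.card G ≠ 0 := Nat.card_pos.ne'
  obtain ⟨j, hj⟩ := hk
  have hj0 : j ≠ 0 := by rintro rfl; rw [mul_zero] at hj; exact hN hj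
  refine ⟨t ^ j, ?_⟩
  rw [orderOf_pow_of_dvd hj0 (by rw [ht, hj]; exact dvd_mul_left j k), ht, hj]
  exact Nat.mul_div_cancel k (Nat.pos_of_ne_zero hj0)

theorem exists_order_sub {G : Type*} [Group G] (C : Subgroup G) [Finite C] [IsCyclic C] (k : ℕ)
    (hk : k ∣ Nat.card C) : ∃ s : G, orderOf s = k := by
  obtain ⟨s, hs⟩ := exists_order (G := C) k hk
  exact ⟨(s : G), by rw [Subgroup.orderOf_coe, hs]⟩

section
variable {F : Type*} [Field F] [Fintype F]

theorem pr_eq_one_iff (x : Matrix.SpecialLinearGroup (Fin 2) F) : pr x = 1 ↔ x = 1 ∨ x = zz := by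
  rw [← mem_center]
  exact QuotientGroup.eq_one_iff x

theorem pr_sg (s : Bool) : pr (sg s : Matrix.SpecialLinearGroup (Fin 2) F) = 1 := by
  rw [pr_eq_one_iff]
  cases s
  · left; simp [sg]
  · right; simp [sg]

/-- power classification of the elements of `SL₂(q)` -/
theorem pow_cases (p : ℕ) [Fact p.Prime] [hcp : CharP F p] (g : Matrix.SpecialLinearGroup (Fin 2) F) :
    pr g ^ p = 1 ∨ g ^ (Fintype.card F - 1) = 1 ∨ g ^ (Fintype.card F + 1) = 1 := by
  classical
  have hq2 : 2 ≤ Fintype.card F := Fintype.one_lt_card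
  by_cases hev : ∃ (c : F) (v : Fin 2 → F), v ≠ 0 ∧ (g : Matrix (Fin 2) (Fin 2) F).mulVec v = c • v
  · obtain ⟨c, v, hv, hgv⟩ := hev
    obtain ⟨x, hx⟩ := upper_conj g c v hv hgv
    obtain ⟨h, hh⟩ : ∃ h, h = x * g * x⁻¹ := ⟨_, rfl⟩
    rw [← hh] at hx
    by_cases heq : (h : Matrix (Fin 2) (Fin 2) F) 0 0 = (h : Matrix (Fin 2) (Fin 2) F) 1 1
    · obtain ⟨s, y, hsy⟩ := cent_form hx heq
      left
      apply pow_conj_one (pr x) (pr g) p
      rw [← map_inv, ← map_mul, ← map_mul, ← hh, hsy, map_mul, pr_sg, one_mul, ← map_pow, uu_pow,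
        CharP.cast_eq_zero, zero_mul, uu_zero, map_one]
    · obtain ⟨d, hhd, hdT, hd00⟩ := diag_conj h hx heq
      right; left
      have hd1 : d ^ (Fintype.card F - 1) = 1 := by
        have h3 := pow_card_eq_one' (G := Tsp F) (x := ⟨d, hdT⟩)
        rw [card_Tsp] at h3
        have h4 := congrArg (fun t : Tsp F => (t : Matrix.SpecialLinearGroup (Fin 2) F)) h3
        simpa using h4
      obtain ⟨c', hc'⟩ := isConj_iff.1 hhd
      apply pow_conj_one (c' * x) g
      have h5 : c' * x * g * (c' * x)⁻¹ = d := by rw [← hc', hh]; group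
      rw [h5, hd1]
  · push Not at hev
    obtain ⟨a, b, hab⟩ := Cfsg.Agent.S2475.exists_aniso (F := F) hq2
    obtain ⟨x, hx⟩ := conj_into hab g hev
    right; right
    apply pow_conj_one x g
    have h3 := pow_card_eq_one' (G := Tns a b) (x := ⟨x * g * x⁻¹, hx⟩)
    rw [card_Tns hab] at h3
    have h4 := congrArg (fun t : Tns a b => (t : Matrix.SpecialLinearGroup (Fin 2) F)) h3
    simpa using h4

theorem pr_pow_half (hodd : Odd (Fintype.card F)) (g : Matrix.SpecialLinearGroup (Fin 2) F) (m : ℕ)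
    (h : g ^ (2 * m) = 1) : pr g ^ m = 1 := by
  rw [← map_pow, pr_eq_one_iff]
  apply sq_one_cases hodd
  rw [← pow_two, ← pow_mul, mul_comm]; exact h

theorem orderOf_pr_of_even (hodd : Odd (Fintype.card F)) (s : Matrix.SpecialLinearGroup (Fin 2) F)
    (k : ℕ) (hs : orderOf s = 2 * k) : orderOf (pr s) = k := by
  apply Nat.dvd_antisymm
  · apply orderOf_dvd_of_pow_eq_one
    apply pr_pow_half hodd
    rw [← hs]; exact pow_orderOf_eq_one s
  · obtain ⟨j, hj⟩ : ∃ j, j = orderOf (pr s) := ⟨_, rfl⟩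
    rw [← hj]
    have h1 : pr s ^ j = 1 := by rw [hj]; exact pow_orderOf_eq_one _
    rw [← map_pow, pr_eq_one_iff] at h1
    have h2 : s ^ (2 * j) = 1 := by
      rw [mul_comm, pow_mul]
      rcases h1 with h1 | h1
      · rw [h1, one_pow]
      · rw [h1, pow_two, zz_sq]
    have h3 := orderOf_dvd_of_pow_eq_one h2
    rw [hs] at h3
    exact Nat.dvd_of_mul_dvd_mul_left (by norm_num) h3

theorem pr_injective [CharP F 2] : Function.Injective (pr (F := F)) := by
  rw [← MonoidHom.ker_eq_bot_iff]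
  show (QuotientGroup.mk' _).ker = ⊥
  rw [QuotientGroup.ker_mk', center_bot]

theorem order_pr_uu (p : ℕ) [Fact p.Prime] [CharP F p] :
    orderOf (pr (uu (1 : F))) = p := by
  apply orderOf_eq_prime
  · rw [← map_pow, uu_pow, CharP.cast_eq_zero, zero_mul, uu_zero, map_one]
  · rw [Ne, pr_eq_one_iff]
    rintro (h | h)
    · rw [uu_eq_one_iff] at h; exact one_ne_zero h
    · have h1 := congrArg (fun A : Matrix.SpecialLinearGroup (Fin 2) F =>
        (A : Matrix (Fin 2) (Fin 2) F) 0 1) h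
      simp only [uu_val, zz_val, e01] at h1
      exact one_ne_zero h1

/-- the set of element orders of `PSL₂(q)` -/
theorem spec (p : ℕ) [Fact p.Prime] [hcp : CharP F p] :
    ∃ m₁ m₂ : ℕ, m₁ ∣ Fintype.card F - 1 ∧ m₂ ∣ Fintype.card F + 1 ∧
      Set.range (orderOf : Matrix.ProjectiveSpecialLinearGroup (Fin 2) F → ℕ) =
        {k | k ∣ p ∨ k ∣ m₁ ∨ k ∣ m₂} := by
  classical
  have hq2 : 2 ≤ Fintype.card F := Fintype.one_lt_card
  obtain ⟨a, b, hab⟩ := Cfsg.Agent.S2475.exists_aniso (F := F) hq2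
  haveI := Tsp_cyclic (F := F)
  haveI := Tns_cyclic hab
  rcases Nat.even_or_odd (Fintype.card F) with hev | hodd
  · have hc2 : ringChar F = 2 := FiniteField.even_card_iff_char_two.2 (Nat.even_iff.1 hev)
    haveI : CharP F 2 := ringChar.of_eq hc2
    have hp2 : p = 2 := CharP.eq F hcp (inferInstance : CharP F 2)
    refine ⟨Fintype.card F - 1, Fintype.card F + 1, dvd_rfl, dvd_rfl, ?_⟩
    ext k
    simp only [Set.mem_range, Set.mem_ofPred_eq]
    constructor
    · rintro ⟨x, rfl⟩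
      obtain ⟨g, rfl⟩ := pr_surj x
      have hh0 := pow_cases (F := F) p (hcp := hcp) g
      rcases hh0 with h | h | h
      · left; exact orderOf_dvd_of_pow_eq_one h
      · right; left
        apply orderOf_dvd_of_pow_eq_one
        rw [← map_pow, h, map_one]
      · right; right
        apply orderOf_dvd_of_pow_eq_one
        rw [← map_pow, h, map_one]
    · rintro (h | h | h)
      · rcases (Nat.Prime.eq_one_or_self_of_dvd (Fact.out : p.Prime) k h) with rfl | rfl
        · exact ⟨1, orderOf_one⟩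
        · exact ⟨pr (uu 1), order_pr_uu k⟩
      · obtain ⟨s, hs⟩ := exists_order_sub (Tsp F) k (by rw [card_Tsp]; exact h)
        exact ⟨pr s, by rw [orderOf_injective pr pr_injective, hs]⟩
      · obtain ⟨s, hs⟩ := exists_order_sub (Tns a b) k (by rw [card_Tns hab]; exact h)
        exact ⟨pr s, by rw [orderOf_injective pr pr_injective, hs]⟩
  · obtain ⟨m, hm⟩ := hodd
    have hodd : Odd (Fintype.card F) := ⟨m, hm⟩
    have hm1 : 1 ≤ m := by omega
    refine ⟨m, m + 1, ⟨2, by omega⟩, ⟨2, by omega⟩, ?_⟩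
    ext k
    simp only [Set.mem_range, Set.mem_ofPred_eq]
    constructor
    · rintro ⟨x, rfl⟩
      obtain ⟨g, rfl⟩ := pr_surj x
      rcases pow_cases p g with h | h | h
      · left; exact orderOf_dvd_of_pow_eq_one h
      · right; left
        apply orderOf_dvd_of_pow_eq_one
        apply pr_pow_half hodd
        rw [← h]; congr 1; omega
      · right; right
        apply orderOf_dvd_of_pow_eq_one
        apply pr_pow_half hodd
        rw [← h]; congr 1; omega
    · rintro (h | h | h)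
      · rcases (Nat.Prime.eq_one_or_self_of_dvd (Fact.out : p.Prime) k h) with rfl | rfl
        · exact ⟨1, orderOf_one⟩
        · exact ⟨pr (uu 1), order_pr_uu k⟩
      · obtain ⟨s, hs⟩ := exists_order_sub (Tsp F) (2 * k) (by
          rw [card_Tsp]
          obtain ⟨j, hj⟩ := h
          exact ⟨j, by rw [hm, hj]; simp; ring⟩)
        exact ⟨pr s, orderOf_pr_of_even hodd s k hs⟩
      · obtain ⟨s, hs⟩ := exists_order_sub (Tns a b) (2 * k) (by
          rw [card_Tns hab]
          obtain ⟨j, hj⟩ := h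
          exact ⟨j, by rw [hm, show 2 * m + 1 + 1 = 2 * (m + 1) by ring, hj]; ring⟩)
        exact ⟨pr s, orderOf_pr_of_even hodd s k hs⟩

end

end Cfsg.Agent.Lib.Helper2.SL2Orders
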