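import Mathlib
import Cfsg.Agent.Lib.Helper2.SL2Orders

set_option linter.style.haveILetI false
set_option linter.unusedSectionVars false
set_option linter.unusedVariables false

namespace Cfsg.Agent.Lib.Helper2.SL2Cover

open Cfsg.Agent.S2507 (e00 e01 e10 e11 val_eq)
open Cfsg.Agent.S2508 (pr pr_surj pr_eq_iff)
open Cfsg.Agent.S2475 (ext2 mul2)
open Cfsg.Agent.Lib.Helper2.SL2Unip Cfsg.Agent.Lib.Helper2.SL2Tori Cfsg.Agent.Lib.Helper2.SL2Orders

section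
variable {F : Type*} [Field F]

/-- explicit elements of `SL₂` -/
def mk2 (a b c d : F) (h : a * d - b * c = 1) : Matrix.SpecialLinearGroup (Fin 2) F :=
  ⟨!![a, b; c, d], by rw [Matrix.det_fin_two_of]; exact h⟩

theorem mk2_val (a b c d : F) (h : a * d - b * c = 1) :
    ((mk2 a b c d h : Matrix.SpecialLinearGroup (Fin 2) F) : Matrix (Fin 2) (Fin 2) F) =
      !![a, b; c, d] := rfl

/-- the trace -/
def tr2 (g : Matrix.SpecialLinearGroup (Fin 2) F) : F :=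
  (g : Matrix (Fin 2) (Fin 2) F) 0 0 + (g : Matrix (Fin 2) (Fin 2) F) 1 1

theorem tr2_conj (x a : Matrix.SpecialLinearGroup (Fin 2) F) : tr2 (x * a * x⁻¹) = tr2 a := by
  have h := trace_conj x a
  rw [Matrix.trace_fin_two, Matrix.trace_fin_two] at h
  exact h

theorem tr2_conj' (x a : Matrix.SpecialLinearGroup (Fin 2) F) : tr2 (x⁻¹ * a * x) = tr2 a := by
  have h := tr2_conj x⁻¹ a
  rwa [inv_inv] at h

theorem tr2_one : tr2 (1 : Matrix.SpecialLinearGroup (Fin 2) F) = 2 := by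
  rw [tr2, Matrix.SpecialLinearGroup.coe_one, Matrix.one_apply_eq, Matrix.one_apply_eq]
  norm_num

theorem tr2_zz : tr2 (zz : Matrix.SpecialLinearGroup (Fin 2) F) = -2 := by
  rw [tr2, zz_val, e00, e11]; ring

theorem tr2_zz_mul (g : Matrix.SpecialLinearGroup (Fin 2) F) : tr2 (zz * g) = - tr2 g := by
  rw [tr2, entry_mul, entry_mul, zz_val, e00, e01, e10, e11, tr2]; ring

theorem tr2_mk2 (a b c d : F) (h : a * d - b * c = 1) : tr2 (mk2 a b c d h) = a + d := by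
  rw [tr2, mk2_val, e00, e11]

/-- the normal form `[[0, -1/c], [c, σ]]` -/
def Mn (c : F) (hc : c ≠ 0) (σ : F) : Matrix.SpecialLinearGroup (Fin 2) F :=
  mk2 0 (-c⁻¹) c σ (by rw [zero_mul, zero_sub, neg_mul, neg_neg, inv_mul_cancel₀ hc])

theorem Mn_val (c : F) (hc : c ≠ 0) (σ : F) :
    ((Mn c hc σ : Matrix.SpecialLinearGroup (Fin 2) F) : Matrix (Fin 2) (Fin 2) F) =
      !![0, -c⁻¹; c, σ] := rfl

theorem tr2_Mn (c : F) (hc : c ≠ 0) (σ : F) : tr2 (Mn c hc σ) = σ := by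
  rw [Mn, tr2_mk2, zero_add]

theorem uu_inv (x : F) : (uu x)⁻¹ = uu (-x) := by
  apply inv_eq_of_mul_eq_one_left
  rw [uu_mul, neg_add_cancel, uu_zero]

/-- an element with nonzero lower-left entry is conjugate to its normal form -/
theorem normal_of_ll (g : Matrix.SpecialLinearGroup (Fin 2) F)
    (hγ : (g : Matrix (Fin 2) (Fin 2) F) 1 0 ≠ 0) :
    (uu ((g : Matrix (Fin 2) (Fin 2) F) 0 0 / (g : Matrix (Fin 2) (Fin 2) F) 1 0))⁻¹ * g *
      uu ((g : Matrix (Fin 2) (Fin 2) F) 0 0 / (g : Matrix (Fin 2) (Fin 2) F) 1 0) =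
      Mn ((g : Matrix (Fin 2) (Fin 2) F) 1 0) hγ (tr2 g) := by
  obtain ⟨α, hα⟩ : ∃ α, α = (g : Matrix (Fin 2) (Fin 2) F) 0 0 := ⟨_, rfl⟩
  obtain ⟨β, hβ⟩ : ∃ β, β = (g : Matrix (Fin 2) (Fin 2) F) 0 1 := ⟨_, rfl⟩
  obtain ⟨γ, hγ'⟩ : ∃ γ, γ = (g : Matrix (Fin 2) (Fin 2) F) 1 0 := ⟨_, rfl⟩
  obtain ⟨δ, hδ⟩ : ∃ δ, δ = (g : Matrix (Fin 2) (Fin 2) F) 1 1 := ⟨_, rfl⟩
  have hdet : α * δ - β * γ = 1 := by
    have := g.det_coe
    rw [Matrix.det_fin_two, ← hα, ← hβ, ← hγ', ← hδ] at this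
    exact this
  have hgval : (g : Matrix (Fin 2) (Fin 2) F) = !![α, β; γ, δ] := by
    rw [hα, hβ, hγ', hδ]; exact val_eq g
  have hγ0 : γ ≠ 0 := by rw [hγ']; exact hγ
  apply Subtype.ext
  rw [uu_inv, Matrix.SpecialLinearGroup.coe_mul, Matrix.SpecialLinearGroup.coe_mul, uu_val, uu_val,
    Mn_val, tr2, ← hα, ← hγ', ← hδ, hgval, Matrix.mul_fin_two, Matrix.mul_fin_two]
  apply ext2
  · rw [e00, e00]; field_simp; ring
  · rw [e01, e01]; field_simp; linear_combination (-1 : F) * hdet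
  · rw [e10, e10]; ring
  · rw [e11, e11]; field_simp; ring

/-- a non-central element is conjugate to an element with nonzero lower-left entry -/
theorem exists_ll (g : Matrix.SpecialLinearGroup (Fin 2) F) (h1 : g ≠ 1) (hz : g ≠ zz) :
    ∃ P : Matrix.SpecialLinearGroup (Fin 2) F,
      ((P⁻¹ * g * P : Matrix.SpecialLinearGroup (Fin 2) F) : Matrix (Fin 2) (Fin 2) F) 1 0 ≠ 0 := by
  obtain ⟨α, hα⟩ : ∃ α, α = (g : Matrix (Fin 2) (Fin 2) F) 0 0 := ⟨_, rfl⟩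
  obtain ⟨β, hβ⟩ : ∃ β, β = (g : Matrix (Fin 2) (Fin 2) F) 0 1 := ⟨_, rfl⟩
  obtain ⟨γ, hγ'⟩ : ∃ γ, γ = (g : Matrix (Fin 2) (Fin 2) F) 1 0 := ⟨_, rfl⟩
  obtain ⟨δ, hδ⟩ : ∃ δ, δ = (g : Matrix (Fin 2) (Fin 2) F) 1 1 := ⟨_, rfl⟩
  have hdet : α * δ - β * γ = 1 := by
    have := g.det_coe
    rw [Matrix.det_fin_two, ← hα, ← hβ, ← hγ', ← hδ] at this
    exact this
  have hgval : (g : Matrix (Fin 2) (Fin 2) F) = !![α, β; γ, δ] := by
    rw [hα, hβ, hγ', hδ]; exact val_eq g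
  by_cases hγ0 : γ = 0
  · by_cases hβ0 : β = 0
    · -- diagonal, use l(1)
      refine ⟨mk2 1 0 1 1 (by ring), ?_⟩
      rw [Matrix.SpecialLinearGroup.coe_mul, Matrix.SpecialLinearGroup.coe_mul, entry_inv, mk2_val,
        hgval]
      simp only [e00, e01, e10, e11]
      rw [Matrix.mul_fin_two, Matrix.mul_fin_two, e10]
      intro h
      have hαδ : α = δ := by rw [hγ0, hβ0] at h; linear_combination (-1 : F) * h
      rw [hγ0, hβ0, ← hαδ] at hdet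
      have h3 : (α - 1) * (α + 1) = 0 := by linear_combination hdet
      rcases mul_eq_zero.1 h3 with h4 | h4
      · apply h1
        apply Subtype.ext
        rw [hgval, Matrix.SpecialLinearGroup.coe_one, hγ0, hβ0, ← hαδ, sub_eq_zero.1 h4]
        apply ext2 <;> simp
      · apply hz
        apply Subtype.ext
        rw [hgval, zz_val, hγ0, hβ0, ← hαδ, eq_neg_of_add_eq_zero_left h4]
    · refine ⟨mk2 0 1 (-1) 0 (by ring), ?_⟩
      rw [Matrix.SpecialLinearGroup.coe_mul, Matrix.SpecialLinearGroup.coe_mul, entry_inv, mk2_val,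
        hgval]
      simp only [e00, e01, e10, e11]
      rw [Matrix.mul_fin_two, Matrix.mul_fin_two, e10]
      intro h
      apply hβ0
      linear_combination (-1 : F) * h
  · refine ⟨1, ?_⟩
    rw [inv_one, one_mul, mul_one, ← hγ']
    exact hγ0

/-- normal form of a non-central element -/
theorem exists_normal (g : Matrix.SpecialLinearGroup (Fin 2) F) (h1 : g ≠ 1) (hz : g ≠ zz) :
    ∃ (P : Matrix.SpecialLinearGroup (Fin 2) F) (c : F) (hc : c ≠ 0),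
      P⁻¹ * g * P = Mn c hc (tr2 g) := by
  obtain ⟨P, hP⟩ := exists_ll g h1 hz
  have h := normal_of_ll (P⁻¹ * g * P) hP
  rw [tr2_conj'] at h
  refine ⟨P * uu (((P⁻¹ * g * P : Matrix.SpecialLinearGroup (Fin 2) F) :
    Matrix (Fin 2) (Fin 2) F) 0 0 / ((P⁻¹ * g * P : Matrix.SpecialLinearGroup (Fin 2) F) :
    Matrix (Fin 2) (Fin 2) F) 1 0), _, hP, ?_⟩
  rw [← h]
  group

/-- normal forms with the same trace are conjugate as soon as the norm form represents `c₁ / c₂` -/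
theorem Mn_conj (c₁ c₂ : F) (h₁ : c₁ ≠ 0) (h₂ : c₂ ≠ 0) (τ a b : F)
    (hab : a ^ 2 + a * b * τ + b ^ 2 = c₁ / c₂) :
    ∃ Q : Matrix.SpecialLinearGroup (Fin 2) F, Q * Mn c₁ h₁ τ * Q⁻¹ = Mn c₂ h₂ τ := by
  have hdet : a * (c₂ * (a + b * τ) / c₁) - (-b / c₁) * (c₂ * b) = 1 := by
    have h3 : a * (c₂ * (a + b * τ) / c₁) - (-b / c₁) * (c₂ * b) =
        (c₂ / c₁) * (a ^ 2 + a * b * τ + b ^ 2) := by
      field_simp; ring
    rw [h3, hab]; field_simp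
  refine ⟨mk2 a (-b / c₁) (c₂ * b) (c₂ * (a + b * τ) / c₁) hdet, ?_⟩
  rw [mul_inv_eq_iff_eq_mul]
  apply Subtype.ext
  rw [Matrix.SpecialLinearGroup.coe_mul, Matrix.SpecialLinearGroup.coe_mul, mk2_val, Mn_val, Mn_val,
    Matrix.mul_fin_two, Matrix.mul_fin_two]
  apply ext2
  · rw [e00, e00]; field_simp
  · rw [e01, e01]; field_simp; ring
  · rw [e10, e10]; field_simp; ring
  · rw [e11, e11]; field_simp

/-- non-central elements with the same trace are conjugate when the norm form is universal -/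
theorem conj_of_trace (y₁ y₂ : Matrix.SpecialLinearGroup (Fin 2) F) (h1 : y₁ ≠ 1) (h1z : y₁ ≠ zz)
    (h2 : y₂ ≠ 1) (h2z : y₂ ≠ zz) (htr : tr2 y₁ = tr2 y₂)
    (hN : ∀ c : F, c ≠ 0 → ∃ a b : F, a ^ 2 + a * b * (tr2 y₁) + b ^ 2 = c) : IsConj y₁ y₂ := by
  obtain ⟨P₁, c₁, hc₁, hP₁⟩ := exists_normal y₁ h1 h1z
  obtain ⟨P₂, c₂, hc₂, hP₂⟩ := exists_normal y₂ h2 h2z
  rw [← htr] at hP₂
  obtain ⟨a, b, hab⟩ := hN (c₁ / c₂) (div_ne_zero hc₁ hc₂)
  obtain ⟨Q, hQ⟩ := Mn_conj c₁ c₂ hc₁ hc₂ (tr2 y₁) a b hab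
  rw [isConj_iff]
  refine ⟨P₂ * Q * P₁⁻¹, ?_⟩
  have e1 : y₂ = P₂ * (P₂⁻¹ * y₂ * P₂) * P₂⁻¹ := by group
  rw [e1, hP₂, ← hQ, ← hP₁]; group

theorem norm_surj_two [Finite F] [CharP F 2] (τ c : F) :
    ∃ a b : F, a ^ 2 + a * b * τ + b ^ 2 = c := by
  obtain ⟨a, ha⟩ := FiniteField.isSquare_of_char_two (ringChar.eq F 2) c
  exact ⟨a, 0, by rw [ha]; ring⟩

open Polynomial in
theorem norm_surj_odd [Fintype F] (hodd : Fintype.card F % 2 = 1) (τ : F) (hτ : τ ^ 2 ≠ 4) (c : F) :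
    ∃ a b : F, a ^ 2 + a * b * τ + b ^ 2 = c := by
  have h2 : (2 : F) ≠ 0 := Cfsg.Agent.S0268.two_ne_zero_of_odd_card (Nat.odd_iff.2 hodd)
  have h4 : (4 : F) ≠ 0 := by
    have : (4 : F) = 2 * 2 := by norm_num
    rw [this]; exact mul_ne_zero h2 h2
  obtain ⟨κ, hκ⟩ : ∃ κ : F, κ = 1 - τ ^ 2 / 4 := ⟨_, rfl⟩
  have hκ0 : κ ≠ 0 := by
    rw [hκ]
    intro h
    apply hτ
    field_simp at h
    linear_combination (-1 : F) * h
  have hf : (X ^ 2 : F[X]).degree = 2 := degree_X_pow 2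
  have hg : (C κ * X ^ 2 + C 0 * X + C (-c) : F[X]).degree = 2 := degree_quadratic hκ0
  obtain ⟨A, B, hAB⟩ := FiniteField.exists_root_sum_quadratic hf hg hodd
  simp only [eval_add, eval_mul, eval_C, eval_pow, eval_X] at hAB
  refine ⟨A - B * τ / 2, B, ?_⟩
  rw [hκ] at hAB
  field_simp at hAB ⊢
  linear_combination hAB

/-- factorisation of a normal form into two elements of trace `τ` -/
theorem cover_normal (c : F) (hc : c ≠ 0) (σ τ p r s : F) (h1 : r + s = τ - p * σ)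
    (h2 : r * s = 1 - p * τ + p ^ 2) :
    ∃ y y' : Matrix.SpecialLinearGroup (Fin 2) F, Mn c hc σ = y * y' ∧ tr2 y = τ ∧ tr2 y' = τ := by
  have hdet : p * (τ - p) - (-r / c) * (s * c) = 1 := by
    field_simp; linear_combination h2
  obtain ⟨y, hy⟩ : ∃ y, y = mk2 p (-r / c) (s * c) (τ - p) hdet := ⟨_, rfl⟩
  refine ⟨y, y⁻¹ * Mn c hc σ, by group, ?_, ?_⟩
  · rw [hy, tr2_mk2]; ring
  · rw [tr2, entry_mul, entry_mul, entry_inv, hy, mk2_val, Mn_val]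
    simp only [e00, e01, e10, e11]
    field_simp
    linear_combination h1

open Polynomial in
theorem exists_prs [Fintype F] (hodd : Fintype.card F % 2 = 1) (σ τ : F) (hσ : σ ≠ 2) (hτ : τ ≠ 0) :
    ∃ p r s : F, r + s = τ - p * σ ∧ r * s = 1 - p * τ + p ^ 2 := by
  have h2 : (2 : F) ≠ 0 := Cfsg.Agent.S0268.two_ne_zero_of_odd_card (Nat.odd_iff.2 hodd)
  have h8 : (8 : F) ≠ 0 := by
    have : (8 : F) = 2 ^ 3 := by norm_num
    rw [this]; exact pow_ne_zero 3 h2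
  have key : ∃ p z : F, z ^ 2 = (τ - p * σ) ^ 2 - 4 * (1 - p * τ + p ^ 2) := by
    by_cases hσ2 : σ = -2
    · refine ⟨(4 - τ ^ 2) / (8 * τ), 0, ?_⟩
      rw [hσ2]; field_simp; ring
    · have hA : -(σ ^ 2 - 4) ≠ 0 := by
        intro h
        have h3 : (σ - 2) * (σ + 2) = 0 := by linear_combination (-1 : F) * h
        rcases mul_eq_zero.1 h3 with h | h
        · exact hσ (sub_eq_zero.1 h)
        · exact hσ2 (eq_neg_of_add_eq_zero_left h)
      have hf : (X ^ 2 : F[X]).degree = 2 := degree_X_pow 2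
      have hg : (C (-(σ ^ 2 - 4)) * X ^ 2 + C (-(4 * τ - 2 * τ * σ)) * X + C (-(τ ^ 2 - 4)) :
          F[X]).degree = 2 := degree_quadratic hA
      obtain ⟨z, p, h⟩ := FiniteField.exists_root_sum_quadratic hf hg hodd
      simp only [eval_add, eval_mul, eval_C, eval_pow, eval_X] at h
      exact ⟨p, z, by linear_combination h⟩
  obtain ⟨p, z, hz⟩ := key
  refine ⟨p, ((τ - p * σ) + z) / 2, ((τ - p * σ) - z) / 2, ?_, ?_⟩
  · field_simp; ring
  · field_simp; linear_combination (-1 : F) * hz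

end

end Cfsg.Agent.Lib.Helper2.SL2Cover
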