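import Mathlib
import Cfsg.Agent.Lib.Helper2.SL2Cover
import Cfsg.Agent.S2431

set_option linter.style.haveILetI false
set_option linter.unusedSectionVars false
set_option linter.unusedVariables false

namespace Cfsg.Agent.Lib.Helper2.SL2Redundant

open Cfsg.Agent.S2507 (e00 e01 e10 e11 val_eq)
open Cfsg.Agent.S2475 (ext2)
open Cfsg.Agent.Lib.Helper2.SL2Unip Cfsg.Agent.Lib.Helper2.SL2Tori Cfsg.Agent.Lib.Helper2.SL2Nonsplit
  Cfsg.Agent.Lib.Helper2.SL2Orders Cfsg.Agent.Lib.Helper2.SL2Cover Cfsg.Agent.Lib.Helper2.SL2SylTwo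
  Cfsg.Agent.Lib.Helper2.Quad

section generic
variable {G : Type*} [Group G] [Finite G]

/-- a redundant Sylow subgroup -/
def Red (p : ℕ) (Q : Sylow p G) : Prop :=
  ∀ x : G, (∃ k : ℕ, orderOf x = p ^ k) → ∃ P : Sylow p G, P ≠ Q ∧ x ∈ P

theorem mem_smul_sylow {p : ℕ} (c x : G) (S : Sylow p G) : x ∈ c • S ↔ c⁻¹ * x * c ∈ S := by
  show x ∈ ((c • S : Sylow p G) : Subgroup G) ↔ _
  rw [Sylow.coe_subgroup_smul, Subgroup.mem_pointwise_smul_iff_inv_smul_mem, MulAut.smul_def,
    MulAut.conj_inv_apply]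
  rfl

theorem not_red_of_cyclic (p : ℕ) [Fact p.Prime] (Q₀ : Sylow p G) (hc : IsCyclic Q₀)
    (Q : Sylow p G) : ¬ Red p Q := by
  intro hred
  haveI : IsCyclic Q := isCyclic_of_surjective (Sylow.equiv Q₀ Q) (Sylow.equiv Q₀ Q).surjective
  obtain ⟨g, hg⟩ := IsCyclic.exists_generator (α := Q)
  have hord : ∃ k, orderOf (g : G) = p ^ k := by
    obtain ⟨k, hk⟩ := Q.isPGroup' g
    have h1 := orderOf_dvd_of_pow_eq_one hk
    obtain ⟨j, -, hj⟩ := (Nat.dvd_prime_pow Fact.out).1 h1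
    exact ⟨j, by rw [Subgroup.orderOf_coe, hj]⟩
  obtain ⟨P, hPQ, hxP⟩ := hred g hord
  apply hPQ
  symm
  apply Sylow.ext
  apply Subgroup.eq_of_le_of_card_ge
  · intro y hy
    obtain ⟨k, hk⟩ := Subgroup.mem_zpowers_iff.1 (hg ⟨y, hy⟩)
    have h2 : y = (g : G) ^ k := by rw [← Subgroup.coe_zpow, hk]
    rw [h2]
    exact Subgroup.zpow_mem _ hxP k
  · rw [Sylow.card_eq_multiplicity, Sylow.card_eq_multiplicity]

theorem cyc_sylow (ℓ : ℕ) [Fact ℓ.Prime] (T : Subgroup G) (hTc : IsCyclic T)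
    (hfac : (Nat.card G).factorization ℓ = (Nat.card T).factorization ℓ) :
    ∃ Q : Sylow ℓ G, IsCyclic Q := by
  obtain ⟨a, ha⟩ : ∃ a, a = (Nat.card T).factorization ℓ := ⟨_, rfl⟩
  have hn0 : Nat.card T ≠ 0 := Nat.card_pos.ne'
  have hdvd : ℓ ^ a ∣ Nat.card T := by rw [ha]; exact Nat.ordProj_dvd _ _
  obtain ⟨τ, hτ⟩ := IsCyclic.exists_ofOrder_eq_natCard (α := T)
  obtain ⟨n, hn⟩ := hdvd
  have hn0' : n ≠ 0 := by rintro rfl; rw [mul_zero] at hn; exact hn0 hn
  have hord : orderOf (τ ^ n) = ℓ ^ a := by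
    rw [orderOf_pow_of_dvd hn0' (by rw [hτ, hn]; exact dvd_mul_left _ _), hτ, hn]
    exact Nat.mul_div_cancel _ (Nat.pos_of_ne_zero hn0')
  have hcardQ : Nat.card (Subgroup.zpowers ((τ ^ n : T) : G)) =
      ℓ ^ (Nat.card G).factorization ℓ := by
    rw [Nat.card_zpowers, Subgroup.orderOf_coe, hord, hfac, ha]
  refine ⟨Sylow.ofCard _ hcardQ, ?_⟩
  have h1 : ((Sylow.ofCard _ hcardQ : Sylow ℓ G) : Subgroup G) =
      Subgroup.zpowers ((τ ^ n : T) : G) := Sylow.coe_ofCard _ _
  show IsCyclic ↥((Sylow.ofCard _ hcardQ : Sylow ℓ G) : Subgroup G)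
  rw [h1]
  infer_instance

end generic

section sl2
variable {F : Type*} [Field F] [Fintype F]

/-- the unipotent subgroup -/
def uuHom : Multiplicative F →* Matrix.SpecialLinearGroup (Fin 2) F where
  toFun t := uu (Multiplicative.toAdd t)
  map_one' := by rw [toAdd_one, uu_zero]
  map_mul' s t := by rw [toAdd_mul, uu_mul]

theorem uuHom_injective : Function.Injective (uuHom (F := F)) := by
  intro s t h
  exact Multiplicative.toAdd.injective (uu_injective h)

theorem mem_uu_range (w : Matrix.SpecialLinearGroup (Fin 2) F) :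
    w ∈ (uuHom (F := F)).range ↔ ∃ t : F, w = uu t := by
  constructor
  · rintro ⟨t, rfl⟩
    exact ⟨Multiplicative.toAdd t, rfl⟩
  · rintro ⟨t, rfl⟩
    exact ⟨Multiplicative.ofAdd t, rfl⟩

theorem card_uu_range : Nat.card (uuHom (F := F)).range = Fintype.card F := by
  rw [← Nat.card_congr (MonoidHom.ofInjective (uuHom_injective (F := F))).toEquiv,
    Nat.card_congr Multiplicative.toAdd, Nat.card_eq_fintype_card]

/-- conjugation of a unipotent element by an upper triangular element -/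
theorem borel_conj (h : Matrix.SpecialLinearGroup (Fin 2) F)
    (h10 : (h : Matrix (Fin 2) (Fin 2) F) 1 0 = 0) (s : F) :
    h * uu s * h⁻¹ = uu ((h : Matrix (Fin 2) (Fin 2) F) 0 0 ^ 2 * s) := by
  obtain ⟨α, hα⟩ : ∃ α, α = (h : Matrix (Fin 2) (Fin 2) F) 0 0 := ⟨_, rfl⟩
  obtain ⟨β, hβ⟩ : ∃ β, β = (h : Matrix (Fin 2) (Fin 2) F) 0 1 := ⟨_, rfl⟩
  obtain ⟨δ, hδ⟩ : ∃ δ, δ = (h : Matrix (Fin 2) (Fin 2) F) 1 1 := ⟨_, rfl⟩
  have hdet : α * δ = 1 := by
    have := h.det_coe
    rw [Matrix.det_fin_two, ← hα, ← hδ, h10, mul_zero, sub_zero] at this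
    exact this
  have hval : (h : Matrix (Fin 2) (Fin 2) F) = !![α, β; 0, δ] := by
    rw [hα, hβ, hδ, ← h10]; exact val_eq h
  apply Subtype.ext
  rw [Matrix.SpecialLinearGroup.coe_mul, Matrix.SpecialLinearGroup.coe_mul, entry_inv, uu_val,
    uu_val, ← hα, hval]
  simp only [e00, e01, e10, e11]
  rw [Matrix.mul_fin_two, Matrix.mul_fin_two]
  apply ext2
  · rw [e00, e00]; linear_combination hdet
  · rw [e01, e01]; ring
  · rw [e10, e10]; ring
  · rw [e11, e11]; linear_combination hdet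

theorem borel_norm (h : Matrix.SpecialLinearGroup (Fin 2) F)
    (h10 : (h : Matrix (Fin 2) (Fin 2) F) 1 0 = 0) :
    h ∈ Subgroup.normalizer ((uuHom (F := F)).range : Set (Matrix.SpecialLinearGroup (Fin 2) F)) := by
  rw [Subgroup.mem_normalizer_iff]
  intro w
  rw [mem_uu_range, mem_uu_range]
  constructor
  · rintro ⟨t, rfl⟩
    exact ⟨_, borel_conj h h10 t⟩
  · rintro ⟨t, ht⟩
    have h10' : ((h⁻¹ : Matrix.SpecialLinearGroup (Fin 2) F) : Matrix (Fin 2) (Fin 2) F) 1 0 = 0 := by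
      rw [entry_inv, e10, h10, neg_zero]
    refine ⟨((h⁻¹ : Matrix.SpecialLinearGroup (Fin 2) F) : Matrix (Fin 2) (Fin 2) F) 0 0 ^ 2 * t, ?_⟩
    rw [← borel_conj h⁻¹ h10' t, ← ht]
    group

/-- defining characteristic: no redundant Sylow subgroup -/
theorem unip_case (p : ℕ) [Fact p.Prime] [CharP F p]
    (Q : Sylow p (Matrix.SpecialLinearGroup (Fin 2) F)) : ¬ Red p Q := by
  classical
  intro hred
  obtain ⟨n, hpp, hqn⟩ := FiniteField.card F p
  have hq2 : 2 ≤ Fintype.card F := Fintype.one_lt_card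
  have hpq : p ∣ Fintype.card F := by
    rw [hqn]; exact dvd_pow_self p (by have := n.pos; omega)
  have hp1 : ¬ p ∣ Fintype.card F - 1 := by
    intro h
    have h3 : p ∣ 1 := by
      have h4 : Fintype.card F - 1 + 1 = Fintype.card F := by omega
      rw [← h4] at hpq
      exact (Nat.dvd_add_right h).1 hpq
    exact hpp.one_lt.ne' (Nat.dvd_one.1 h3)
  have hp2 : ¬ p ∣ Fintype.card F + 1 := by
    intro h
    have h3 : p ∣ 1 := (Nat.dvd_add_right hpq).1 h
    exact hpp.one_lt.ne' (Nat.dvd_one.1 h3)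
  have hfacU : Nat.card (uuHom (F := F)).range =
      p ^ (Nat.card (Matrix.SpecialLinearGroup (Fin 2) F)).factorization p := by
    rw [card_uu_range, card_sl2, Nat.factorization_mul (by have := Nat.mul_pos (show 0 < Fintype.card F by omega) (show 0 < Fintype.card F - 1 by omega); omega) (by omega),
      Nat.factorization_mul (by omega) (by omega), Finsupp.add_apply, Finsupp.add_apply,
      Nat.factorization_eq_zero_of_not_dvd hp1, Nat.factorization_eq_zero_of_not_dvd hp2, hqn,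
      hpp.factorization_pow]
    simp
  obtain ⟨US, hUS⟩ : ∃ US : Sylow p (Matrix.SpecialLinearGroup (Fin 2) F),
      (US : Subgroup (Matrix.SpecialLinearGroup (Fin 2) F)) = (uuHom (F := F)).range :=
    ⟨Sylow.ofCard _ hfacU, Sylow.coe_ofCard _ _⟩
  obtain ⟨c, hc⟩ := MulAction.exists_smul_eq (Matrix.SpecialLinearGroup (Fin 2) F) US Q
  have hord : ∃ k, orderOf (c * uu (1 : F) * c⁻¹) = p ^ k :=
    ⟨1, by rw [Cfsg.Agent.Lib.Helper2.orderOf_conj_eq, order_uu p one_ne_zero, pow_one]⟩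
  obtain ⟨P, hPQ, hxP⟩ := hred _ hord
  obtain ⟨d, hd⟩ := MulAction.exists_smul_eq (Matrix.SpecialLinearGroup (Fin 2) F) US P
  rw [← hd, mem_smul_sylow] at hxP
  have hxP' : d⁻¹ * (c * uu (1 : F) * c⁻¹) * d ∈ (uuHom (F := F)).range := by
    rw [← hUS]; exact hxP
  obtain ⟨t, ht⟩ := (mem_uu_range _).1 hxP'
  have h1 : (d⁻¹ * c) * uu (1 : F) = uu t * (d⁻¹ * c) := by
    rw [← ht]; group
  obtain ⟨e1, -⟩ := comm_entries h1
  have ht0 : t ≠ 0 := by
    rintro rfl
    rw [uu_zero] at ht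
    have h5 : uu (1 : F) = 1 := by
      have h6 : uu (1 : F) = c⁻¹ * d * (d⁻¹ * (c * uu (1 : F) * c⁻¹) * d) * d⁻¹ * c := by group
      rw [h6, ht]; group
    rw [uu_eq_one_iff] at h5
    exact one_ne_zero h5
  have h10 : ((d⁻¹ * c : Matrix.SpecialLinearGroup (Fin 2) F) : Matrix (Fin 2) (Fin 2) F) 1 0 = 0 := by
    rcases mul_eq_zero.1 e1 with h | h
    · exact absurd h ht0
    · exact h
  have hN : (d⁻¹ * c) • US = US := by
    rw [Sylow.smul_eq_iff_mem_normalizer]
    have h8 := borel_norm _ h10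
    rw [← hUS] at h8
    exact h8
  apply hPQ
  rw [← hd, ← hc]
  have h7 : c = d * (d⁻¹ * c) := by group
  rw [h7, mul_smul, hN]

/-- odd primes different from the characteristic: no redundant Sylow subgroup -/
theorem odd_case (p : ℕ) [Fact p.Prime] (hp2 : p ≠ 2) (hpc : ¬ p ∣ Fintype.card F)
    (Q : Sylow p (Matrix.SpecialLinearGroup (Fin 2) F)) : ¬ Red p Q := by
  classical
  have hpp : p.Prime := Fact.out
  have hq2 : 2 ≤ Fintype.card F := Fintype.one_lt_card
  obtain ⟨a, b, hab⟩ := Cfsg.Agent.S2475.exists_aniso (F := F) hq2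
  have hG : (Nat.card (Matrix.SpecialLinearGroup (Fin 2) F)).factorization p =
      (Fintype.card F - 1).factorization p + (Fintype.card F + 1).factorization p := by
    rw [card_sl2, Nat.factorization_mul (by have := Nat.mul_pos (show 0 < Fintype.card F by omega) (show 0 < Fintype.card F - 1 by omega); omega) (by omega),
      Nat.factorization_mul (by omega) (by omega), Finsupp.add_apply, Finsupp.add_apply,
      Nat.factorization_eq_zero_of_not_dvd hpc, zero_add]
  by_cases hd : p ∣ Fintype.card F - 1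
  · have hp1 : ¬ p ∣ Fintype.card F + 1 := by
      intro h
      have h3 : p ∣ 2 := by
        have h4 : Fintype.card F + 1 = (Fintype.card F - 1) + 2 := by omega
        rw [h4] at h
        exact (Nat.dvd_add_right hd).1 h
      have h5 := Nat.le_of_dvd (by norm_num) h3
      have h6 := hpp.two_le
      omega
    obtain ⟨Q₀, hQ₀⟩ := cyc_sylow p (Tsp F) Tsp_cyclic (by
      rw [hG, card_Tsp, Nat.factorization_eq_zero_of_not_dvd hp1, add_zero])
    exact not_red_of_cyclic p Q₀ hQ₀ Q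
  · obtain ⟨Q₀, hQ₀⟩ := cyc_sylow p (Tns a b) (Tns_cyclic hab) (by
      rw [hG, card_Tns hab, Nat.factorization_eq_zero_of_not_dvd hd, zero_add])
    exact not_red_of_cyclic p Q₀ hQ₀ Q

end sl2

section two
variable {F : Type*} [Field F] [Fintype F]

open Cfsg.Agent.S2508 (exists_avoid zz_ne_one) in
open Cfsg.Agent.S2431 (fac_sl2 fac_two_eq_one sq_eq_zz) in
/-- the torus adapted to the prime two, with its order -/
theorem torus_data' (hodd : Odd (Fintype.card F)) :
    ∃ T : Subgroup (Matrix.SpecialLinearGroup (Fin 2) F), IsCyclic T ∧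
      (∀ t ∈ T, t * t ≠ 1 →
        Subgroup.centralizer ({t} : Set (Matrix.SpecialLinearGroup (Fin 2) F)) = T) ∧
      Nat.card (Subgroup.normalizer (T : Set (Matrix.SpecialLinearGroup (Fin 2) F))) =
        2 * Nat.card T ∧
      (∀ h ∈ Subgroup.normalizer (T : Set (Matrix.SpecialLinearGroup (Fin 2) F)), h ∉ T →
        h * h = zz) ∧
      (Nat.card (Matrix.SpecialLinearGroup (Fin 2) F)).factorization 2 =
        (Nat.card T).factorization 2 + 1 ∧
      4 ∣ Nat.card T ∧
      (Fintype.card F % 4 = 1 → Nat.card T = Fintype.card F - 1) ∧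
      (Fintype.card F % 4 = 3 → Nat.card T = Fintype.card F + 1) := by
  classical
  have h1 : 1 < Fintype.card F := Fintype.one_lt_card
  have hoddq : Fintype.card F % 2 = 1 := Nat.odd_iff.1 hodd
  have h2 : (2 : F) ≠ 0 := Cfsg.Agent.S0268.two_ne_zero_of_odd_card hodd
  by_cases h41 : Fintype.card F % 4 = 1
  · -- split torus
    have hq5 : 5 ≤ Fintype.card F := by omega
    obtain ⟨x, hx⟩ := exists_avoid ({0, 1, -1} : Finset F) (by
      have := Finset.card_le_three (a := (0 : F)) (b := 1) (c := -1)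
      omega)
    simp only [Finset.mem_insert, Finset.mem_singleton, not_or] at hx
    obtain ⟨hx0, hx1, hxm1⟩ := hx
    obtain ⟨d, hd⟩ : ∃ d, d = dsp F (Units.mk0 x hx0) := ⟨_, rfl⟩
    have hdT : d ∈ Tsp F := by rw [hd]; exact ⟨_, rfl⟩
    have hd00 : (d : Matrix (Fin 2) (Fin 2) F) 0 0 = x := by rw [hd, dsp_val, e00]; rfl
    have hda : (d : Matrix (Fin 2) (Fin 2) F) 0 0 ^ 2 ≠ 1 := by
      rw [hd00]
      intro h
      have h3 : (x - 1) * (x + 1) = 0 := by linear_combination h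
      rcases mul_eq_zero.1 h3 with h | h
      · exact hx1 (sub_eq_zero.1 h)
      · exact hxm1 (eq_neg_of_add_eq_zero_left h)
    obtain ⟨d01, d10⟩ := mem_Tsp.1 hdT
    have hS := Cfsg.Agent.S2428.result hodd d d01 d10 hda
    rw [cent_diag hdT hda] at hS
    obtain ⟨-, hcN, -, hsqN⟩ := hS
    refine ⟨Tsp F, Tsp_cyclic, ?_, ?_, ?_, ?_, ?_, ?_, ?_⟩
    · intro t ht htt
      exact cent_diag ht (fun h => htt (Cfsg.Agent.S2430.diag_sq_one ht h))
    · rw [hcN, card_Tsp]
    · intro h hh hhT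
      exact sq_eq_zz (hsqN h hh hhT)
    · rw [fac_sl2 hodd, card_Tsp, fac_two_eq_one (Fintype.card F + 1) (by omega)]
    · rw [card_Tsp]; omega
    · intro _; exact card_Tsp
    · intro h; omega
  · -- non-split torus
    have h43 : Fintype.card F % 4 = 3 := by omega
    obtain ⟨T', hcyc, hcard, -, hcent, -, hcN, -, hsqN⟩ := Cfsg.Agent.S2429.result hodd
    refine ⟨T', hcyc, ?_, ?_, ?_, ?_, ?_, ?_, ?_⟩
    · intro t ht htt
      apply hcent t ht
      · intro h
        apply htt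
        have : t = 1 := Subtype.ext (by rw [h]; rfl)
        rw [this, mul_one]
      · intro h
        apply htt
        have : t = zz := Subtype.ext (by rw [h, zz_val'])
        rw [this, zz_sq]
    · rw [hcN, hcard]
    · intro h hh hhT
      exact sq_eq_zz (hsqN h hh hhT)
    · rw [fac_sl2 hodd, hcard, fac_two_eq_one (Fintype.card F - 1) (by omega), add_comm]
    · rw [hcard]; omega
    · intro h; exact absurd h h41
    · intro _; exact hcard

/-- two-power torus: no redundant Sylow 2-subgroup -/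
theorem two_case_pow (hodd : Odd (Fintype.card F))
    {T : Subgroup (Matrix.SpecialLinearGroup (Fin 2) F)}
    {S₀ : Sylow 2 (Matrix.SpecialLinearGroup (Fin 2) F)} {g : Matrix.SpecialLinearGroup (Fin 2) F}
    {a : ℕ} (cfg : Cfg T (S₀ : Subgroup (Matrix.SpecialLinearGroup (Fin 2) F)) g a)
    (hcN : Nat.card (Subgroup.normalizer (T : Set (Matrix.SpecialLinearGroup (Fin 2) F))) =
        2 * Nat.card T)
    (hfac : (Nat.card (Matrix.SpecialLinearGroup (Fin 2) F)).factorization 2 = a + 1)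
    (hT : Nat.card T = 2 ^ a)
    (Q : Sylow 2 (Matrix.SpecialLinearGroup (Fin 2) F)) : ¬ Red 2 Q := by
  classical
  haveI : Fact (Nat.Prime 2) := ⟨Nat.prime_two⟩
  obtain ⟨δ, hδD, hδo⟩ := cfg.dex
  have hδT : δ ∈ T := hδD.1
  have hTz : Subgroup.zpowers δ = T := by
    apply Subgroup.eq_of_le_of_card_ge
    · rw [Subgroup.zpowers_le]; exact hδT
    · rw [Nat.card_zpowers, hδo, hT]
  have hcardS : ∀ P : Sylow 2 (Matrix.SpecialLinearGroup (Fin 2) F),
      Nat.card (P : Subgroup (Matrix.SpecialLinearGroup (Fin 2) F)) = 2 ^ (a + 1) := by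
    intro P
    rw [Sylow.card_eq_multiplicity, hfac]
  have hNS : Subgroup.normalizer (T : Set (Matrix.SpecialLinearGroup (Fin 2) F)) =
      (S₀ : Subgroup (Matrix.SpecialLinearGroup (Fin 2) F)) := by
    symm
    apply Subgroup.eq_of_le_of_card_ge cfg.SN
    rw [hcN, hT, hcardS]
    exact le_of_eq (by ring)
  have huniq : ∀ P : Sylow 2 (Matrix.SpecialLinearGroup (Fin 2) F), δ ∈ P → P = S₀ := by
    intro P hδP
    have hTP : T ≤ (P : Subgroup (Matrix.SpecialLinearGroup (Fin 2) F)) := by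
      rw [← hTz, Subgroup.zpowers_le]; exact hδP
    have hidx : (T.subgroupOf (P : Subgroup (Matrix.SpecialLinearGroup (Fin 2) F))).index = 2 := by
      have h1 := Subgroup.card_mul_index
        (T.subgroupOf (P : Subgroup (Matrix.SpecialLinearGroup (Fin 2) F)))
      rw [Nat.card_congr (Subgroup.subgroupOfEquivOfLe hTP).toEquiv, hT, hcardS P, pow_succ] at h1
      exact Nat.eq_of_mul_eq_mul_left (by positivity) h1
    have hnorm := Subgroup.normal_of_index_eq_two hidx
    have hPN := (Subgroup.normal_subgroupOf_iff_le_normalizer hTP).1 hnorm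
    rw [hNS] at hPN
    apply Sylow.ext
    apply Subgroup.eq_of_le_of_card_ge hPN
    rw [hcardS, hcardS]
  intro hred
  obtain ⟨c, hc⟩ := MulAction.exists_smul_eq (Matrix.SpecialLinearGroup (Fin 2) F) S₀ Q
  have hord : ∃ k, orderOf (c * δ * c⁻¹) = 2 ^ k :=
    ⟨a, by rw [Cfsg.Agent.Lib.Helper2.orderOf_conj_eq, hδo]⟩
  obtain ⟨P, hPQ, hxP⟩ := hred _ hord
  apply hPQ
  have h1 : δ ∈ c⁻¹ • P := by
    rw [mem_smul_sylow, inv_inv]; exact hxP
  have h2 := huniq _ h1
  rw [inv_smul_eq_iff] at h2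
  rw [h2, hc]

open Cfsg.Agent.S2508 (zz_ne_one) in
/-- torus not of two-power order: the chosen Sylow 2-subgroup is redundant -/
theorem two_case_red (hodd : Odd (Fintype.card F))
    {T : Subgroup (Matrix.SpecialLinearGroup (Fin 2) F)}
    {S₀ : Sylow 2 (Matrix.SpecialLinearGroup (Fin 2) F)} {g : Matrix.SpecialLinearGroup (Fin 2) F}
    {a : ℕ} (cfg : Cfg T (S₀ : Subgroup (Matrix.SpecialLinearGroup (Fin 2) F)) g a)
    (hT : ¬ ∃ j, Nat.card T = 2 ^ j) : Red 2 S₀ := by
  classical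
  haveI : Fact (Nat.Prime 2) := ⟨Nat.prime_two⟩
  have hoddq : Fintype.card F % 2 = 1 := Nat.odd_iff.1 hodd
  have h2 : (2 : F) ≠ 0 := Cfsg.Agent.S0268.two_ne_zero_of_odd_card hodd
  have h4 : (4 : F) ≠ 0 := by
    have : (4 : F) = 2 * 2 := by norm_num
    rw [this]; exact mul_ne_zero h2 h2
  obtain ⟨y, hyT, hyN⟩ : ∃ y ∈ T, y ∉ Subgroup.normalizer
      ((S₀ : Subgroup (Matrix.SpecialLinearGroup (Fin 2) F)) :
        Set (Matrix.SpecialLinearGroup (Fin 2) F)) := by
    by_contra hcon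
    push_neg at hcon
    apply hT
    have hTS : T ≤ (S₀ : Subgroup (Matrix.SpecialLinearGroup (Fin 2) F)) := by
      intro y hy
      exact cfg.keyD y (Subgroup.le_normalizer hy) (hcon y hy)
    have h1 := Subgroup.card_dvd_of_le hTS
    rw [Sylow.card_eq_multiplicity] at h1
    obtain ⟨j, -, hj⟩ := (Nat.dvd_prime_pow Nat.prime_two).1 h1
    exact ⟨j, hj⟩
  have hyS : y • S₀ ≠ S₀ := by
    intro h
    rw [Sylow.smul_eq_iff_mem_normalizer] at h
    exact hyN h
  rintro x ⟨k, hk⟩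
  by_cases hxS : x ∈ (S₀ : Subgroup (Matrix.SpecialLinearGroup (Fin 2) F))
  · by_cases hxT : x ∈ T
    · refine ⟨y • S₀, hyS, ?_⟩
      rw [mem_smul_sylow]
      have h3 : y⁻¹ * x * y = x := by
        rw [mul_assoc, cfg.comm x hxT y hyT, ← mul_assoc, inv_mul_cancel, one_mul]
      rw [h3]; exact hxS
    · have hxN := cfg.SN hxS
      have hxx : x * x = zz := cfg.sq x hxN hxT
      obtain ⟨δ, hδD, hδo⟩ := cfg.dex
      have ha2 := cfg.a2
      obtain ⟨ε, hε⟩ : ∃ ε, ε = δ ^ (2 ^ (a - 2)) := ⟨_, rfl⟩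
      have hεT : ε ∈ T := by rw [hε]; exact T.pow_mem hδD.1 _
      have hεS : ε ∈ (S₀ : Subgroup (Matrix.SpecialLinearGroup (Fin 2) F)) := by
        rw [hε]; exact Subgroup.pow_mem _ hδD.2 _
      have hεo : orderOf ε = 4 := by
        rw [hε, orderOf_pow_of_dvd (by positivity)
          (by rw [hδo]; exact pow_dvd_pow 2 (by omega)), hδo,
          Nat.pow_div (by omega) (by norm_num)]
        have : a - (a - 2) = 2 := by omega
        rw [this]
      have hεε : ε * ε = zz := by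
        have h5 : ε ^ 4 = 1 := by rw [← hεo]; exact pow_orderOf_eq_one ε
        have h6 : (ε * ε) * (ε * ε) = 1 := by
          rw [← h5, show (4 : ℕ) = 2 + 2 from rfl, pow_add, pow_two]
        rcases sq_one_cases hodd _ h6 with h | h
        · exfalso
          have h7 : orderOf ε ∣ 2 := orderOf_dvd_of_pow_eq_one (by rw [pow_two]; exact h)
          rw [hεo] at h7
          omega
        · exact h
      have hz1 : (zz : Matrix.SpecialLinearGroup (Fin 2) F) ≠ 1 := zz_ne_one h2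
      have sqne : ∀ w : Matrix.SpecialLinearGroup (Fin 2) F, w * w = zz → w ≠ 1 ∧ w ≠ zz := by
        intro w hw
        constructor
        · rintro rfl
          rw [mul_one] at hw
          exact hz1 hw.symm
        · rintro rfl
          rw [zz_sq] at hw
          exact hz1 hw.symm
      have htx : tr2 x = 0 := trace_zero_of_sq h2 x hxx
      have htε : tr2 ε = 0 := trace_zero_of_sq h2 ε hεε
      have hN : ∀ c : F, c ≠ 0 → ∃ a b : F, a ^ 2 + a * b * (tr2 ε) + b ^ 2 = c := by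
        intro c _
        rw [htε]
        exact norm_surj_odd hoddq 0 (by rw [zero_pow two_ne_zero]; exact h4.symm) c
      obtain ⟨c, hc⟩ := isConj_iff.1 (conj_of_trace ε x (sqne ε hεε).1 (sqne ε hεε).2
        (sqne x hxx).1 (sqne x hxx).2 (by rw [htε, htx]) hN)
      have hm1 : x ∈ c • S₀ := by
        rw [mem_smul_sylow, ← hc]
        have : c⁻¹ * (c * ε * c⁻¹) * c = ε := by group
        rw [this]; exact hεS
      have hm2 : x ∈ (c * y) • S₀ := by
        rw [mem_smul_sylow, ← hc]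
        have : (c * y)⁻¹ * (c * ε * c⁻¹) * (c * y) = y⁻¹ * ε * y := by group
        rw [this]
        have h3 : y⁻¹ * ε * y = ε := by
          rw [mul_assoc, cfg.comm ε hεT y hyT, ← mul_assoc, inv_mul_cancel, one_mul]
        rw [h3]; exact hεS
      by_cases h5 : c • S₀ = S₀
      · refine ⟨(c * y) • S₀, ?_, hm2⟩
        intro h6
        apply hyS
        have h7 : c • (y • S₀) = c • S₀ := by rw [← mul_smul, h6, h5]
        exact smul_left_cancel c h7
      · exact ⟨c • S₀, h5, hm1⟩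
  · have hp : IsPGroup 2 (Subgroup.zpowers x) :=
      IsPGroup.of_card (n := k) (by rw [Nat.card_zpowers, hk])
    obtain ⟨P, hP⟩ := hp.exists_le_sylow
    refine ⟨P, ?_, hP (Subgroup.mem_zpowers x)⟩
    rintro rfl
    exact hxS (hP (Subgroup.mem_zpowers x))

end two

section transfer
variable {G : Type*} [Group G] [Finite G] {G' : Type*} [Group G']

/-- a central element of prime power order lies in every Sylow subgroup -/
theorem central_mem_sylow (p : ℕ) [Fact p.Prime] (z : G) (hz : z ∈ Subgroup.center G)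
    (hk : ∃ k : ℕ, orderOf z = p ^ k) (P : Sylow p G) : z ∈ P := by
  obtain ⟨k, hk⟩ := hk
  have hp : IsPGroup p (Subgroup.zpowers z) :=
    IsPGroup.of_card (n := k) (by rw [Nat.card_zpowers, hk])
  obtain ⟨P₀, hP₀⟩ := hp.exists_le_sylow
  obtain ⟨c, hc⟩ := MulAction.exists_smul_eq G P₀ P
  rw [← hc, mem_smul_sylow]
  have h1 : c⁻¹ * z * c = z := by
    rw [mul_assoc, ← Subgroup.mem_center_iff.1 hz c, ← mul_assoc, inv_mul_cancel, one_mul]
  rw [h1]
  exact hP₀ (Subgroup.mem_zpowers z)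

/-- for a central kernel, an element of prime power order whose image lies in the image of a
Sylow subgroup lies in that Sylow subgroup -/
theorem mem_of_map_mem (p : ℕ) [Fact p.Prime] (π : G →* G') (hker : π.ker ≤ Subgroup.center G)
    (P : Sylow p G) (x : G) (hx : ∃ k : ℕ, orderOf x = p ^ k)
    (h : π x ∈ (P : Subgroup G).map π) : x ∈ P := by
  obtain ⟨k, hk⟩ := hx
  obtain ⟨u, hu, hux⟩ := h
  obtain ⟨z, hz⟩ : ∃ z, z = u⁻¹ * x := ⟨_, rfl⟩
  have hzker : z ∈ π.ker := by
    rw [MonoidHom.mem_ker, hz, map_mul, map_inv, hux, inv_mul_cancel]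
  have hzc : z ∈ Subgroup.center G := hker hzker
  have hxu : x = u * z := by rw [hz]; group
  obtain ⟨j, hj⟩ := P.isPGroup' ⟨u, hu⟩
  have huj : u ^ (p ^ j) = 1 := by
    have := congrArg Subtype.val hj
    simpa using this
  have hcomm : Commute u⁻¹ x := by
    have h1 : Commute u x := by
      show u * x = x * u
      rw [hxu, mul_assoc, Subgroup.mem_center_iff.1 hzc u, ← mul_assoc]
    exact h1.inv_left
  have hzp : z ^ (p ^ (j + k)) = 1 := by
    rw [hz, hcomm.mul_pow, inv_pow, pow_add, pow_mul, huj, one_pow, inv_one, one_mul, mul_comm,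
      pow_mul, ← hk, pow_orderOf_eq_one, one_pow]
  have hzo : ∃ i : ℕ, orderOf z = p ^ i := by
    obtain ⟨i, -, hi⟩ := (Nat.dvd_prime_pow Fact.out).1 (orderOf_dvd_of_pow_eq_one hzp)
    exact ⟨i, hi⟩
  have hzP := central_mem_sylow p z hzc hzo P
  rw [hxu]
  exact Subgroup.mul_mem _ hu hzP

/-- redundancy descends along a surjection with central kernel -/
theorem red_of_map (p : ℕ) [Fact p.Prime] (π : G →* G') (hπ : Function.Surjective π)
    (hker : π.ker ≤ Subgroup.center G) (Q : Sylow p G)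
    (h : ∀ x : G', (∃ k : ℕ, orderOf x = p ^ k) →
      ∃ P : Sylow p G', P ≠ Q.mapSurjective hπ ∧ x ∈ P) : Red p Q := by
  rintro x ⟨k, hk⟩
  have h1 : ∃ i : ℕ, orderOf (π x) = p ^ i := by
    have h2 := orderOf_map_dvd π x
    rw [hk] at h2
    obtain ⟨i, -, hi⟩ := (Nat.dvd_prime_pow Fact.out).1 h2
    exact ⟨i, hi⟩
  obtain ⟨P', hP'Q, hxP'⟩ := h _ h1
  obtain ⟨P, rfl⟩ := Sylow.mapSurjective_surjective hπ p P'
  refine ⟨P, ?_, ?_⟩
  · rintro rfl
    exact hP'Q rfl
  · apply mem_of_map_mem p π hker P x ⟨k, hk⟩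
    have h3 : π x ∈ ((P.mapSurjective hπ : Sylow p G') : Subgroup G') := hxP'
    rw [Sylow.coe_mapSurjective] at h3
    exact h3

/-- redundancy ascends along a surjection with central kernel of prime power exponent -/
theorem map_of_red (p : ℕ) [Fact p.Prime] (π : G →* G') (hπ : Function.Surjective π)
    (hker : π.ker ≤ Subgroup.center G) (j : ℕ) (hkp : ∀ z ∈ π.ker, z ^ (p ^ j) = 1)
    (Q : Sylow p G) (hQ : Red p Q) (x' : G') (hx' : ∃ k : ℕ, orderOf x' = p ^ k) :
    ∃ P : Sylow p G', P ≠ Q.mapSurjective hπ ∧ x' ∈ P := by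
  obtain ⟨k, hk⟩ := hx'
  obtain ⟨x, rfl⟩ := hπ x'
  have h1 : x ^ (p ^ k) ∈ π.ker := by
    rw [MonoidHom.mem_ker, map_pow, ← hk, pow_orderOf_eq_one]
  have h2 : x ^ (p ^ (k + j)) = 1 := by
    rw [pow_add, pow_mul]; exact hkp _ h1
  have h3 : ∃ i : ℕ, orderOf x = p ^ i := by
    obtain ⟨i, -, hi⟩ := (Nat.dvd_prime_pow Fact.out).1 (orderOf_dvd_of_pow_eq_one h2)
    exact ⟨i, hi⟩
  obtain ⟨P, hPQ, hxP⟩ := hQ x h3
  refine ⟨P.mapSurjective hπ, ?_, ?_⟩
  · intro heq
    apply hPQ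
    have heq' : (P : Subgroup G).map π = (Q : Subgroup G).map π := by
      rw [← Sylow.coe_mapSurjective hπ P, ← Sylow.coe_mapSurjective hπ Q, heq]
    apply Sylow.ext
    apply Subgroup.eq_of_le_of_card_ge
    · intro u hu
      obtain ⟨i, hi⟩ := P.isPGroup' ⟨u, hu⟩
      have hui : u ^ (p ^ i) = 1 := by
        have := congrArg Subtype.val hi
        simpa using this
      have huo : ∃ i : ℕ, orderOf u = p ^ i := by
        obtain ⟨i', -, hi'⟩ := (Nat.dvd_prime_pow Fact.out).1 (orderOf_dvd_of_pow_eq_one hui)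
        exact ⟨i', hi'⟩
      apply mem_of_map_mem p π hker Q u huo
      rw [← heq']
      exact ⟨u, hu, rfl⟩
    · rw [Sylow.card_eq_multiplicity, Sylow.card_eq_multiplicity]
  · show π x ∈ ((P.mapSurjective hπ : Sylow p G') : Subgroup G')
    rw [Sylow.coe_mapSurjective]
    exact ⟨x, hxP, rfl⟩

end transfer

end Cfsg.Agent.Lib.Helper2.SL2Redundant
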