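import Mathlib
import Cfsg.Agent.Lib.Helper2.GL2Sylow
import Cfsg.Agent.Lib.Helper1.SLn

set_option autoImplicit false
set_option linter.style.haveILetI false
set_option linter.unusedSectionVars false
set_option linter.unnecessarySeqFocus false

namespace Cfsg.Agent.Lib.Helper2.SL2

open Matrix Cfsg.Agent.Lib.Helper2.GL2

section
variable {F : Type*} [Field F]

/-- upper unitriangular matrix -/
def upM (y : F) : Matrix (Fin 2) (Fin 2) F := !![1, y; 0, 1]

theorem upM_00 (y : F) : upM y 0 0 = 1 := by simp [upM]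
theorem upM_01 (y : F) : upM y 0 1 = y := by simp [upM]
theorem upM_10 (y : F) : upM y 1 0 = 0 := by simp [upM]
theorem upM_11 (y : F) : upM y 1 1 = 1 := by simp [upM]

theorem up_mul_00 (A : Matrix (Fin 2) (Fin 2) F) (y : F) :
    (upM y * A) 0 0 = A 0 0 + y * A 1 0 := by
  rw [Matrix.mul_apply, Fin.sum_univ_two, upM_00, upM_01, one_mul]
theorem up_mul_01 (A : Matrix (Fin 2) (Fin 2) F) (y : F) :
    (upM y * A) 0 1 = A 0 1 + y * A 1 1 := by
  rw [Matrix.mul_apply, Fin.sum_univ_two, upM_00, upM_01, one_mul]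
theorem up_mul_10 (A : Matrix (Fin 2) (Fin 2) F) (y : F) :
    (upM y * A) 1 0 = A 1 0 := by
  rw [Matrix.mul_apply, Fin.sum_univ_two, upM_10, upM_11, one_mul, zero_mul, zero_add]
theorem up_mul_11 (A : Matrix (Fin 2) (Fin 2) F) (y : F) :
    (upM y * A) 1 1 = A 1 1 := by
  rw [Matrix.mul_apply, Fin.sum_univ_two, upM_10, upM_11, one_mul, zero_mul, zero_add]

theorem conj_to_up (m : Matrix (Fin 2) (Fin 2) F) (h11 : m 1 1 = 0) (x y : F)
    (hxy : m 0 1 * x = y * m 1 0) : m * lowM x = upM y * m := by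
  apply ext2
  · rw [mul_low_00, up_mul_00, hxy]
  · rw [mul_low_01, up_mul_01, h11, mul_zero, add_zero]
  · rw [mul_low_10, up_mul_10, h11, zero_mul, add_zero]
  · rw [mul_low_11, up_mul_11]

theorem one_add_single_10 (a : F) :
    (1 + Matrix.single (1 : Fin 2) (0 : Fin 2) a : Matrix (Fin 2) (Fin 2) F) = lowM a := by
  apply ext2
  · rw [lowM_00]; simp [Matrix.single]
  · rw [lowM_01]; simp [Matrix.single]
  · rw [lowM_10]; simp [Matrix.single]
  · rw [lowM_11]; simp [Matrix.single]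

theorem one_add_single_01 (a : F) :
    (1 + Matrix.single (0 : Fin 2) (1 : Fin 2) a : Matrix (Fin 2) (Fin 2) F) = upM a := by
  apply ext2
  · rw [upM_00]; simp [Matrix.single]
  · rw [upM_01]; simp [Matrix.single]
  · rw [upM_10]; simp [Matrix.single]
  · rw [upM_11]; simp [Matrix.single]

theorem lowM_det (x : F) : (lowM x).det = 1 := by
  rw [Matrix.det_fin_two, lowM_00, lowM_01, lowM_10, lowM_11]; ring

/-- a subgroup containing the lower unitriangular group and a conjugate of it by a matrix with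
non-zero `(0,1)` entry contains the upper unitriangular matrices -/
theorem up_mem (K : Subgroup (GL (Fin 2) F)) (hL : Lsub F ≤ K) (k : GL (Fin 2) F)
    (hk : (k : Matrix (Fin 2) (Fin 2) F) 0 1 ≠ 0) (hkL : ∀ v ∈ Lsub F, k * v * k⁻¹ ∈ K)
    (y : F) (v : GL (Fin 2) F) (hv : (v : Matrix (Fin 2) (Fin 2) F) = upM y) : v ∈ K := by
  obtain ⟨b, hb⟩ : ∃ b : F, b = (k : Matrix (Fin 2) (Fin 2) F) 0 1 := ⟨_, rfl⟩
  obtain ⟨d, hd⟩ : ∃ d : F, d = (k : Matrix (Fin 2) (Fin 2) F) 1 1 := ⟨_, rfl⟩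
  have hb0 : b ≠ 0 := by rw [hb]; exact hk
  obtain ⟨l, hl⟩ : ∃ l : GL (Fin 2) F, l = lowHom (Multiplicative.ofAdd (-d / b)) := ⟨_, rfl⟩
  have hlL : l ∈ Lsub F := by rw [hl]; exact ⟨_, rfl⟩
  have hlv : (l : Matrix (Fin 2) (Fin 2) F) = lowM (-d / b) := by rw [hl]; rfl
  obtain ⟨m, hm⟩ : ∃ m : GL (Fin 2) F, m = l * k := ⟨_, rfl⟩
  have hmv : (m : Matrix (Fin 2) (Fin 2) F) = lowM (-d / b) * (k : Matrix (Fin 2) (Fin 2) F) := by
    rw [hm, Units.val_mul, hlv]
  have hm11 : (m : Matrix (Fin 2) (Fin 2) F) 1 1 = 0 := by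
    rw [hmv, low_mul_11, ← hb, ← hd]
    field_simp
    ring
  have hm01 : (m : Matrix (Fin 2) (Fin 2) F) 0 1 = b := by rw [hmv, low_mul_01, hb]
  have hm10 : (m : Matrix (Fin 2) (Fin 2) F) 1 0 ≠ 0 := by
    have h1 := gl_det_ne_zero m
    rw [hm11, mul_zero, zero_sub, hm01] at h1
    intro h0
    apply h1
    rw [h0, mul_zero, neg_zero]
  obtain ⟨x, hx⟩ : ∃ x : F, x = y * (m : Matrix (Fin 2) (Fin 2) F) 1 0 / b := ⟨_, rfl⟩
  have hrel := conj_to_up (m : Matrix (Fin 2) (Fin 2) F) hm11 x y (by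
    rw [hm01, hx]; field_simp)
  have hvm : v * m = m * lowHom (Multiplicative.ofAdd x) := by
    apply Units.ext
    rw [Units.val_mul, Units.val_mul, hv, lowHom_val]
    exact hrel.symm
  have hv1 : v = m * lowHom (Multiplicative.ofAdd x) * m⁻¹ := by
    rw [← hvm]; group
  have hv' : v = l * (k * lowHom (Multiplicative.ofAdd x) * k⁻¹) * l⁻¹ := by
    rw [hv1, hm]; group
  rw [hv']
  exact K.mul_mem (K.mul_mem (hL hlL) (hkL _ ⟨_, rfl⟩)) (K.inv_mem (hL hlL))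

/-- a subgroup of `GL_2` containing both unitriangular groups contains the image of `SL_2` -/
theorem toGL_mem (K : Subgroup (GL (Fin 2) F)) (hL : Lsub F ≤ K)
    (hU : ∀ (y : F) (v : GL (Fin 2) F), (v : Matrix (Fin 2) (Fin 2) F) = upM y → v ∈ K)
    (M : SpecialLinearGroup (Fin 2) F) : SpecialLinearGroup.toGL M ∈ K := by
  refine Cfsg.Agent.Lib.Helper1.transvection_induction
    (fun M => SpecialLinearGroup.toGL M ∈ K) ?_ ?_ M
  · intro i j hij a
    have hval : ((SpecialLinearGroup.toGL (SpecialLinearGroup.transvection hij a) :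
        GL (Fin 2) F) : Matrix (Fin 2) (Fin 2) F) = 1 + Matrix.single i j a := rfl
    fin_cases i <;> fin_cases j
    · exact absurd rfl hij
    · exact hU a _ (by rw [hval]; exact one_add_single_01 a)
    · apply hL
      rw [mem_Lsub]
      exact ⟨a, by rw [hval]; exact one_add_single_10 a⟩
    · exact absurd rfl hij
  · intro A B hA hB
    show SpecialLinearGroup.toGL (A * B) ∈ K
    rw [map_mul]
    exact K.mul_mem hA hB

theorem exists_SL_conj (g v : GL (Fin 2) F) (hv : (v : Matrix (Fin 2) (Fin 2) F).det = 1) :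
    ∃ s : SpecialLinearGroup (Fin 2) F, SpecialLinearGroup.toGL s = g * v * g⁻¹ := by
  have hdet : ((g * v * g⁻¹ : GL (Fin 2) F) : Matrix (Fin 2) (Fin 2) F).det = 1 := by
    rw [Units.val_mul, Units.val_mul, Matrix.det_units_conj, hv]
  exact ⟨⟨_, hdet⟩, Units.ext rfl⟩

theorem det_of_mem_Lsub {v : GL (Fin 2) F} (hv : v ∈ Lsub F) :
    (v : Matrix (Fin 2) (Fin 2) F).det = 1 := by
  obtain ⟨x, hx⟩ := mem_Lsub.1 hv
  rw [hx, lowM_det]

end

section
variable {F : Type*} [Field F] [Fintype F]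
variable (p : ℕ) [Fact p.Prime] [CharP F p]

theorem exists_conj_low_SL (P : Sylow p (SpecialLinearGroup (Fin 2) F)) :
    ∃ g : GL (Fin 2) F, ∀ s : SpecialLinearGroup (Fin 2) F,
      s ∈ P ↔ g⁻¹ * SpecialLinearGroup.toGL s * g ∈ Lsub F := by
  have hp : IsPGroup p ((P : Subgroup (SpecialLinearGroup (Fin 2) F)).map
      SpecialLinearGroup.toGL) := P.isPGroup'.map _
  obtain ⟨P', hP'⟩ := hp.exists_le_sylow
  obtain ⟨g, hg⟩ := exists_conj_Lsub p P'
  refine ⟨g, fun s => ?_⟩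
  rw [← hg]
  have hR : IsPGroup p ((P' : Subgroup (GL (Fin 2) F)).comap
      (SpecialLinearGroup.toGL : SpecialLinearGroup (Fin 2) F →* GL (Fin 2) F)) :=
    P'.isPGroup'.comap_of_injective _ SpecialLinearGroup.toGL_injective
  have hle : (P : Subgroup (SpecialLinearGroup (Fin 2) F)) ≤
      (P' : Subgroup (GL (Fin 2) F)).comap SpecialLinearGroup.toGL :=
    Subgroup.map_le_iff_le_comap.1 hP'
  have heq := P.is_maximal' hR hle
  constructor
  · intro hs
    exact hle hs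
  · intro hs
    have h1 : s ∈ (P' : Subgroup (GL (Fin 2) F)).comap
        (SpecialLinearGroup.toGL : SpecialLinearGroup (Fin 2) F →* GL (Fin 2) F) := hs
    rw [heq] at h1
    exact h1

/-- two distinct Sylow `p`-subgroups of `SL_2(q)` generate it -/
theorem sylow_sup_eq_top (P Q : Sylow p (SpecialLinearGroup (Fin 2) F)) (h : P ≠ Q) :
    (P : Subgroup (SpecialLinearGroup (Fin 2) F)) ⊔
      (Q : Subgroup (SpecialLinearGroup (Fin 2) F)) = ⊤ := by
  obtain ⟨g₁, h₁⟩ := exists_conj_low_SL p P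
  obtain ⟨g₂, h₂⟩ := exists_conj_low_SL p Q
  have hk : ((g₁⁻¹ * g₂ : GL (Fin 2) F) : Matrix (Fin 2) (Fin 2) F) 0 1 ≠ 0 := by
    intro hk01
    have hkN := (mem_normalizer_Lsub (g₁⁻¹ * g₂)).2 hk01
    rw [Subgroup.mem_normalizer_iff] at hkN
    apply h
    apply Sylow.ext
    ext v
    show v ∈ P ↔ v ∈ Q
    rw [h₁ v, h₂ v, hkN (g₂⁻¹ * SpecialLinearGroup.toGL v * g₂)]
    have e : (g₁⁻¹ * g₂) * (g₂⁻¹ * SpecialLinearGroup.toGL v * g₂) * (g₁⁻¹ * g₂)⁻¹ =
        g₁⁻¹ * SpecialLinearGroup.toGL v * g₁ := by group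
    rw [e]
  obtain ⟨H, hH⟩ : ∃ H : Subgroup (SpecialLinearGroup (Fin 2) F),
      H = (P : Subgroup (SpecialLinearGroup (Fin 2) F)) ⊔
        (Q : Subgroup (SpecialLinearGroup (Fin 2) F)) := ⟨_, rfl⟩
  rw [← hH]
  have hPH : ∀ s, s ∈ P → s ∈ H := by
    intro s hs
    rw [hH]
    exact (le_sup_left : (P : Subgroup (SpecialLinearGroup (Fin 2) F)) ≤ _) hs
  have hQH : ∀ s, s ∈ Q → s ∈ H := by
    intro s hs
    rw [hH]
    exact (le_sup_right : (Q : Subgroup (SpecialLinearGroup (Fin 2) F)) ≤ _) hs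
  obtain ⟨K, hK⟩ : ∃ K : Subgroup (GL (Fin 2) F), K =
      (H.map SpecialLinearGroup.toGL).comap (MulAut.conj g₁).toMonoidHom := ⟨_, rfl⟩
  have hKmem : ∀ v, v ∈ K ↔ ∃ s ∈ H, SpecialLinearGroup.toGL s = g₁ * v * g₁⁻¹ := by
    intro v
    rw [hK, Subgroup.mem_comap, Subgroup.mem_map]
    rfl
  have hL : Lsub F ≤ K := by
    intro v hv
    rw [hKmem]
    obtain ⟨s, hs⟩ := exists_SL_conj g₁ v (det_of_mem_Lsub hv)
    refine ⟨s, hPH s ?_, hs⟩
    rw [h₁ s, hs]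
    have e : g₁⁻¹ * (g₁ * v * g₁⁻¹) * g₁ = v := by group
    rw [e]
    exact hv
  have hkL : ∀ v ∈ Lsub F, (g₁⁻¹ * g₂) * v * (g₁⁻¹ * g₂)⁻¹ ∈ K := by
    intro v hv
    rw [hKmem]
    obtain ⟨s, hs⟩ := exists_SL_conj g₂ v (det_of_mem_Lsub hv)
    refine ⟨s, hQH s ?_, ?_⟩
    · rw [h₂ s, hs]
      have e : g₂⁻¹ * (g₂ * v * g₂⁻¹) * g₂ = v := by group
      rw [e]
      exact hv
    · rw [hs]; group
  have hU := up_mem K hL (g₁⁻¹ * g₂) hk hkL
  rw [eq_top_iff]
  intro M _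
  obtain ⟨M', hM'⟩ := exists_SL_conj g₁⁻¹ (SpecialLinearGroup.toGL M) M.2
  have h3 := toGL_mem K hL hU M'
  rw [hKmem] at h3
  obtain ⟨s, hsH, hs⟩ := h3
  rw [hM'] at hs
  have e : g₁ * (g₁⁻¹ * SpecialLinearGroup.toGL M * g₁⁻¹⁻¹) * g₁⁻¹ = SpecialLinearGroup.toGL M := by
    group
  rw [e] at hs
  have := SpecialLinearGroup.toGL_injective hs
  rw [← this]
  exact hsH

end

end Cfsg.Agent.Lib.Helper2.SL2
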