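import Mathlib
import Cfsg.Agent.Lib.Helper1.BaerSuzuki

set_option autoImplicit false

namespace Cfsg.Agent.Lib.Helper2.Sidki

variable {G : Type*} [Group G]

theorem eq_one_of_sq_of_odd {z : G} (ho : Odd (orderOf z)) (hz : z ^ 2 = 1) : z = 1 := by
  have h1 : orderOf z ∣ 2 := orderOf_dvd_of_pow_eq_one hz
  rcases (Nat.dvd_prime Nat.prime_two).1 h1 with h | h
  · exact orderOf_eq_one_iff.1 h
  · rw [h] at ho; exact absurd ho (by decide)

theorem commute_of_sq_commute {h k : G} (ho : Odd (orderOf h)) (hc : Commute (h ^ 2) k) :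
    Commute h k := by
  obtain ⟨j, hj⟩ := ho
  have h1 : h = (h ^ 2) ^ (j + 1) := by
    rw [← pow_mul]
    have : 2 * (j + 1) = orderOf h + 1 := by omega
    rw [this, pow_succ, pow_orderOf_eq_one, one_mul]
  rw [h1]
  exact hc.pow_left _

theorem odd_orderOf_sq {h : G} (ho : Odd (orderOf h)) : Odd (orderOf (h ^ 2)) :=
  ho.of_dvd_nat (orderOf_pow_dvd 2)

theorem sq_eq_one_of_sq_inverts {h k : G} (ho : Odd (orderOf h))
    (hinv : h ^ 2 * k * (h ^ 2)⁻¹ = k⁻¹) : k ^ 2 = 1 := by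
  obtain ⟨g, hg⟩ : ∃ g : G, g = h ^ 2 := ⟨_, rfl⟩
  rw [← hg] at hinv
  have hgo : Odd (orderOf g) := hg ▸ odd_orderOf_sq ho
  have e : g * k⁻¹ * g⁻¹ = k := by
    have h0 : (g * k * g⁻¹)⁻¹ = g * k⁻¹ * g⁻¹ := by group
    rw [← h0, hinv, inv_inv]
  have h1 : Commute (g ^ 2) k := by
    show g ^ 2 * k = k * g ^ 2
    calc g ^ 2 * k = g * (g * k * g⁻¹) * g := by rw [sq]; group
      _ = g * k⁻¹ * g := by rw [hinv]
      _ = (g * k⁻¹ * g⁻¹) * g ^ 2 := by rw [sq]; group
      _ = k * g ^ 2 := by rw [e]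
  have h2 : Commute g k := commute_of_sq_commute hgo h1
  have h3 : k = k⁻¹ := by
    rw [← hinv, h2.eq, mul_assoc, mul_inv_cancel, mul_one]
  rw [sq]
  exact mul_eq_one_iff_eq_inv.2 h3

/-- An involution outside every normal 2-subgroup inverts a nontrivial element of odd order
(a consequence of the Baer–Suzuki theorem). -/
theorem exists_inverted_of_not_core [Finite G] (v : G) (hv : v ^ 2 = 1)
    (hnot : ¬ ∃ N : Subgroup G, N.Normal ∧ IsPGroup 2 N ∧ v ∈ N) :
    ∃ h : G, Odd (orderOf h) ∧ h ≠ 1 ∧ v * h * v⁻¹ = h⁻¹ := by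
  by_contra hno
  push Not at hno
  apply hnot
  have : Fact (Nat.Prime 2) := ⟨Nat.prime_two⟩
  have hvinv : v⁻¹ = v := by
    rw [inv_eq_iff_mul_eq_one, ← sq]; exact hv
  have key : ∀ g : G, IsPGroup 2 (Subgroup.closure ({v, g * v * g⁻¹} : Set G)) := by
    intro g
    obtain ⟨x, hx⟩ : ∃ x, x = g * v * g⁻¹ := ⟨_, rfl⟩
    rw [← hx]
    have hx2 : x ^ 2 = 1 := by
      rw [hx, conj_pow, hv]; group
    have hxinv : x⁻¹ = x := by
      rw [inv_eq_iff_mul_eq_one, ← sq]; exact hx2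
    obtain ⟨r, hr⟩ : ∃ r, r = v * x := ⟨_, rfl⟩
    have hvr : v * r * v⁻¹ = r⁻¹ := by
      rw [hr, mul_inv_rev, hxinv, hvinv]
      calc v * (v * x) * v = (v * v) * x * v := by group
        _ = x * v := by rw [← sq, hv, one_mul]
    have hr0 : orderOf r ≠ 0 := (orderOf_pos r).ne'
    obtain ⟨k, m, hm, hkm⟩ := Nat.exists_eq_two_pow_mul_odd hr0
    have hm1 : m = 1 := by
      by_contra hm1
      have hh : orderOf (r ^ (2 ^ k)) = m := by
        rw [orderOf_pow_of_dvd (by positivity) (Dvd.intro _ hkm.symm), hkm,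
          Nat.mul_div_cancel_left _ (by positivity)]
      apply hno (r ^ (2 ^ k)) (hh ▸ hm)
        (by intro h1; rw [h1, orderOf_one] at hh; exact hm1 hh.symm)
      rw [← inv_pow, ← hvr, conj_pow]
    have hP1 : IsPGroup 2 (Subgroup.zpowers r) :=
      IsPGroup.of_card (n := k) (by rw [Nat.card_zpowers, hkm, hm1, mul_one])
    have hP2 : IsPGroup 2 (Subgroup.zpowers v) := by
      have h1 : orderOf v ∣ 2 := orderOf_dvd_of_pow_eq_one hv
      rcases (Nat.dvd_prime Nat.prime_two).1 h1 with h | h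
      · exact IsPGroup.of_card (n := 0) (by rw [Nat.card_zpowers, h, pow_zero])
      · exact IsPGroup.of_card (n := 1) (by rw [Nat.card_zpowers, h, pow_one])
    have hnorm : Subgroup.zpowers v ≤ Subgroup.normalizer (Subgroup.zpowers r : Set G) := by
      rw [Subgroup.zpowers_le]
      apply Subgroup.mem_normalizer_fintype
      intro n hn
      obtain ⟨i, rfl⟩ := Subgroup.mem_zpowers_iff.1 hn
      rw [SetLike.mem_coe, ← conj_zpow, hvr]
      exact Subgroup.zpow_mem _ (Subgroup.inv_mem _ (Subgroup.mem_zpowers r)) i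
    have hsup := IsPGroup.to_sup_of_normal_right' hP2 hP1 hnorm
    refine hsup.to_le ?_
    rw [Subgroup.closure_le]
    intro y hy
    rcases hy with hy | hy
    · rw [hy]
      exact Subgroup.mem_sup_left (Subgroup.mem_zpowers _)
    · rw [Set.mem_singleton_iff] at hy
      have : x = v * r := by rw [hr, ← mul_assoc, ← sq, hv, one_mul]
      rw [hy, this]
      exact Subgroup.mul_mem _ (Subgroup.mem_sup_left (Subgroup.mem_zpowers _))
        (Subgroup.mem_sup_right (Subgroup.mem_zpowers _))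
  obtain ⟨N, hN, hN2, hvN, -⟩ := Cfsg.Agent.Lib.Helper1.baer_suzuki_normal (p := 2) v key
  exact ⟨N, hN, hN2, hvN⟩

theorem core (V : Subgroup G)
    (hS : ∀ (h v : G), v ∈ V → Odd (orderOf h) → v * h * v⁻¹ = h⁻¹ →
      ∃ w ∈ V, w ≠ 1 ∧ w * h = h * w)
    (a b : G) (haV : a ∈ V) (hbV : b ∈ V)
    (hVall : ∀ w ∈ V, w = 1 ∨ w = a ∨ w = b ∨ w = a * b)
    (h k : G) (hho : Odd (orderOf h)) (hko : Odd (orderOf k)) (hh1 : h ≠ 1) (hk1 : k ≠ 1)
    (hah : a * h * a⁻¹ = h⁻¹) (hbh : b * h = h * b) (hak : a * k = k * a)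
    (hbk : b * k * b⁻¹ = k⁻¹) : False := by
  have hbhc : b * h * b⁻¹ = h := by rw [hbh, mul_assoc, mul_inv_cancel, mul_one]
  have hakc : a * k * a⁻¹ = k := by rw [hak, mul_assoc, mul_inv_cancel, mul_one]
  obtain ⟨z, hz⟩ : ∃ z : G, z = h * k * h⁻¹ := ⟨_, rfl⟩
  have hzo : Odd (orderOf z) := by
    have : orderOf z = orderOf k := by
      rw [hz]; exact (MulAut.conj h).orderOf_eq k
    rw [this]; exact hko
  have hz1 : z ≠ 1 := by
    rw [hz]; intro h0; exact hk1 (conj_eq_one_iff.1 h0)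
  have hbz : b * z * b⁻¹ = z⁻¹ := by
    have : b * (h * k * h⁻¹) * b⁻¹ = (b * h * b⁻¹) * (b * k * b⁻¹) * (b * h * b⁻¹)⁻¹ := by group
    rw [hz, this, hbhc, hbk]; group
  have e1 : a * z * a⁻¹ = h⁻¹ * k * h := by
    have : a * (h * k * h⁻¹) * a⁻¹ = (a * h * a⁻¹) * (a * k * a⁻¹) * (a * h * a⁻¹)⁻¹ := by group
    rw [hz, this, hah, hakc, inv_inv]
  obtain ⟨w, hwV, hw1, hwz⟩ := hS z b hbV hzo hbz
  have hwzc : w * z * w⁻¹ = z := by rw [hwz, mul_assoc, mul_inv_cancel, mul_one]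
  rcases hVall w hwV with hw | hw | hw | hw
  · exact hw1 hw
  · -- w = a : h and k commute
    rw [hw] at hwzc
    have e3 : h⁻¹ * k * h = h * k * h⁻¹ := by rw [← e1, hwzc, hz]
    have e4 : Commute (h ^ 2) k := by
      show h ^ 2 * k = k * h ^ 2
      calc h ^ 2 * k = h * (h * k * h⁻¹) * h := by rw [sq]; group
        _ = h * (h⁻¹ * k * h) * h := by rw [e3]
        _ = k * h ^ 2 := by rw [sq]; group
    have hc : Commute h k := commute_of_sq_commute hho e4
    obtain ⟨y, hy⟩ : ∃ y : G, y = h * k := ⟨_, rfl⟩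
    have hyo : Odd (orderOf y) := by
      have h1 : orderOf y ∣ (orderOf h).lcm (orderOf k) := hy ▸ hc.orderOf_mul_dvd_lcm
      have h2 : Odd (orderOf h * orderOf k) := hho.mul hko
      exact h2.of_dvd_nat (h1.trans (Nat.lcm_dvd_mul _ _))
    have hy1 : y ≠ 1 := by
      intro h0
      rw [hy] at h0
      have hk' : k = h⁻¹ := (mul_eq_one_iff_eq_inv'.1 h0)
      apply hh1
      apply eq_one_of_sq_of_odd hho
      have h5 : a * h⁻¹ * a⁻¹ = h⁻¹ := by rw [← hk']; exact hakc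
      have h6 : a * h⁻¹ * a⁻¹ = h := by
        have : a * h⁻¹ * a⁻¹ = (a * h * a⁻¹)⁻¹ := by group
        rw [this, hah, inv_inv]
      have h7 : h = h⁻¹ := h6.symm.trans h5
      rw [sq]; exact mul_eq_one_iff_eq_inv.2 h7
    have hay : a * y * a⁻¹ = h⁻¹ * k := by
      have : a * (h * k) * a⁻¹ = (a * h * a⁻¹) * (a * k * a⁻¹) := by group
      rw [hy, this, hah, hakc]
    have hby : b * y * b⁻¹ = h * k⁻¹ := by
      have : b * (h * k) * b⁻¹ = (b * h * b⁻¹) * (b * k * b⁻¹) := by group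
      rw [hy, this, hbhc, hbk]
    have hcy : (a * b) * y * (a * b)⁻¹ = y⁻¹ := by
      have h1 : (a * b) * y * (a * b)⁻¹ = a * (b * y * b⁻¹) * a⁻¹ := by group
      have h2 : a * (h * k⁻¹) * a⁻¹ = (a * h * a⁻¹) * (a * k * a⁻¹)⁻¹ := by group
      rw [h1, hby, h2, hah, hakc, hy, mul_inv_rev, hc.inv_inv.eq]
    obtain ⟨u, huV, hu1, huy⟩ := hS y (a * b) (V.mul_mem haV hbV) hyo hcy
    have huyc : u * y * u⁻¹ = y := by rw [huy, mul_assoc, mul_inv_cancel, mul_one]
    rcases hVall u huV with hu | hu | hu | hu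
    · exact hu1 hu
    · rw [hu, hay, hy] at huyc
      have h7 : h⁻¹ = h := mul_right_cancel huyc
      apply hh1
      apply eq_one_of_sq_of_odd hho
      rw [sq]; exact mul_eq_one_iff_eq_inv.2 h7.symm
    · rw [hu, hby, hy] at huyc
      have h7 : k⁻¹ = k := mul_left_cancel huyc
      apply hk1
      apply eq_one_of_sq_of_odd hko
      rw [sq]; exact mul_eq_one_iff_eq_inv.2 h7.symm
    · rw [hu, hcy] at huyc
      apply hy1
      apply eq_one_of_sq_of_odd hyo
      rw [sq]; exact mul_eq_one_iff_eq_inv.2 huyc.symm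
  · -- w = b
    rw [hw, hbz] at hwzc
    apply hz1
    apply eq_one_of_sq_of_odd hzo
    rw [sq]; exact mul_eq_one_iff_eq_inv.2 hwzc.symm
  · -- w = a * b
    rw [hw] at hwzc
    have e5 : (a * b) * z * (a * b)⁻¹ = h⁻¹ * k⁻¹ * h := by
      have h1 : (a * b) * z * (a * b)⁻¹ = a * (b * z * b⁻¹) * a⁻¹ := by group
      have h2 : a * z⁻¹ * a⁻¹ = (a * z * a⁻¹)⁻¹ := by group
      rw [h1, hbz, h2, e1]; group
    have e8 : h⁻¹ * k⁻¹ * h = h * k * h⁻¹ := by rw [← e5, hwzc, hz]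
    have e7 : h ^ 2 * k * (h ^ 2)⁻¹ = k⁻¹ := by
      calc h ^ 2 * k * (h ^ 2)⁻¹ = h * (h * k * h⁻¹) * h⁻¹ := by rw [sq]; group
        _ = h * (h⁻¹ * k⁻¹ * h) * h⁻¹ := by rw [e8]
        _ = k⁻¹ := by group
    exact hk1 (eq_one_of_sq_of_odd hko (sq_eq_one_of_sq_inverts hho e7))

/-- Sidki's conjecture for elementary abelian 2-subgroups of order at most four. -/
theorem sidki_four [Finite G] (V : Subgroup G)
    (hcomm : ∀ a ∈ V, ∀ b ∈ V, a * b = b * a) (hsq : ∀ a ∈ V, a ^ 2 = 1) (hV1 : V ≠ ⊥)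
    (hS : ∀ (h v : G), v ∈ V → Odd (orderOf h) → v * h * v⁻¹ = h⁻¹ →
      ∃ w ∈ V, w ≠ 1 ∧ w * h = h * w)
    (h4 : Nat.card V ≤ 4) :
    ∃ v ∈ V, v ≠ 1 ∧ ∃ N : Subgroup G, N.Normal ∧ IsPGroup 2 N ∧ v ∈ N := by
  classical
  by_contra hcon
  push Not at hcon
  have hinv : ∀ v ∈ V, v ≠ 1 → ∃ h : G, Odd (orderOf h) ∧ h ≠ 1 ∧ v * h * v⁻¹ = h⁻¹ := by
    intro v hv hv1
    apply exists_inverted_of_not_core v (hsq v hv)
    rintro ⟨N, hN, hN2, hvN⟩
    exact hcon v hv hv1 N hN hN2 hvN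
  have hS' : ∀ (h v : G), v ∈ V → Odd (orderOf h) → h ≠ 1 → v * h * v⁻¹ = h⁻¹ →
      ∃ w ∈ V, w ≠ 1 ∧ w ≠ v ∧ w * h = h * w := by
    intro h v hv ho h1 hvh
    obtain ⟨w, hw, hw1, hwh⟩ := hS h v hv ho hvh
    refine ⟨w, hw, hw1, ?_, hwh⟩
    intro hwv
    apply h1
    apply eq_one_of_sq_of_odd ho
    have : h = h⁻¹ := by
      rw [← hvh, ← hwv, hwh, mul_assoc, mul_inv_cancel, mul_one]
    rw [sq]; exact mul_eq_one_iff_eq_inv.2 this
  obtain ⟨a, haV, ha1⟩ : ∃ a ∈ V, a ≠ 1 := by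
    by_contra hh
    push Not at hh
    exact hV1 ((Subgroup.eq_bot_iff_forall _).2 hh)
  obtain ⟨h, hho, hh1, hah⟩ := hinv a haV ha1
  obtain ⟨b, hbV, hb1, hba, hbh⟩ := hS' h a haV hho hh1 hah
  have hab_comm : a * b = b * a := hcomm a haV b hbV
  have ha2 : a * a = 1 := by rw [← sq]; exact hsq a haV
  have hb2 : b * b = 1 := by rw [← sq]; exact hsq b hbV
  have hVall : ∀ w ∈ V, w = 1 ∨ w = a ∨ w = b ∨ w = a * b := by
    intro w hw
    by_contra hcontra
    push Not at hcontra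
    obtain ⟨n4, n7, n9, n10⟩ := hcontra
    haveI : Fintype V := Fintype.ofFinite V
    have n3 : a * b ≠ 1 := by
      intro h0
      apply hba
      calc b = (a * a) * b := by rw [ha2, one_mul]
        _ = a * (a * b) := by group
        _ = a := by rw [h0, mul_one]
    have n6 : a * b ≠ a := by
      intro h0
      apply hb1
      calc b = (a * a) * b := by rw [ha2, one_mul]
        _ = a * (a * b) := by group
        _ = 1 := by rw [h0, ha2]
    have n8 : a * b ≠ b := by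
      intro h0
      apply ha1
      calc a = a * (b * b) := by rw [hb2, mul_one]
        _ = (a * b) * b := by group
        _ = 1 := by rw [h0, hb2]
    let s : Finset V := {⟨w, hw⟩, ⟨a * b, V.mul_mem haV hbV⟩, ⟨b, hbV⟩, ⟨a, haV⟩, ⟨1, V.one_mem⟩}
    have hs : s.card = 5 := by
      simp only [s]
      rw [Finset.card_insert_of_notMem, Finset.card_insert_of_notMem,
        Finset.card_insert_of_notMem, Finset.card_insert_of_notMem, Finset.card_singleton]
      · simp only [Finset.mem_singleton, Subtype.mk.injEq]; exact ha1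
      · simp only [Finset.mem_insert, Finset.mem_singleton, Subtype.mk.injEq]
        push Not
        exact ⟨hba, hb1⟩
      · simp only [Finset.mem_insert, Finset.mem_singleton, Subtype.mk.injEq]
        push Not
        exact ⟨n8, n6, n3⟩
      · simp only [Finset.mem_insert, Finset.mem_singleton, Subtype.mk.injEq]
        push Not
        exact ⟨n10, n9, n7, n4⟩
    have h5 : 5 ≤ Fintype.card V := hs ▸ Finset.card_le_univ s
    rw [Nat.card_eq_fintype_card] at h4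
    omega
  have hcomm' : ∀ u ∈ V, ∀ t : G, u * t = t * u → u * t * u⁻¹ = t := by
    intro u _ t hut
    rw [hut, mul_assoc, mul_inv_cancel, mul_one]
  obtain ⟨k, hko, hk1, hbk⟩ := hinv b hbV hb1
  obtain ⟨w, hwV, hw1, hwb, hwk⟩ := hS' k b hbV hko hk1 hbk
  rcases hVall w hwV with hw | hw | hw | hw
  · exact hw1 hw
  · rw [hw] at hwk
    exact core V hS a b haV hbV hVall h k hho hko hh1 hk1 hah hbh hwk hbk
  · exact hwb hw
  · rw [hw] at hwk
    -- use the pair (a * b, b)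
    have hcb : a * b * b = a := by rw [mul_assoc, hb2, mul_one]
    have hVall' : ∀ u ∈ V, u = 1 ∨ u = a * b ∨ u = b ∨ u = a * b * b := by
      intro u hu
      rcases hVall u hu with h0 | h0 | h0 | h0
      · exact Or.inl h0
      · right; right; right; rw [hcb]; exact h0
      · right; right; left; exact h0
      · right; left; exact h0
    have hch : (a * b) * h * (a * b)⁻¹ = h⁻¹ := by
      have h1 : (a * b) * h * (a * b)⁻¹ = a * (b * h * b⁻¹) * a⁻¹ := by group
      rw [h1, hcomm' b hbV h hbh, hah]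
    exact core V hS (a * b) b (V.mul_mem haV hbV) hbV hVall' h k hho hko hh1 hk1 hch hbh hwk hbk

end Cfsg.Agent.Lib.Helper2.Sidki
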