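import Mathlib
import Cfsg.Agent.S0764
import Cfsg.Agent.S0765
import Cfsg.Agent.S0767
import Cfsg.Agent.S0271
import Cfsg.Agent.Lib.Helper2.SympForm

set_option autoImplicit false
set_option linter.style.haveILetI false
set_option linter.unusedSectionVars false
set_option linter.unnecessarySeqFocus false

namespace Cfsg.Agent.Lib.Helper2.SpPerf

open Matrix Cfsg.Agent.Lib.Helper2

variable {F : Type*} [Field F] (m : ℕ)

/-- a symplectic transvection as an element of the symplectic group -/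
def tv (w : Fin m ⊕ Fin m → F) (c : F) : Matrix.symplecticGroup (Fin m) F :=
  ⟨Cfsg.sympTransvection m w c, Cfsg.Agent.S0764.result m w c⟩

theorem tv_mulVec (w : Fin m ⊕ Fin m → F) (c : F) (x : Fin m ⊕ Fin m → F) :
    (tv m w c).1 *ᵥ x = x + (c * Cfsg.sympForm m F x w) • w :=
  sympTransvection_mulVec m w c x

theorem sp_ext {g h : Matrix.symplecticGroup (Fin m) F} (H : ∀ x, g.1 *ᵥ x = h.1 *ᵥ x) : g = h :=
  Subtype.ext (Matrix.ext_iff_mulVec.2 H)

theorem mul_mulVec (g h : Matrix.symplecticGroup (Fin m) F) (x : Fin m ⊕ Fin m → F) :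
    (g * h).1 *ᵥ x = g.1 *ᵥ (h.1 *ᵥ x) :=
  (Matrix.mulVec_mulVec x g.1 h.1).symm

theorem one_mulVec' (x : Fin m ⊕ Fin m → F) :
    (1 : Matrix.symplecticGroup (Fin m) F).1 *ᵥ x = x :=
  Matrix.one_mulVec x

theorem tv_zero_right (w : Fin m ⊕ Fin m → F) : tv m w (0 : F) = 1 := by
  apply sp_ext
  intro x
  rw [tv_mulVec, one_mulVec', zero_mul, zero_smul, add_zero]

theorem tv_zero_left (c : F) : tv m (0 : Fin m ⊕ Fin m → F) c = 1 := by
  apply sp_ext
  intro x
  rw [tv_mulVec, one_mulVec', smul_zero, add_zero]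

theorem tv_add (w : Fin m ⊕ Fin m → F) (c d : F) : tv m w c * tv m w d = tv m w (c + d) :=
  Subtype.ext ((Cfsg.Agent.S0767.result m w).1 c d)

theorem tv_conj (g : Matrix.symplecticGroup (Fin m) F) (w : Fin m ⊕ Fin m → F) (c : F) :
    g * tv m w c = tv m (g.1 *ᵥ w) c * g := by
  apply sp_ext
  intro x
  rw [mul_mulVec, mul_mulVec, tv_mulVec, tv_mulVec, Matrix.mulVec_add, Matrix.mulVec_smul,
    sympForm_mulVec_mulVec m g.1 g.2]

theorem tv_smul (a : F) (w : Fin m ⊕ Fin m → F) (c : F) :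
    tv m (a • w) c = tv m w (a ^ 2 * c) := by
  apply sp_ext
  intro x
  rw [tv_mulVec, tv_mulVec, sympForm_smul_right, smul_smul]
  congr 2
  ring

/-- the class of a transvection in the abelianisation -/
noncomputable def t (w : Fin m ⊕ Fin m → F) (c : F) :
    Abelianization (Matrix.symplecticGroup (Fin m) F) :=
  Abelianization.of (tv m w c)

theorem t_add (w : Fin m ⊕ Fin m → F) (c d : F) : t m w (c + d) = t m w c * t m w d := by
  unfold t
  rw [← map_mul, tv_add]

theorem t_zero_right (w : Fin m ⊕ Fin m → F) : t m w (0 : F) = 1 := by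
  unfold t
  rw [tv_zero_right, map_one]

theorem t_zero_left (c : F) : t m (0 : Fin m ⊕ Fin m → F) c = 1 := by
  unfold t
  rw [tv_zero_left, map_one]

theorem t_conj (g : Matrix.symplecticGroup (Fin m) F) (w : Fin m ⊕ Fin m → F) (c : F) :
    t m (g.1 *ᵥ w) c = t m w c := by
  unfold t
  have h := congrArg (Abelianization.of (G := Matrix.symplecticGroup (Fin m) F)) (tv_conj m g w c)
  rw [map_mul, map_mul, mul_comm] at h
  exact (mul_right_cancel h).symm

theorem t_trans (v w : Fin m ⊕ Fin m → F) (hv : v ≠ 0) (hw : w ≠ 0) (c : F) :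
    t m w c = t m v c := by
  obtain ⟨g, hg⟩ := Cfsg.Agent.S0271.result m v w hv hw
  rw [← hg]
  exact t_conj m g v c

theorem t_smul (a : F) (w : Fin m ⊕ Fin m → F) (c : F) : t m (a • w) c = t m w (a ^ 2 * c) := by
  unfold t
  rw [tv_smul]

/-- if all transvections are trivial in the abelianisation then the group is perfect -/
theorem commutator_eq_top_of (h : ∀ (w : Fin m ⊕ Fin m → F) (c : F), t m w c = 1) :
    commutator (Matrix.symplecticGroup (Fin m) F) = ⊤ := by
  rw [← Abelianization.ker_of, eq_top_iff, ← Cfsg.Agent.S0765.result m, Subgroup.closure_le]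
  rintro A ⟨w, c, hA⟩
  have hA' : A = tv m w c := Subtype.ext hA
  rw [hA']
  exact MonoidHom.mem_ker.2 (h w c)

/-! ### Case A: at least four elements -/

theorem caseA (a : F) (ha0 : a ≠ 0) (ha1 : a ^ 2 ≠ 1) (w : Fin m ⊕ Fin m → F) (d : F) :
    t m w d = 1 := by
  by_cases hw : w = 0
  · rw [hw, t_zero_left]
  have hne : a ^ 2 - 1 ≠ 0 := sub_ne_zero.2 ha1
  obtain ⟨c, hc⟩ : ∃ c : F, c = d / (a ^ 2 - 1) := ⟨_, rfl⟩
  have h1 : t m w (a ^ 2 * c) = t m w c := by
    rw [← t_smul]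
    exact t_trans m w (a • w) hw (smul_ne_zero ha0 hw) c
  have h2 : a ^ 2 * c = c + d := by
    rw [hc]; field_simp; ring
  rw [h2, t_add] at h1
  have h3 : t m w c * t m w d = t m w c * 1 := by rw [h1, mul_one]
  exact mul_left_cancel h3

theorem exists_of_four_le [Fintype F] (h4 : 4 ≤ Fintype.card F) :
    ∃ a : F, a ≠ 0 ∧ a ^ 2 ≠ 1 := by
  classical
  have hlt : ({0, 1, -1} : Finset F).card < (Finset.univ : Finset F).card := by
    rw [Finset.card_univ]
    exact lt_of_le_of_lt Finset.card_le_three (by omega)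
  obtain ⟨a, _, ha⟩ := Finset.exists_mem_notMem_of_card_lt_card hlt
  rw [Finset.mem_insert, Finset.mem_insert, Finset.mem_singleton] at ha
  push Not at ha
  refine ⟨a, ha.1, ?_⟩
  intro h
  have h1 : (a - 1) * (a + 1) = 0 := by linear_combination h
  rcases mul_eq_zero.1 h1 with h2 | h2
  · exact ha.2.1 (sub_eq_zero.1 h2)
  · exact ha.2.2 (eq_neg_of_add_eq_zero_left h2)

/-! ### Case B: odd characteristic, two orthogonal vectors -/

theorem relB (u v : Fin m ⊕ Fin m → F) (huv : Cfsg.sympForm m F u v = 0) (c : F) :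
    tv m (u + v) c * tv m (u - v) c = tv m u (2 * c) * tv m v (2 * c) := by
  have hvu : Cfsg.sympForm m F v u = 0 := by rw [sympForm_swap, huv, neg_zero]
  apply sp_ext
  intro x
  rw [mul_mulVec, mul_mulVec, tv_mulVec, tv_mulVec, tv_mulVec, tv_mulVec]
  simp only [sympForm_add_left, sympForm_add_right, sympForm_sub_left, sympForm_sub_right,
    sympForm_smul_left, sympForm_self, huv, hvu]
  ext i
  simp only [Pi.add_apply, Pi.smul_apply, Pi.sub_apply, smul_eq_mul]
  ring

theorem caseB (h2 : (2 : F) ≠ 0) (u v : Fin m ⊕ Fin m → F) (huv : Cfsg.sympForm m F u v = 0)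
    (hu : u ≠ 0) (hv : v ≠ 0) (hp : u + v ≠ 0) (hm : u - v ≠ 0)
    (w : Fin m ⊕ Fin m → F) (d : F) : t m w d = 1 := by
  by_cases hw : w = 0
  · rw [hw, t_zero_left]
  rw [t_trans m u w hu hw]
  obtain ⟨c, hc⟩ : ∃ c : F, c = d / 2 := ⟨_, rfl⟩
  have hd : d = c + c := by rw [hc]; field_simp; ring
  have h := congrArg (Abelianization.of (G := Matrix.symplecticGroup (Fin m) F)) (relB m u v huv c)
  rw [map_mul, map_mul] at h
  change t m (u + v) c * t m (u - v) c = t m u (2 * c) * t m v (2 * c) at h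
  rw [t_trans m u (u + v) hu hp, t_trans m u (u - v) hu hm, t_trans m u v hu hv, two_mul,
    t_add] at h
  -- T * T = (T * T) * (T * T)
  have h3 : (t m u c * t m u c) * 1 = (t m u c * t m u c) * (t m u c * t m u c) := by
    rw [mul_one]; exact h
  have h4 := mul_left_cancel h3
  rw [hd, t_add]
  exact h4.symm

/-! ### Case C: characteristic two, three orthogonal vectors -/

theorem relC (h2 : (2 : F) = 0) (u v w : Fin m ⊕ Fin m → F)
    (huv : Cfsg.sympForm m F u v = 0) (huw : Cfsg.sympForm m F u w = 0)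
    (hvw : Cfsg.sympForm m F v w = 0) (c : F) :
    tv m (u + v + w) c = tv m u c * tv m v c * tv m w c * tv m (u + v) c * tv m (u + w) c *
      tv m (v + w) c := by
  have hvu : Cfsg.sympForm m F v u = 0 := by rw [sympForm_swap, huv, neg_zero]
  have hwu : Cfsg.sympForm m F w u = 0 := by rw [sympForm_swap, huw, neg_zero]
  have hwv : Cfsg.sympForm m F w v = 0 := by rw [sympForm_swap, hvw, neg_zero]
  apply sp_ext
  intro x
  rw [mul_mulVec, mul_mulVec, mul_mulVec, mul_mulVec, mul_mulVec, tv_mulVec, tv_mulVec, tv_mulVec,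
    tv_mulVec, tv_mulVec, tv_mulVec, tv_mulVec]
  simp only [sympForm_add_left, sympForm_add_right, sympForm_smul_left, sympForm_self, huv, hvu,
    huw, hwu, hvw, hwv]
  ext i
  simp only [Pi.add_apply, Pi.smul_apply, smul_eq_mul]
  linear_combination (-(c * (Cfsg.sympForm m F x u * u i + Cfsg.sympForm m F x v * v i +
    Cfsg.sympForm m F x w * w i))) * h2

theorem caseC (h2 : (2 : F) = 0) (u v w : Fin m ⊕ Fin m → F)
    (huv : Cfsg.sympForm m F u v = 0) (huw : Cfsg.sympForm m F u w = 0)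
    (hvw : Cfsg.sympForm m F v w = 0)
    (hu : u ≠ 0) (hv : v ≠ 0) (hw : w ≠ 0) (h12 : u + v ≠ 0) (h13 : u + w ≠ 0) (h23 : v + w ≠ 0)
    (h123 : u + v + w ≠ 0) (z : Fin m ⊕ Fin m → F) (d : F) : t m z d = 1 := by
  by_cases hz : z = 0
  · rw [hz, t_zero_left]
  rw [t_trans m u z hu hz]
  have h := congrArg (Abelianization.of (G := Matrix.symplecticGroup (Fin m) F))
    (relC m h2 u v w huv huw hvw d)
  rw [map_mul, map_mul, map_mul, map_mul, map_mul] at h
  change t m (u + v + w) d = t m u d * t m v d * t m w d * t m (u + v) d * t m (u + w) d *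
    t m (v + w) d at h
  rw [t_trans m u (u + v + w) hu h123, t_trans m u v hu hv, t_trans m u w hu hw,
    t_trans m u (u + v) hu h12, t_trans m u (u + w) hu h13, t_trans m u (v + w) hu h23] at h
  have hTT : t m u d * t m u d = 1 := by
    rw [← t_add, ← two_mul, h2, zero_mul, t_zero_right]
  rw [hTT, one_mul, hTT, one_mul, hTT] at h
  exact h

/-! ### Basis vectors -/

/-- the basis vector `e_i` of the first (totally isotropic) half -/
def eL (i : Fin m) : Fin m ⊕ Fin m → F := Pi.single (Sum.inl i) 1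

theorem symp_of_inr_zero (x y : Fin m ⊕ Fin m → F) (hx : ∀ i, x (Sum.inr i) = 0)
    (hy : ∀ i, y (Sum.inr i) = 0) : Cfsg.sympForm m F x y = 0 := by
  unfold Cfsg.sympForm
  rw [dotProduct, Fintype.sum_sum_type]
  simp only [J_mulVec_inl, J_mulVec_inr, hx, hy, neg_zero, mul_zero, zero_mul,
    Finset.sum_const_zero, add_zero]

theorem eL_inr (i j : Fin m) : (eL m i : Fin m ⊕ Fin m → F) (Sum.inr j) = 0 := by
  unfold eL
  rw [Pi.single_apply, if_neg (by simp)]

theorem eL_self (i : Fin m) : (eL m i : Fin m ⊕ Fin m → F) (Sum.inl i) = 1 := by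
  unfold eL
  rw [Pi.single_eq_same]

theorem eL_ne (i j : Fin m) (h : j ≠ i) : (eL m i : Fin m ⊕ Fin m → F) (Sum.inl j) = 0 := by
  unfold eL
  rw [Pi.single_apply, if_neg (by simpa using h)]

theorem symp_eL (i j : Fin m) : Cfsg.sympForm m F (eL m i) (eL m j) = 0 :=
  symp_of_inr_zero m _ _ (eL_inr m i) (eL_inr m j)

theorem perfect_of_odd (h2 : (2 : F) ≠ 0) (hm : 2 ≤ m) (w : Fin m ⊕ Fin m → F) (d : F) :
    t m w d = 1 := by
  obtain ⟨i0, hi0⟩ : ∃ i : Fin m, i = ⟨0, by omega⟩ := ⟨_, rfl⟩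
  obtain ⟨i1, hi1⟩ : ∃ i : Fin m, i = ⟨1, by omega⟩ := ⟨_, rfl⟩
  have h01 : i0 ≠ i1 := by
    rw [hi0, hi1]; intro h; simp [Fin.ext_iff] at h
  have hu : (eL m i0 : Fin m ⊕ Fin m → F) ≠ 0 := by
    intro h
    have h1 := congrFun h (Sum.inl i0)
    rw [eL_self] at h1
    exact one_ne_zero h1
  have hv : (eL m i1 : Fin m ⊕ Fin m → F) ≠ 0 := by
    intro h
    have h1 := congrFun h (Sum.inl i1)
    rw [eL_self] at h1
    exact one_ne_zero h1
  have hp : (eL m i0 + eL m i1 : Fin m ⊕ Fin m → F) ≠ 0 := by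
    intro h
    have h1 := congrFun h (Sum.inl i0)
    rw [Pi.add_apply, eL_self, eL_ne m i1 i0 h01, add_zero] at h1
    exact one_ne_zero h1
  have hmn : (eL m i0 - eL m i1 : Fin m ⊕ Fin m → F) ≠ 0 := by
    intro h
    have h1 := congrFun h (Sum.inl i0)
    rw [Pi.sub_apply, eL_self, eL_ne m i1 i0 h01, sub_zero] at h1
    exact one_ne_zero h1
  exact caseB m h2 _ _ (symp_eL m i0 i1) hu hv hp hmn w d

theorem perfect_of_even (h2 : (2 : F) = 0) (hm : 3 ≤ m) (z : Fin m ⊕ Fin m → F) (d : F) :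
    t m z d = 1 := by
  obtain ⟨i0, hi0⟩ : ∃ i : Fin m, i = ⟨0, by omega⟩ := ⟨_, rfl⟩
  obtain ⟨i1, hi1⟩ : ∃ i : Fin m, i = ⟨1, by omega⟩ := ⟨_, rfl⟩
  obtain ⟨i2, hi2⟩ : ∃ i : Fin m, i = ⟨2, by omega⟩ := ⟨_, rfl⟩
  have h01 : i0 ≠ i1 := by
    rw [hi0, hi1]; intro h; simp [Fin.ext_iff] at h
  have h02 : i0 ≠ i2 := by
    rw [hi0, hi2]; intro h; simp [Fin.ext_iff] at h
  have h12 : i1 ≠ i2 := by
    rw [hi1, hi2]; intro h; simp [Fin.ext_iff] at h
  have hinr : ∀ (a b : Fin m) (k : Fin m),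
      (eL m a + eL m b : Fin m ⊕ Fin m → F) (Sum.inr k) = 0 := by
    intro a b k
    rw [Pi.add_apply, eL_inr, eL_inr, add_zero]
  have hu : (eL m i0 : Fin m ⊕ Fin m → F) ≠ 0 := by
    intro h
    have h1 := congrFun h (Sum.inl i0)
    rw [eL_self] at h1
    exact one_ne_zero h1
  have hv : (eL m i1 : Fin m ⊕ Fin m → F) ≠ 0 := by
    intro h
    have h1 := congrFun h (Sum.inl i1)
    rw [eL_self] at h1
    exact one_ne_zero h1
  have hw : (eL m i2 : Fin m ⊕ Fin m → F) ≠ 0 := by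
    intro h
    have h1 := congrFun h (Sum.inl i2)
    rw [eL_self] at h1
    exact one_ne_zero h1
  have hp01 : (eL m i0 + eL m i1 : Fin m ⊕ Fin m → F) ≠ 0 := by
    intro h
    have h1 := congrFun h (Sum.inl i0)
    rw [Pi.add_apply, eL_self, eL_ne m i1 i0 h01, add_zero] at h1
    exact one_ne_zero h1
  have hp02 : (eL m i0 + eL m i2 : Fin m ⊕ Fin m → F) ≠ 0 := by
    intro h
    have h1 := congrFun h (Sum.inl i0)
    rw [Pi.add_apply, eL_self, eL_ne m i2 i0 h02, add_zero] at h1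
    exact one_ne_zero h1
  have hp12 : (eL m i1 + eL m i2 : Fin m ⊕ Fin m → F) ≠ 0 := by
    intro h
    have h1 := congrFun h (Sum.inl i1)
    rw [Pi.add_apply, eL_self, eL_ne m i2 i1 h12, add_zero] at h1
    exact one_ne_zero h1
  have hp012 : (eL m i0 + eL m i1 + eL m i2 : Fin m ⊕ Fin m → F) ≠ 0 := by
    intro h
    have h1 := congrFun h (Sum.inl i0)
    rw [Pi.add_apply, Pi.add_apply, eL_self, eL_ne m i1 i0 h01, eL_ne m i2 i0 h02, add_zero,
      add_zero] at h1
    exact one_ne_zero h1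
  exact caseC m h2 _ _ _ (symp_eL m i0 i1) (symp_eL m i0 i2) (symp_eL m i1 i2) hu hv hw hp01 hp02
    hp12 hp012 z d

/-- `Sp_{2m}(q)` is perfect apart from `Sp_2(2)`, `Sp_2(3)`, `Sp_4(2)` -/
theorem commutator_eq_top [Fintype F] (h : 3 ≤ m ∨ (m = 2 ∧ 3 ≤ Fintype.card F) ∨
    4 ≤ Fintype.card F) : commutator (Matrix.symplecticGroup (Fin m) F) = ⊤ := by
  apply commutator_eq_top_of
  intro w d
  by_cases h4 : 4 ≤ Fintype.card F
  · obtain ⟨a, ha0, ha1⟩ := exists_of_four_le h4
    exact caseA m a ha0 ha1 w d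
  by_cases h2 : (2 : F) = 0
  · rcases h with h | h | h
    · exact perfect_of_even m h2 h w d
    · exfalso
      have hc : Fintype.card F = 3 := by omega
      have h3 : ((3 : ℕ) : F) = 0 := by
        rw [← hc]; exact Nat.cast_card_eq_zero F
      have h3' : (3 : F) = 0 := by exact_mod_cast h3
      have h1 : (1 : F) = 0 := by linear_combination h3' - h2
      exact one_ne_zero h1
    · exact absurd h h4
  · rcases h with h | h | h
    · exact perfect_of_odd m h2 (by omega) w d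
    · exact perfect_of_odd m h2 (by omega) w d
    · exact absurd h h4

end Cfsg.Agent.Lib.Helper2.SpPerf
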