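import Mathlib
import Cfsg.Agent.Lib.Helper2.SpPerfect
import Cfsg.Agent.S0768

set_option autoImplicit false
set_option linter.style.haveILetI false
set_option linter.unusedSectionVars false
set_option linter.unnecessarySeqFocus false

namespace Cfsg.Agent.Lib.Helper2.SpSimple

open Matrix Cfsg.Agent.Lib.Helper2 Cfsg.Agent.Lib.Helper2.SpPerf
open scoped Pointwise

section general

variable {F : Type*} [Field F] {ι : Type*} [Fintype ι] [DecidableEq ι]

/-- a matrix mapping every non-zero vector to a multiple of itself commutes with everything -/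
theorem comm_of_fix (A : Matrix ι ι F) (h : ∀ v : ι → F, v ≠ 0 → ∃ a : F, A *ᵥ v = a • v)
    (B : Matrix ι ι F) : A * B = B * A := by
  have hs : ∀ i : ι, (Pi.single i (1 : F) : ι → F) ≠ 0 := by
    intro i hh
    have h1 := congrFun hh i
    rw [Pi.single_eq_same] at h1
    exact one_ne_zero h1
  have hoff : ∀ k j : ι, k ≠ j → A k j = 0 := by
    intro k j hkj
    obtain ⟨a, ha⟩ := h (Pi.single j 1) (hs j)
    have h1 := congrFun ha k
    rw [Matrix.mulVec_single_one] at h1
    simp only [Matrix.col_apply, Pi.smul_apply, smul_eq_mul] at h1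
    rw [h1, Pi.single_apply, if_neg hkj, mul_zero]
  have hdiag : ∀ i j : ι, A i i = A j j := by
    intro i j
    by_cases hij : i = j
    · rw [hij]
    have hne : (Pi.single i (1 : F) + Pi.single j (1 : F) : ι → F) ≠ 0 := by
      intro hh
      have h1 := congrFun hh i
      rw [Pi.add_apply, Pi.single_eq_same, Pi.single_apply, if_neg hij, add_zero] at h1
      exact one_ne_zero h1
    obtain ⟨a, ha⟩ := h _ hne
    rw [Matrix.mulVec_add, Matrix.mulVec_single_one, Matrix.mulVec_single_one] at ha
    have h1 := congrFun ha i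
    have h2 := congrFun ha j
    simp only [Pi.add_apply, Matrix.col_apply, Pi.smul_apply, smul_eq_mul] at h1 h2
    rw [hoff i j hij, add_zero, Pi.single_eq_same, Pi.single_apply, if_neg hij, add_zero,
      mul_one] at h1
    rw [hoff j i (Ne.symm hij), zero_add, Pi.single_eq_same, Pi.single_apply,
      if_neg (Ne.symm hij), zero_add, mul_one] at h2
    rw [h1, h2]
  ext i k
  rw [Matrix.mul_apply, Matrix.mul_apply, Finset.sum_eq_single i, Finset.sum_eq_single k]
  · rw [hdiag i k, mul_comm]
  · intro j _ hjk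
    rw [hoff j k hjk, mul_zero]
  · intro hk
    exact absurd (Finset.mem_univ k) hk
  · intro j _ hji
    rw [hoff i j (Ne.symm hji), zero_mul]
  · intro hi
    exact absurd (Finset.mem_univ i) hi

end general

variable {F : Type*} [Field F] (m : ℕ)

theorem mem_symplectic_of_preserving (A : Matrix (Fin m ⊕ Fin m) (Fin m ⊕ Fin m) F)
    (hA : ∀ u v, Cfsg.sympForm m F (A *ᵥ u) (A *ᵥ v) = Cfsg.sympForm m F u v) :
    A ∈ Matrix.symplecticGroup (Fin m) F := by
  rw [SymplecticGroup.mem_iff', Matrix.ext_iff_mulVec]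
  intro v
  apply dotProduct_eq
  intro u
  have h := hA u v
  unfold Cfsg.sympForm at h
  rw [dotProduct_comm, dotProduct_comm _ u, ← h, ← Matrix.mulVec_mulVec, ← Matrix.mulVec_mulVec,
    Matrix.dotProduct_mulVec, Matrix.vecMul_transpose]

/-- the map from `spGL` to the symplectic group -/
def toSp (h : Cfsg.spGL m F) : Matrix.symplecticGroup (Fin m) F :=
  ⟨((h : GL (Fin m ⊕ Fin m) F) : Matrix (Fin m ⊕ Fin m) (Fin m ⊕ Fin m) F),
    mem_symplectic_of_preserving m _ h.2⟩

theorem isPreprimitive [Finite F] (hm : 1 ≤ m) :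
    MulAction.IsPreprimitive (Matrix.symplecticGroup (Fin m) F)
      (Projectivization F (Fin m ⊕ Fin m → F)) := by
  haveI := Cfsg.Agent.S0768.result (F := F) m hm
  let f : MulActionHom (toSp (F := F) m) (Projectivization F (Fin m ⊕ Fin m → F))
      (Projectivization F (Fin m ⊕ Fin m → F)) :=
    { toFun := id
      map_smul' := by
        intro h p
        obtain ⟨v, hv, rfl⟩ : ∃ (v : Fin m ⊕ Fin m → F) (hv : v ≠ 0),
            p = Projectivization.mk F v hv := ⟨p.rep, p.rep_nonzero, p.mk_rep.symm⟩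
        show h • Projectivization.mk F v hv = toSp m h • Projectivization.mk F v hv
        rw [Subgroup.smul_def, Projectivization.smul_mk, Projectivization.smul_mk]
        rfl }
  exact MulAction.IsPreprimitive.of_surjective (f := f) Function.surjective_id

/-- the root subgroup of a vector -/
def rootSub (v : Fin m ⊕ Fin m → F) : Subgroup (Matrix.symplecticGroup (Fin m) F) where
  carrier := {g | ∃ c : F, g = tv m v c}
  mul_mem' := by
    rintro _ _ ⟨c, rfl⟩ ⟨d, rfl⟩
    exact ⟨c + d, tv_add m v c d⟩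
  one_mem' := ⟨0, (tv_zero_right m v).symm⟩
  inv_mem' := by
    rintro _ ⟨c, rfl⟩
    refine ⟨-c, ?_⟩
    apply inv_eq_of_mul_eq_one_right
    rw [tv_add, add_neg_cancel, tv_zero_right]

theorem mem_rootSub {v : Fin m ⊕ Fin m → F} {g : Matrix.symplecticGroup (Fin m) F} :
    g ∈ rootSub m v ↔ ∃ c : F, g = tv m v c := Iff.rfl

theorem rootSub_smul (a : F) (ha : a ≠ 0) (v : Fin m ⊕ Fin m → F) :
    rootSub m (a • v) = rootSub m v := by
  ext g
  rw [mem_rootSub, mem_rootSub]
  constructor
  · rintro ⟨c, rfl⟩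
    exact ⟨a ^ 2 * c, tv_smul m a v c⟩
  · rintro ⟨c, rfl⟩
    refine ⟨c / a ^ 2, ?_⟩
    rw [tv_smul]
    congr 1
    field_simp

theorem rootSub_conj (g : Matrix.symplecticGroup (Fin m) F) (v : Fin m ⊕ Fin m → F) :
    rootSub m (g.1 *ᵥ v) = MulAut.conj g • rootSub m v := by
  ext h
  rw [Subgroup.mem_pointwise_smul_iff_inv_smul_mem]
  show _ ↔ (MulAut.conj g)⁻¹ h ∈ rootSub m v
  rw [MulAut.conj_inv_apply, mem_rootSub, mem_rootSub]
  constructor
  · rintro ⟨c, rfl⟩
    refine ⟨c, ?_⟩
    rw [mul_assoc, ← tv_conj, ← mul_assoc, inv_mul_cancel, one_mul]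
  · rintro ⟨c, hc⟩
    refine ⟨c, ?_⟩
    have h1 : h = g * tv m v c * g⁻¹ := by
      rw [← hc]; group
    rw [h1, tv_conj, mul_assoc, mul_inv_cancel, mul_one]

theorem rootSub_comm (v : Fin m ⊕ Fin m → F) : IsMulCommutative (rootSub m v) := by
  refine ⟨⟨?_⟩⟩
  rintro ⟨a, c, rfl⟩ ⟨b, d, rfl⟩
  apply Subtype.ext
  show tv m v c * tv m v d = tv m v d * tv m v c
  rw [tv_add, tv_add, add_comm]

/-- the Iwasawa structure of the symplectic group on the projective space -/
noncomputable def iwasawa : MulAction.IwasawaStructure (Matrix.symplecticGroup (Fin m) F)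
    (Projectivization F (Fin m ⊕ Fin m → F)) where
  T p := rootSub m p.rep
  is_comm p := rootSub_comm m p.rep
  is_conj g p := by
    have hne : g • p.rep ≠ 0 := (smul_ne_zero_iff_ne g).2 p.rep_nonzero
    have h1 : g • p = Projectivization.mk F (g • p.rep) hne := by
      conv_lhs => rw [← p.mk_rep]
      rw [Projectivization.smul_mk]
    obtain ⟨a, ha⟩ := Projectivization.exists_smul_eq_mk_rep F (g • p.rep) hne
    rw [h1, ← ha, ← rootSub_conj]
    exact rootSub_smul m (a : F) a.ne_zero _
  is_generator := by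
    rw [eq_top_iff, ← Cfsg.Agent.S0765.result m, Subgroup.closure_le]
    rintro A ⟨w, c, hA⟩
    have hA' : A = tv m w c := Subtype.ext hA
    rw [hA']
    by_cases hw : w = 0
    · rw [hw, tv_zero_left]
      exact Subgroup.one_mem _
    · obtain ⟨a, ha⟩ := Projectivization.exists_smul_eq_mk_rep F w hw
      apply Subgroup.mem_iSup_of_mem (Projectivization.mk F w hw)
      show tv m w c ∈ rootSub m (Projectivization.mk F w hw).rep
      rw [← ha]
      show tv m w c ∈ rootSub m ((a : F) • w)
      rw [rootSub_smul m (a : F) a.ne_zero]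
      exact ⟨c, rfl⟩

/-- a normal subgroup acting trivially on the projective space is central -/
theorem le_center_of_fixedPoints (N : Subgroup (Matrix.symplecticGroup (Fin m) F))
    (hN : MulAction.fixedPoints N (Projectivization F (Fin m ⊕ Fin m → F)) = Set.univ) :
    N ≤ Subgroup.center (Matrix.symplecticGroup (Fin m) F) := by
  intro n hn
  rw [Subgroup.mem_center_iff]
  intro B
  apply Subtype.ext
  show B.1 * n.1 = n.1 * B.1
  symm
  apply comm_of_fix
  intro v hv
  have h1 : Projectivization.mk F v hv ∈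
      MulAction.fixedPoints N (Projectivization F (Fin m ⊕ Fin m → F)) := by
    rw [hN]; exact Set.mem_univ _
  rw [MulAction.mem_fixedPoints] at h1
  have h2 := h1 ⟨n, hn⟩
  rw [Subgroup.smul_def] at h2
  change n • Projectivization.mk F v hv = Projectivization.mk F v hv at h2
  rw [Projectivization.smul_mk, Projectivization.mk_eq_mk_iff] at h2
  obtain ⟨a, ha⟩ := h2
  exact ⟨(a : F), ha.symm⟩

/-- `PSp_{2m}(q)` is simple -/
theorem psp_simple [Fintype F] (hm : 2 ≤ m) (h : m = 2 → 3 ≤ Fintype.card F) :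
    IsSimpleGroup (Cfsg.PSp m F) := by
  have hperf : commutator (Matrix.symplecticGroup (Fin m) F) = ⊤ := by
    apply commutator_eq_top
    by_cases h2 : m = 2
    · exact Or.inr (Or.inl ⟨h2, h h2⟩)
    · exact Or.inl (by omega)
  haveI := isPreprimitive (F := F) m (by omega)
  have hsurj : Function.Surjective (QuotientGroup.mk' (Subgroup.center
      (Matrix.symplecticGroup (Fin m) F))) := QuotientGroup.mk'_surjective _
  haveI hnt : Nontrivial (Cfsg.PSp m F) := by
    by_contra hnt
    rw [not_nontrivial_iff_subsingleton] at hnt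
    have hZ := QuotientGroup.subgroup_eq_top_of_subsingleton _ hnt
    have hc := (commutator_eq_bot_iff_center_eq_top _).2 hZ
    rw [hperf] at hc
    obtain ⟨i0, -⟩ : ∃ i : Fin m, i = ⟨0, by omega⟩ := ⟨_, rfl⟩
    have hu : (eL m i0 : Fin m ⊕ Fin m → F) ≠ 0 := by
      intro hh
      have h1 := congrFun hh (Sum.inl i0)
      rw [eL_self] at h1
      exact one_ne_zero h1
    have hv : (Pi.single (Sum.inr i0) (1 : F) : Fin m ⊕ Fin m → F) ≠ 0 := by
      intro hh
      have h1 := congrFun hh (Sum.inr i0)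
      rw [Pi.single_eq_same] at h1
      exact one_ne_zero h1
    obtain ⟨g, hg⟩ := Cfsg.Agent.S0271.result m _ _ hu hv
    have hg1 : g = 1 := by
      have : g ∈ (⊤ : Subgroup (Matrix.symplecticGroup (Fin m) F)) := Subgroup.mem_top g
      rw [hc] at this
      exact Subgroup.mem_bot.1 this
    rw [hg1] at hg
    have h1 := congrFun hg (Sum.inr i0)
    rw [Pi.single_eq_same] at h1
    change ((1 : Matrix (Fin m ⊕ Fin m) (Fin m ⊕ Fin m) F) *ᵥ eL m i0) (Sum.inr i0) = 1 at h1
    rw [Matrix.one_mulVec, eL_inr] at h1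
    exact zero_ne_one h1
  refine IsSimpleGroup.mk ?_
  intro H hH
  obtain ⟨N, hNdef⟩ : ∃ N : Subgroup (Matrix.symplecticGroup (Fin m) F),
      N = H.comap (QuotientGroup.mk' (Subgroup.center (Matrix.symplecticGroup (Fin m) F))) :=
    ⟨_, rfl⟩
  haveI hNn : N.Normal := by
    rw [hNdef]; exact hH.comap _
  have hmap : N.map (QuotientGroup.mk' (Subgroup.center
      (Matrix.symplecticGroup (Fin m) F))) = H := by
    rw [hNdef]; exact Subgroup.map_comap_eq_self_of_surjective hsurj H
  by_cases hfix : MulAction.fixedPoints N (Projectivization F (Fin m ⊕ Fin m → F)) = Set.univ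
  · left
    have hle := le_center_of_fixedPoints m N hfix
    rw [← hmap, Subgroup.eq_bot_iff_forall]
    rintro _ ⟨x, hx, rfl⟩
    exact (QuotientGroup.eq_one_iff x).2 (hle hx)
  · right
    have hle := (iwasawa (F := F) m).commutator_le N hfix
    rw [hperf] at hle
    have hNtop : N = ⊤ := top_le_iff.1 hle
    rw [← hmap, hNtop]
    exact Subgroup.map_top_of_surjective _ hsurj

end Cfsg.Agent.Lib.Helper2.SpSimple
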