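import Mathlib
import Cfsg.Prelude.Def_RootSubgroups
import Cfsg.Prelude.Def_Transfer
import Cfsg.Agent.Lib.Helper8.RankOne

set_option autoImplicit false

namespace Cfsg.Agent.Lib.Helper2.SpecialRankOne

open Cfsg Cfsg.Agent.Lib.Helper8

variable {X : Type*} [Group X]

/-- Hypotheses of a special rank one pair (without nilpotency, which is not needed). -/
structure Hyp (A B : Subgroup X) : Prop where
  ne : A ≠ B
  condL : RankOneCondition A B
  condR : RankOneCondition B A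
  spec : ∀ a ∈ A, a ≠ 1 → ∀ b ∈ B, b ≠ 1 → conjBy A b⁻¹ = conjBy B a⁻¹ →
    b⁻¹ * a * b = a⁻¹ * b⁻¹ * a

theorem Hyp.symm {A B : Subgroup X} (H : Hyp A B) : Hyp B A where
  ne := H.ne.symm
  condL := H.condR
  condR := H.condL
  spec := by
    intro b hb hb1 a ha ha1 hc
    have h := H.spec a ha ha1 b hb hb1 hc.symm
    have := congrArg Inv.inv h
    simp only [mul_inv_rev, inv_inv] at this
    simpa only [mul_assoc] using this.symm

theorem Hyp.of_special {A B : Subgroup X} (hs : IsSpecialRankOnePair A B) : Hyp A B :=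
  ⟨hs.1.ne, hs.1.cond_left, hs.1.cond_right, hs.2⟩

/-- `a ∈ A#` and `b ∈ B#` are partners. -/
def Rel (A B : Subgroup X) (a b : X) : Prop :=
  a ∈ A ∧ a ≠ 1 ∧ b ∈ B ∧ b ≠ 1 ∧ conjBy A b⁻¹ = conjBy B a⁻¹

theorem Rel.symm {A B : Subgroup X} {a b : X} (h : Rel A B a b) : Rel B A b a :=
  ⟨h.2.2.1, h.2.2.2.1, h.1, h.2.1, h.2.2.2.2.symm⟩

theorem inter_trivial {A B : Subgroup X} (H : Hyp A B) {x : X} (hA : x ∈ A) (hB : x ∈ B) :
    x = 1 := by
  have h := rankOne_inf_normalizer H.ne H.condL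
  have : x ∈ A ⊓ Subgroup.normalizer (B : Set X) := ⟨hA, Subgroup.le_normalizer hB⟩
  rw [h, Subgroup.mem_bot] at this
  exact this

theorem uniqB {A B : Subgroup X} (H : Hyp A B) {a b b' : X} (h1 : Rel A B a b)
    (h2 : Rel A B a b') : b = b' :=
  rankOne_unique (rankOne_inf_normalizer H.ne.symm H.condR) h1.2.2.1 h2.2.2.1
    h1.2.2.2.2 h2.2.2.2.2

theorem uniqA {A B : Subgroup X} (H : Hyp A B) {a a' b : X} (h1 : Rel A B a b)
    (h2 : Rel A B a' b) : a = a' :=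
  uniqB H.symm h1.symm h2.symm

theorem braid {A B : Subgroup X} (H : Hyp A B) {a b : X} (h : Rel A B a b) :
    a * b⁻¹ * a = b⁻¹ * a * b⁻¹ := by
  have hs := H.spec a h.1 h.2.1 b h.2.2.1 h.2.2.2.1 h.2.2.2.2
  calc a * b⁻¹ * a = a * (b⁻¹ * a * b) * b⁻¹ := by group
    _ = a * (a⁻¹ * b⁻¹ * a) * b⁻¹ := by rw [hs]
    _ = b⁻¹ * a * b⁻¹ := by group

theorem conj_w {A B : Subgroup X} (H : Hyp A B) {a b : X} (h : Rel A B a b) :
    (a * b⁻¹ * a)⁻¹ * a * (a * b⁻¹ * a) = b⁻¹ := by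
  have hb := braid H h
  calc (a * b⁻¹ * a)⁻¹ * a * (a * b⁻¹ * a)
      = (a * b⁻¹ * a)⁻¹ * (a * (b⁻¹ * a * b⁻¹)) := by rw [← hb]; group
    _ = (a * b⁻¹ * a)⁻¹ * ((a * b⁻¹ * a) * b⁻¹) := by group
    _ = b⁻¹ := by group

theorem pow_transfer {A B : Subgroup X} (H : Hyp A B) {a b : X} (h : Rel A B a b) (n : ℕ)
    (hn : a ^ n = 1) : b ^ n = 1 := by
  have hc := conj_w H h
  obtain ⟨w, hw⟩ : ∃ w, w = a * b⁻¹ * a := ⟨_, rfl⟩
  rw [← hw] at hc
  have h1 : (w⁻¹ * a * w) ^ n = w⁻¹ * a ^ n * w := by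
    have := conj_pow (a := w⁻¹) (b := a) (i := n)
    simpa using this
  rw [hc, hn] at h1
  have h2 : (b ^ n)⁻¹ = 1 := by
    rw [← inv_pow, h1]; group
  exact inv_eq_one.mp h2

theorem rel_inv {A B : Subgroup X} (H : Hyp A B) {a b : X} (h : Rel A B a b) :
    Rel A B a⁻¹ b⁻¹ := by
  obtain ⟨ha, ha1, hb, hb1, hR⟩ := h
  have hb1' : b⁻¹ ≠ 1 := by simpa using hb1
  have ha1' : a⁻¹ ≠ 1 := by simpa using ha1
  obtain ⟨a', ha', ha'1, hR'⟩ := H.condR b⁻¹ (B.inv_mem hb) hb1'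
  rw [inv_inv] at hR'
  have hbr := braid H ⟨ha, ha1, hb, hb1, hR⟩
  have key : a' * a = 1 := by
    by_contra ht
    obtain ⟨c, hc, hc1, hRc⟩ := H.condL (a' * a) (A.mul_mem ha' ha) ht
    have h1 : b⁻¹ ∈ conjBy B (a' * a)⁻¹ := by
      have e : conjBy B (a' * a)⁻¹ = conjBy A (a⁻¹ * b) := by
        rw [mul_inv_rev, ← conjBy_conjBy, hR', conjBy_conjBy]
      rw [e, mem_conjBy]
      have : (a⁻¹ * b)⁻¹ * b⁻¹ * (a⁻¹ * b) = a := by
        calc (a⁻¹ * b)⁻¹ * b⁻¹ * (a⁻¹ * b) = (b⁻¹ * a * b⁻¹) * (a⁻¹ * b) := by group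
          _ = (a * b⁻¹ * a) * (a⁻¹ * b) := by rw [hbr]
          _ = a := by group
      rw [this]; exact ha
    rw [← hRc, mem_conjBy] at h1
    have h2 : c⁻¹⁻¹ * b⁻¹ * c⁻¹ ∈ B :=
      B.mul_mem (B.mul_mem (B.inv_mem (B.inv_mem hc)) (B.inv_mem hb)) (B.inv_mem hc)
    have h3 := inter_trivial H h1 h2
    have h4 : b⁻¹ = c⁻¹ * (c⁻¹⁻¹ * b⁻¹ * c⁻¹) * c := by group
    rw [h3] at h4
    apply hb1'
    rw [h4]; group
  have ha'eq : a' = a⁻¹ := eq_inv_of_mul_eq_one_left key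
  rw [ha'eq] at hR'
  exact ⟨A.inv_mem ha, ha1', B.inv_mem hb, hb1', by rw [inv_inv]; exact hR'.symm⟩

theorem b3 (y d : X) (h : y * d * y = d * y * d) :
    ∀ m : ℕ, d ^ m * y * d = y * d * y ^ m := by
  intro m
  induction m with
  | zero => simp
  | succ m ih =>
    calc d ^ (m + 1) * y * d = d * (d ^ m * y * d) := by rw [pow_succ']; simp only [mul_assoc]
      _ = d * (y * d * y ^ m) := by rw [ih]
      _ = (d * y * d) * y ^ m := by simp only [mul_assoc]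
      _ = (y * d * y) * y ^ m := by rw [h]
      _ = y * d * y ^ (m + 1) := by rw [pow_succ']; simp only [mul_assoc]

/-- Key identity: if `ζ = b(y)` and `x = a(ζ^n)` then `x^n = y`. -/
theorem main_pow : ∀ (n : ℕ) (A B : Subgroup X), Hyp A B → ∀ y ζ x : X, Rel A B y ζ →
    ζ ^ n ≠ 1 → Rel A B x (ζ ^ n) → x ^ n = y := by
  intro n
  induction n with
  | zero =>
    intro A B H y ζ x hR hne
    exact absurd (pow_zero ζ) hne
  | succ n IH =>
    intro A B H y ζ x hR hne hx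
    by_cases hyn : y ^ n = 1
    · have hζn : ζ ^ n = 1 := pow_transfer H hR n hyn
      have hζ : ζ ^ (n + 1) = ζ := by rw [pow_succ, hζn, one_mul]
      rw [hζ] at hx
      have hxy : x = y := uniqA H hx hR
      rw [hxy, pow_succ, hyn, one_mul]
    · obtain ⟨η, hηB, hη1, hηR⟩ := H.condL (y ^ n) (A.pow_mem hR.1 n) hyn
      have hη : Rel A B (y ^ n) η := ⟨A.pow_mem hR.1 n, hyn, hηB, hη1, hηR⟩
      have h1 : η ^ n = ζ := IH B A H.symm ζ y η hR.symm hyn hη.symm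
      have hbr := braid H hR
      have h2 := b3 y ζ⁻¹ hbr (n + 1)
      have hx' := rel_inv H hx
      have hR' := rel_inv H hR
      have E1 : conjBy B ((y * ζ⁻¹)⁻¹ * x) = conjBy A η⁻¹ := by
        have L : conjBy A (ζ⁻¹ ^ (n + 1) * y * ζ⁻¹)⁻¹ = conjBy B ((y * ζ⁻¹)⁻¹ * x) := by
          have e : (ζ⁻¹ ^ (n + 1) * y * ζ⁻¹)⁻¹ = (y * ζ⁻¹)⁻¹ * ((ζ ^ (n + 1))⁻¹)⁻¹ := by
            rw [inv_pow]; group
          rw [e, ← conjBy_conjBy, hx'.2.2.2.2, inv_inv, conjBy_conjBy]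
        have Rr : conjBy A (y * ζ⁻¹ * y ^ (n + 1))⁻¹ = conjBy A η⁻¹ := by
          have e : (y * ζ⁻¹ * y ^ (n + 1))⁻¹ = (y ^ (n + 1))⁻¹ * (ζ⁻¹⁻¹ * y⁻¹) := by group
          rw [e, ← conjBy_conjBy, ← conjBy_conjBy, conjBy_of_mem (A.inv_mem hR.1),
            hR'.2.2.2.2, conjBy_conjBy, hηR]
          congr 1
          rw [pow_succ]; group
        rw [← L, h2, Rr]
      have E2 : conjBy A (η ^ (n + 1))⁻¹ = conjBy B (x⁻¹ * y)⁻¹ := by
        have e1 : (y * ζ⁻¹)⁻¹ * x = ζ * (y⁻¹ * x) := by group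
        rw [e1, ← conjBy_conjBy, conjBy_eq_iff, conjBy_conjBy] at E1
        have e2 : (η ^ (n + 1))⁻¹ = ζ⁻¹ * η⁻¹ := by rw [pow_succ', h1]; group
        have e3 : (x⁻¹ * y)⁻¹ = y⁻¹ * x := by group
        rw [e2, e3]; exact E1.symm
      have hxy1 : x⁻¹ * y ≠ 1 := by
        intro h0
        rw [h0, inv_one, conjBy_one] at E2
        apply H.ne
        have h' := conjBy_eq_iff.mp E2
        rw [conjBy_of_mem (B.inv_mem (B.inv_mem (B.pow_mem hηB _)))] at h'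
        exact h'
      have hη1' : η ^ (n + 1) ≠ 1 := by
        intro h0
        rw [h0, inv_one, conjBy_one] at E2
        apply H.ne
        have hmem : (x⁻¹ * y)⁻¹ ∈ A := A.inv_mem (A.mul_mem (A.inv_mem hx.1) hR.1)
        have h' := conjBy_eq_iff.mp E2.symm
        rw [conjBy_of_mem (A.inv_mem hmem)] at h'
        exact h'.symm
      have hrel : Rel A B (x⁻¹ * y) (η ^ (n + 1)) :=
        ⟨A.mul_mem (A.inv_mem hx.1) hR.1, hxy1, B.pow_mem hηB _, hη1', E2⟩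
      have hpow : (η ^ (n + 1)) ^ n = ζ ^ (n + 1) := by
        rw [← pow_mul, mul_comm, pow_mul, h1]
      have h3 : x ^ n = x⁻¹ * y :=
        IH A B H _ _ x hrel (by rw [hpow]; exact hne) (by rw [hpow]; exact hx)
      rw [pow_succ', h3]; group

/-- In a special rank one group with abelian unipotent subgroups, `A` is elementary abelian
or torsion-free and divisible. -/
theorem dichotomy {A B : Subgroup X} (H : Hyp A B) (hcomm : IsMulCommutative A) :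
    (∃ p : ℕ, p.Prime ∧ Cfsg.IsElementaryAbelian p A) ∨
    ((∀ a ∈ A, a ≠ 1 → ¬ IsOfFinOrder a) ∧ ∀ a ∈ A, ∀ n : ℕ, 0 < n → ∃ c ∈ A, c ^ n = a) := by
  have comm : ∀ x ∈ A, ∀ y ∈ A, x * y = y * x := by
    intro x hx y hy
    have := hcomm.is_comm.comm (⟨x, hx⟩ : A) ⟨y, hy⟩
    exact congrArg Subtype.val this
  by_cases htor : ∃ a ∈ A, a ≠ 1 ∧ IsOfFinOrder a
  · left
    obtain ⟨a, ha, ha1, hfin⟩ := htor
    have hNpos : 0 < orderOf a := hfin.orderOf_pos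
    have hN1 : orderOf a ≠ 1 := by
      intro h; exact ha1 (orderOf_eq_one_iff.mp h)
    have hp : (orderOf a).minFac.Prime := Nat.minFac_prime hN1
    obtain ⟨m, hm⟩ := Nat.minFac_dvd (orderOf a)
    set p := (orderOf a).minFac with hpdef
    have hm0 : m ≠ 0 := by
      intro h; rw [h, mul_zero] at hm; omega
    have hmlt : m < orderOf a := by
      have := hp.two_le
      have hmpos : 0 < m := Nat.pos_of_ne_zero hm0
      nlinarith
    have ha₁ : a ^ m ≠ 1 := pow_ne_one_of_lt_orderOf hm0 hmlt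
    have ha₁p : (a ^ m) ^ p = 1 := by
      rw [← pow_mul, mul_comm, ← hm, pow_orderOf_eq_one]
    refine ⟨p, hp, hcomm, fun z hz => ?_⟩
    by_contra hzp
    have hz1 : z ≠ 1 := by
      intro h; rw [h, one_pow] at hzp; exact hzp rfl
    have htA : a ^ m * z ∈ A := A.mul_mem (A.pow_mem ha m) hz
    have htp : (a ^ m * z) ^ p = z ^ p := by
      have hc : Commute (a ^ m) z := comm _ (A.pow_mem ha m) _ hz
      rw [hc.mul_pow, ha₁p, one_mul]
    have ht1 : a ^ m * z ≠ 1 := by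
      intro h; rw [h, one_pow] at htp; exact hzp htp.symm
    obtain ⟨ζz, h1, h2, h3⟩ := H.condL z hz hz1
    have hRz : Rel A B z ζz := ⟨hz, hz1, h1, h2, h3⟩
    obtain ⟨ζt, h4, h5, h6⟩ := H.condL (a ^ m * z) htA ht1
    have hRt : Rel A B (a ^ m * z) ζt := ⟨htA, ht1, h4, h5, h6⟩
    obtain ⟨η, h7, h8, h9⟩ := H.condL (z ^ p) (A.pow_mem hz p) hzp
    have hRη : Rel A B (z ^ p) η := ⟨A.pow_mem hz p, hzp, h7, h8, h9⟩
    have e1 : η ^ p = ζz := main_pow p B A H.symm ζz z η hRz.symm hzp hRη.symm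
    have hRη' : Rel A B ((a ^ m * z) ^ p) η := by rw [htp]; exact hRη
    have e2 : η ^ p = ζt :=
      main_pow p B A H.symm ζt (a ^ m * z) η hRt.symm (by rw [htp]; exact hzp) hRη'.symm
    have e3 : ζz = ζt := e1.symm.trans e2
    rw [← e3] at hRt
    have e4 : z = a ^ m * z := uniqA H hRz hRt
    apply ha₁
    have : a ^ m * z = 1 * z := by rw [one_mul]; exact e4.symm
    exact mul_right_cancel this
  · right
    push Not at htor
    refine ⟨htor, fun a ha n hn => ?_⟩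
    by_cases ha1 : a = 1
    · exact ⟨1, A.one_mem, by rw [ha1, one_pow]⟩
    · have han : a ^ n ≠ 1 := by
        intro h
        exact htor a ha ha1 (isOfFinOrder_iff_pow_eq_one.mpr ⟨n, hn, h⟩)
      obtain ⟨ζ, h1, h2, h3⟩ := H.condL a ha ha1
      have hR : Rel A B a ζ := ⟨ha, ha1, h1, h2, h3⟩
      have hζn : ζ ^ n ≠ 1 := by
        intro h
        exact han (pow_transfer H.symm hR.symm n h)
      obtain ⟨x, hxA, hx1, hx⟩ := H.condR (ζ ^ n) (B.pow_mem h1 n) hζn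
      have hRx : Rel A B x (ζ ^ n) := ⟨hxA, hx1, B.pow_mem h1 n, hζn, hx.symm⟩
      exact ⟨x, hxA, main_pow n A B H a ζ x hR hζn hRx⟩

end Cfsg.Agent.Lib.Helper2.SpecialRankOne
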