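import Mathlib
import Cfsg.Prelude.Def_GeometricClasses
import Cfsg.Agent.Lib.Helper2.Quad
import Cfsg.Agent.Lib.Helper1.SLn

set_option autoImplicit false
set_option linter.style.haveILetI false
set_option linter.unusedSectionVars false
set_option linter.unnecessarySeqFocus false

namespace Cfsg.Agent.Lib.Helper2.StabMax

open Matrix

variable {F : Type*} [Field F] {ι : Type} [Fintype ι] [DecidableEq ι]

/-- the transvection matrix `x ↦ x + φ(x) a` -/
def T (a φ : ι → F) : Matrix ι ι F := 1 + Matrix.vecMulVec a φ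

theorem T_mulVec (a φ x : ι → F) : T a φ *ᵥ x = x + (φ ⬝ᵥ x) • a := by
  unfold T
  rw [Matrix.add_mulVec, Matrix.one_mulVec]
  congr 1
  ext i
  simp only [Matrix.mulVec, dotProduct, Matrix.vecMulVec_apply, Pi.smul_apply, smul_eq_mul,
    Finset.sum_mul]
  apply Finset.sum_congr rfl
  intro j _
  ring

theorem T_mul_T_neg (a φ : ι → F) (h : φ ⬝ᵥ a = 0) : T a φ * T a (-φ) = 1 := by
  rw [Matrix.ext_iff_mulVec]
  intro x
  rw [← Matrix.mulVec_mulVec, T_mulVec a (-φ), T_mulVec, Matrix.one_mulVec]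
  have e : φ ⬝ᵥ (x + (-φ ⬝ᵥ x) • a) = φ ⬝ᵥ x := by
    rw [dotProduct_add, dotProduct_smul, h, smul_zero, add_zero]
  rw [e, neg_dotProduct, neg_smul]
  abel

theorem T_det (a φ : ι → F) (h : φ ⬝ᵥ a = 0) : (T a φ).det = 1 := by
  have h1 := Cfsg.Agent.Lib.Helper2.det_one_add_smul_vecMulVec (F := F) (1 : F) a φ
  rw [one_smul, h, mul_zero, add_zero] at h1
  exact h1

/-- the transvection as an element of the general linear group -/
def tvGL (a φ : ι → F) (h : φ ⬝ᵥ a = 0) : GL ι F :=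
  ⟨T a φ, T a (-φ), T_mul_T_neg a φ h, by
    have h1 := T_mul_T_neg a (-φ) (by rw [neg_dotProduct, h, neg_zero])
    rwa [neg_neg] at h1⟩

theorem tvGL_val (a φ : ι → F) (h : φ ⬝ᵥ a = 0) :
    ((tvGL a φ h : GL ι F) : Matrix ι ι F) = T a φ := rfl

theorem tvGL_congr {a a' φ φ' : ι → F} (ha : a = a') (hφ : φ = φ') (h : φ ⬝ᵥ a = 0)
    (h' : φ' ⬝ᵥ a' = 0) : tvGL a φ h = tvGL a' φ' h' := by
  subst ha
  subst hφ
  rfl

theorem mem_SL_iff (g : GL ι F) :
    g ∈ Cfsg.Geo.specialLinear ι F ↔ (g : Matrix ι ι F).det = 1 := by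
  unfold Cfsg.Geo.specialLinear
  rw [MonoidHom.mem_ker]
  constructor
  · intro h
    rw [← Matrix.GeneralLinearGroup.val_det_apply, h, Units.val_one]
  · intro h
    apply Units.ext
    rw [Matrix.GeneralLinearGroup.val_det_apply, h, Units.val_one]

theorem tvGL_mem_SL (a φ : ι → F) (h : φ ⬝ᵥ a = 0) :
    tvGL a φ h ∈ Cfsg.Geo.specialLinear ι F := by
  rw [mem_SL_iff, tvGL_val]
  exact T_det a φ h

theorem mem_stab_iff (W : Submodule F (ι → F)) (g : GL ι F) :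
    g ∈ Cfsg.Geo.subspaceStabilizer W ↔ ∀ v, v ∈ W ↔ (g : Matrix ι ι F) *ᵥ v ∈ W := Iff.rfl

theorem tvGL_mem_stab_of_mem (W : Submodule F (ι → F)) (a φ : ι → F) (h : φ ⬝ᵥ a = 0)
    (ha : a ∈ W) : tvGL a φ h ∈ Cfsg.Geo.subspaceStabilizer W := by
  rw [mem_stab_iff]
  intro v
  rw [tvGL_val, T_mulVec]
  constructor
  · intro hv
    exact W.add_mem hv (W.smul_mem _ ha)
  · intro hv
    have h1 := W.sub_mem hv (W.smul_mem (φ ⬝ᵥ v) ha)
    rwa [add_sub_cancel_right] at h1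

theorem tvGL_mem_stab_of_vanish (W : Submodule F (ι → F)) (a φ : ι → F) (h : φ ⬝ᵥ a = 0)
    (hφ : ∀ w ∈ W, φ ⬝ᵥ w = 0) : tvGL a φ h ∈ Cfsg.Geo.subspaceStabilizer W := by
  rw [mem_stab_iff]
  intro v
  rw [tvGL_val, T_mulVec]
  constructor
  · intro hv
    rw [hφ v hv, zero_smul, add_zero]
    exact hv
  · intro hv
    have h1 := hφ _ hv
    rw [dotProduct_add, dotProduct_smul, h, smul_zero, add_zero] at h1
    rw [h1, zero_smul, add_zero] at hv
    exact hv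

/-- conjugation of transvections -/
theorem conj_tv (g : GL ι F) (a φ : ι → F) (hφ : φ ⬝ᵥ ((g : Matrix ι ι F) *ᵥ a) = 0) :
    g * tvGL a (φ ᵥ* (g : Matrix ι ι F)) (by rw [← Matrix.dotProduct_mulVec]; exact hφ) =
      tvGL ((g : Matrix ι ι F) *ᵥ a) φ hφ * g := by
  apply Units.ext
  rw [Units.val_mul, Units.val_mul, tvGL_val, tvGL_val, Matrix.ext_iff_mulVec]
  intro x
  rw [← Matrix.mulVec_mulVec, ← Matrix.mulVec_mulVec, T_mulVec, T_mulVec, Matrix.mulVec_add,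
    Matrix.mulVec_smul, Matrix.dotProduct_mulVec]

theorem mem_of_conj (M : Subgroup (GL ι F)) (g : GL ι F) (hg : g ∈ M) (a φ : ι → F)
    (hφ : φ ⬝ᵥ a = 0)
    (H : ∀ (φ' : ι → F) (hφ' : φ' ⬝ᵥ ((g : Matrix ι ι F) *ᵥ a) = 0),
      tvGL ((g : Matrix ι ι F) *ᵥ a) φ' hφ' ∈ M) : tvGL a φ hφ ∈ M := by
  obtain ⟨φ₁, hφ₁⟩ : ∃ φ₁ : ι → F, φ₁ = φ ᵥ* ((g⁻¹ : GL ι F) : Matrix ι ι F) := ⟨_, rfl⟩
  have e1 : φ₁ ᵥ* (g : Matrix ι ι F) = φ := by
    rw [hφ₁, Matrix.vecMul_vecMul, ← Units.val_mul, inv_mul_cancel, Units.val_one,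
      Matrix.vecMul_one]
  have h1 : φ₁ ⬝ᵥ ((g : Matrix ι ι F) *ᵥ a) = 0 := by
    rw [Matrix.dotProduct_mulVec, e1]; exact hφ
  have h2 := conj_tv g a φ₁ h1
  have h3 : tvGL a (φ₁ ᵥ* (g : Matrix ι ι F))
      (by rw [← Matrix.dotProduct_mulVec]; exact h1) =
      g⁻¹ * tvGL ((g : Matrix ι ι F) *ᵥ a) φ₁ h1 * g := by
    rw [mul_assoc, ← h2, ← mul_assoc, inv_mul_cancel, one_mul]
  rw [tvGL_congr rfl e1.symm hφ (by rw [← Matrix.dotProduct_mulVec]; exact h1), h3]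
  exact M.mul_mem (M.mul_mem (M.inv_mem hg) (H φ₁ h1)) hg

/-- separation by a covector -/
theorem exists_sep (U : Submodule F (ι → F)) (a : ι → F) (ha : a ∉ U) :
    ∃ ψ : ι → F, (∀ u ∈ U, ψ ⬝ᵥ u = 0) ∧ ψ ⬝ᵥ a = 1 := by
  obtain ⟨f, hfa, hfU⟩ := Submodule.exists_le_ker_of_notMem ha
  obtain ⟨ψ₀, hψ₀⟩ : ∃ ψ₀ : ι → F, ψ₀ = fun i => f (fun j => if i = j then 1 else 0) := ⟨_, rfl⟩
  have hf : ∀ x : ι → F, f x = ψ₀ ⬝ᵥ x := by
    intro x
    rw [LinearMap.pi_apply_eq_sum_univ f x, dotProduct, hψ₀]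
    apply Finset.sum_congr rfl
    intro i _
    rw [smul_eq_mul, mul_comm]
  refine ⟨(f a)⁻¹ • ψ₀, ?_, ?_⟩
  · intro u hu
    have h1 : f u = 0 := hfU hu
    rw [smul_dotProduct, ← hf, h1, smul_zero]
  · rw [smul_dotProduct, ← hf, smul_eq_mul, inv_mul_cancel₀ hfa]

/-- the key step: a subgroup containing the determinant-one stabiliser of `W` and an element
moving some vector of `W` outside `W` contains all transvections -/
theorem all_tv_mem (W : Submodule F (ι → F)) (M : Subgroup (GL ι F))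
    (hHM : Cfsg.Geo.subspaceStabilizer W ⊓ Cfsg.Geo.specialLinear ι F ≤ M)
    (g : GL ι F) (hgM : g ∈ M) (w₀ : ι → F) (hw₀ : w₀ ∈ W)
    (hgw : (g : Matrix ι ι F) *ᵥ w₀ ∉ W) (a φ : ι → F) (hφ : φ ⬝ᵥ a = 0) :
    tvGL a φ hφ ∈ M := by
  have step1 : ∀ (b : ι → F), b ∈ W → ∀ (φ' : ι → F) (hφ' : φ' ⬝ᵥ b = 0), tvGL b φ' hφ' ∈ M := by
    intro b hb φ' hφ'
    exact hHM ⟨tvGL_mem_stab_of_mem W b φ' hφ' hb, tvGL_mem_SL b φ' hφ'⟩
  have step2 : ∀ (b : ι → F), b ∈ W → ∀ (φ' : ι → F)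
      (hφ' : φ' ⬝ᵥ ((g : Matrix ι ι F) *ᵥ b) = 0),
      tvGL ((g : Matrix ι ι F) *ᵥ b) φ' hφ' ∈ M := by
    intro b hb φ' hφ'
    have h2 := conj_tv g b φ' hφ'
    have h3 : tvGL ((g : Matrix ι ι F) *ᵥ b) φ' hφ' =
        g * tvGL b (φ' ᵥ* (g : Matrix ι ι F))
          (by rw [← Matrix.dotProduct_mulVec]; exact hφ') * g⁻¹ := by
      rw [h2, mul_assoc, mul_inv_cancel, mul_one]
    rw [h3]
    exact M.mul_mem (M.mul_mem hgM (step1 b hb _ _)) (M.inv_mem hgM)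
  by_cases haW : a ∈ W
  · exact step1 a haW φ hφ
  obtain ⟨b', hb'⟩ : ∃ b' : ι → F, b' = (g : Matrix ι ι F) *ᵥ w₀ := ⟨_, rfl⟩
  by_cases hdep : ∃ c : F, a - c • b' ∈ W
  · obtain ⟨c, hc⟩ := hdep
    obtain ⟨ψ, hψW, hψa⟩ := exists_sep W a haW
    have hψ0 : ψ ⬝ᵥ (-(a - c • b')) = 0 := by
      rw [dotProduct_neg, hψW _ hc, neg_zero]
    have hh : tvGL (-(a - c • b')) ψ hψ0 ∈ M :=
      step1 _ (W.neg_mem hc) ψ hψ0
    apply mem_of_conj M _ hh a φ hφ
    intro φ' hφ'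
    have e : ((tvGL (-(a - c • b')) ψ hψ0 : GL ι F) : Matrix ι ι F) *ᵥ a =
        (g : Matrix ι ι F) *ᵥ (c • w₀) := by
      rw [tvGL_val, T_mulVec, hψa, one_smul, Matrix.mulVec_smul, ← hb']
      abel
    rw [tvGL_congr e rfl hφ' (by rw [← e]; exact hφ')]
    exact step2 _ (W.smul_mem c hw₀) _ _
  · have hb'W : b' ∉ W := by rw [hb']; exact hgw
    have haU : a ∉ W ⊔ Submodule.span F {a - b'} := by
      intro hmem
      obtain ⟨w, hw, z, hz, hwz⟩ := Submodule.mem_sup.1 hmem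
      obtain ⟨μ, rfl⟩ := Submodule.mem_span_singleton.1 hz
      by_cases hμ : μ = 1
      · apply hb'W
        have h1 : b' = w := by
          rw [hμ, one_smul] at hwz
          have h2 : w + (a - b') - (a - b') = a - (a - b') := by rw [hwz]
          rw [add_sub_cancel_right] at h2
          rw [h2]; abel
        rw [h1]; exact hw
      · apply hdep
        have h1mμ : (1 - μ) ≠ 0 := sub_ne_zero.2 (Ne.symm hμ)
        refine ⟨-(μ / (1 - μ)), ?_⟩
        have h2 : a - (-(μ / (1 - μ))) • b' = (1 - μ)⁻¹ • w := by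
          ext i
          have hi := congrFun hwz i
          simp only [Pi.add_apply, Pi.smul_apply, Pi.sub_apply, smul_eq_mul] at hi
          have hwi : w i = (1 - μ) * a i + μ * b' i := by linear_combination hi
          simp only [Pi.sub_apply, Pi.smul_apply, smul_eq_mul]
          rw [hwi, mul_add, ← mul_assoc, inv_mul_cancel₀ h1mμ, one_mul]
          ring
        rw [h2]
        exact W.smul_mem _ hw
    obtain ⟨ψ, hψU, hψa⟩ := exists_sep _ a haU
    have hψW : ∀ w ∈ W, ψ ⬝ᵥ w = 0 := fun w hw => hψU w (Submodule.mem_sup_left hw)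
    have hψab : ψ ⬝ᵥ (a - b') = 0 :=
      hψU _ (Submodule.mem_sup_right (Submodule.mem_span_singleton_self _))
    have hψ0 : ψ ⬝ᵥ (b' - a) = 0 := by
      have : b' - a = -(a - b') := by abel
      rw [this, dotProduct_neg, hψab, neg_zero]
    have hh : tvGL (b' - a) ψ hψ0 ∈ M :=
      hHM ⟨tvGL_mem_stab_of_vanish W _ ψ hψ0 hψW, tvGL_mem_SL _ ψ hψ0⟩
    apply mem_of_conj M _ hh a φ hφ
    intro φ' hφ'
    have e : ((tvGL (b' - a) ψ hψ0 : GL ι F) : Matrix ι ι F) *ᵥ a =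
        (g : Matrix ι ι F) *ᵥ w₀ := by
      rw [tvGL_val, T_mulVec, hψa, one_smul, ← hb']
      abel
    rw [tvGL_congr e rfl hφ' (by rw [← e]; exact hφ')]
    exact step2 _ hw₀ _ _

theorem single_dot_single (i j : ι) (hij : i ≠ j) (c : F) :
    (Pi.single j (1 : F) : ι → F) ⬝ᵥ (Pi.single i c : ι → F) = 0 := by
  rw [dotProduct]
  apply Finset.sum_eq_zero
  intro k _
  by_cases hk : k = j
  · rw [hk, Pi.single_apply, Pi.single_apply, if_pos rfl, if_neg (Ne.symm hij), mul_zero]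
  · rw [Pi.single_apply, if_neg hk, zero_mul]

theorem toGL_transvection (i j : ι) (hij : i ≠ j) (c : F) :
    Matrix.SpecialLinearGroup.toGL (Matrix.SpecialLinearGroup.transvection hij c) =
      tvGL (Pi.single i c) (Pi.single j 1) (single_dot_single i j hij c) := by
  apply Units.ext
  show (1 : Matrix ι ι F) + Matrix.single i j c = T (Pi.single i c) (Pi.single j 1)
  unfold T
  congr 1
  ext r s
  rw [Matrix.vecMulVec_apply, Matrix.single_apply, Pi.single_apply, Pi.single_apply]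
  by_cases hr : r = i
  · by_cases hs : s = j
    · rw [if_pos hr, if_pos hs, if_pos ⟨hr.symm, hs.symm⟩, mul_one]
    · rw [if_neg hs, mul_zero, if_neg]
      rintro ⟨-, h2⟩
      exact hs h2.symm
  · rw [if_neg hr, zero_mul, if_neg]
    rintro ⟨h1, -⟩
    exact hr h1.symm

/-- the main result: such a subgroup contains the special linear group -/
theorem SL_le (W : Submodule F (ι → F)) (M : Subgroup (GL ι F))
    (hHM : Cfsg.Geo.subspaceStabilizer W ⊓ Cfsg.Geo.specialLinear ι F ≤ M)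
    (g : GL ι F) (hgM : g ∈ M) (hg : g ∉ Cfsg.Geo.subspaceStabilizer W) :
    Cfsg.Geo.specialLinear ι F ≤ M := by
  -- find an element of `M` moving a vector of `W` outside `W`
  obtain ⟨g', hg'M, w₀, hw₀, hgw⟩ : ∃ g' : GL ι F, g' ∈ M ∧ ∃ w₀ : ι → F, w₀ ∈ W ∧
      (g' : Matrix ι ι F) *ᵥ w₀ ∉ W := by
    rw [mem_stab_iff] at hg
    push Not at hg
    obtain ⟨v, hv⟩ := hg
    rcases hv with ⟨hvW, hgv⟩ | ⟨hvW, hgv⟩
    · exact ⟨g, hgM, v, hvW, hgv⟩
    · refine ⟨g⁻¹, M.inv_mem hgM, _, hgv, ?_⟩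
      rw [Matrix.mulVec_mulVec, ← Units.val_mul, inv_mul_cancel, Units.val_one, Matrix.one_mulVec]
      exact hvW
  have hall := all_tv_mem W M hHM g' hg'M w₀ hw₀ hgw
  have hSL : ∀ s : Matrix.SpecialLinearGroup ι F, Matrix.SpecialLinearGroup.toGL s ∈ M := by
    intro s
    rcases subsingleton_or_nontrivial ι with hι | hι
    · have : s = 1 := Subsingleton.elim _ _
      rw [this, map_one]
      exact M.one_mem
    · refine Cfsg.Agent.Lib.Helper1.transvection_induction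
        (fun s => Matrix.SpecialLinearGroup.toGL s ∈ M) ?_ ?_ s
      · intro i j hij c
        show Matrix.SpecialLinearGroup.toGL (Matrix.SpecialLinearGroup.transvection hij c) ∈ M
        rw [toGL_transvection i j hij c]
        exact hall _ _ _
      · intro A B hA hB
        show Matrix.SpecialLinearGroup.toGL (A * B) ∈ M
        rw [map_mul]
        exact M.mul_mem hA hB
  intro k hk
  rw [mem_SL_iff] at hk
  have : k = Matrix.SpecialLinearGroup.toGL ⟨(k : Matrix ι ι F), hk⟩ := Units.ext rfl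
  rw [this]
  exact hSL _

/-- an element of the special linear group not stabilising a proper non-zero subspace -/
theorem exists_not_stab (W : Submodule F (ι → F)) (hW0 : W ≠ ⊥) (hW1 : W ≠ ⊤) :
    ∃ g : GL ι F, g ∈ Cfsg.Geo.specialLinear ι F ∧ g ∉ Cfsg.Geo.subspaceStabilizer W := by
  obtain ⟨w, hwW, hw0⟩ := (Submodule.ne_bot_iff W).1 hW0
  obtain ⟨a, haW⟩ : ∃ a : ι → F, a ∉ W := by
    by_contra h
    push Not at h
    exact hW1 (Submodule.eq_top_iff'.2 h)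
  have hwa : w ∉ Submodule.span F {a} := by
    intro hmem
    obtain ⟨μ, hμ⟩ := Submodule.mem_span_singleton.1 hmem
    have hμ0 : μ ≠ 0 := by
      rintro rfl
      rw [zero_smul] at hμ
      exact hw0 hμ.symm
    apply haW
    have : a = μ⁻¹ • w := by rw [← hμ, smul_smul, inv_mul_cancel₀ hμ0, one_smul]
    rw [this]
    exact W.smul_mem _ hwW
  obtain ⟨φ, hφU, hφw⟩ := exists_sep _ w hwa
  have hφa : φ ⬝ᵥ a = 0 := hφU a (Submodule.mem_span_singleton_self a)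
  refine ⟨tvGL a φ hφa, tvGL_mem_SL a φ hφa, ?_⟩
  rw [mem_stab_iff]
  intro h
  have h1 := (h w).1 hwW
  rw [tvGL_val, T_mulVec, hφw, one_smul] at h1
  apply haW
  have h2 := W.sub_mem h1 hwW
  rwa [add_sub_cancel_left] at h2

/-- the stabiliser of a proper non-zero subspace is maximal in the special linear group -/
theorem isMaximalIn_SL (W : Submodule F (ι → F)) (hW0 : W ≠ ⊥) (hW1 : W ≠ ⊤) :
    Cfsg.Geo.IsMaximalIn (Cfsg.Geo.specialLinear ι F)
      (Cfsg.Geo.subspaceStabilizer W ⊓ Cfsg.Geo.specialLinear ι F) := by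
  constructor
  · refine lt_of_le_of_ne inf_le_right ?_
    intro h
    obtain ⟨g, hg1, hg2⟩ := exists_not_stab W hW0 hW1
    rw [← h] at hg1
    exact hg2 hg1.1
  · intro M hHM hMK
    by_cases hle : M ≤ Cfsg.Geo.subspaceStabilizer W ⊓ Cfsg.Geo.specialLinear ι F
    · exact Or.inl (le_antisymm hle hHM)
    · right
      obtain ⟨g, hgM, hg⟩ := SetLike.not_le_iff_exists.1 hle
      have hg' : g ∉ Cfsg.Geo.subspaceStabilizer W := fun h => hg ⟨h, hMK hgM⟩
      exact le_antisymm hMK (SL_le W M hHM g hgM hg')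

end Cfsg.Agent.Lib.Helper2.StabMax
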