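import Mathlib
import Cfsg.Agent.Lib.Helper2.Conj

set_option autoImplicit false
set_option linter.style.haveILetI false

namespace Cfsg.Agent.Lib.Helper2

open scoped Pointwise

universe u

/-- `N`-invariance is preserved by conjugation when `N` is normal. -/
theorem le_normalizer_conj_smul {H : Type*} [Group H] (N : Subgroup H) [N.Normal] (T : Subgroup H)
    (hT : N ≤ Subgroup.normalizer (T : Set H)) (g : H) :
    N ≤ Subgroup.normalizer ((MulAut.conj g • T : Subgroup H) : Set H) := by
  intro n hn
  rw [mem_normalizer_iff_conj_smul_eq]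
  have h1 : g⁻¹ * n * g ∈ N := by
    have := Subgroup.Normal.conj_mem (inferInstance : N.Normal) n hn g⁻¹
    simpa using this
  have h2 := (mem_normalizer_iff_conj_smul_eq T (g⁻¹ * n * g)).1 (hT h1)
  have h3 : MulAut.conj n * MulAut.conj g = MulAut.conj g * MulAut.conj (g⁻¹ * n * g) := by
    rw [← map_mul, ← map_mul]
    congr 1
    group
  rw [← mul_smul, h3, mul_smul, h2]

/-- minimality transfers to conjugates -/
theorem conj_smul_minimal {H : Type*} [Group H] (N : Subgroup H) [N.Normal] (S : Subgroup H)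
    (hSmin : ∀ Y : Subgroup H, Y ≤ S → N ≤ Subgroup.normalizer (Y : Set H) → Y = ⊥ ∨ Y = S)
    (g : H) (Y : Subgroup H) (hYX : Y ≤ MulAut.conj g • S)
    (hY : N ≤ Subgroup.normalizer (Y : Set H)) : Y = ⊥ ∨ Y = MulAut.conj g • S := by
  have h1 : (MulAut.conj g)⁻¹ • Y ≤ S := by
    rw [← Subgroup.pointwise_smul_le_pointwise_smul_iff (a := MulAut.conj g), smul_inv_smul]
    exact hYX
  have h2 : N ≤ Subgroup.normalizer (((MulAut.conj g)⁻¹ • Y : Subgroup H) : Set H) := by
    rw [← map_inv]
    exact le_normalizer_conj_smul N Y hY g⁻¹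
  rcases hSmin _ h1 h2 with h | h
  · left
    have := congrArg (fun Z => MulAut.conj g • Z) h
    simpa using this
  · right
    have := congrArg (fun Z => MulAut.conj g • Z) h
    simpa using this

theorem card_lt_of_lt_top {G : Type*} [Group G] [Finite G] {N : Subgroup G} (h : N < ⊤) :
    Nat.card N < Nat.card G := by
  by_contra hc
  push Not at hc
  exact h.ne (Subgroup.eq_top_of_le_card N hc)

/-- A minimal normal subgroup normalizes every subnormal subgroup (Wielandt). -/
theorem minNormal_le_normalizer_aux : ∀ (n : ℕ) (G : Type u) [Group G] [Finite G],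
    Nat.card G = n → ∀ (H M : Subgroup G), H.IsSubnormal → M.Normal → M ≠ ⊥ →
    (∀ L : Subgroup G, L.Normal → L ≤ M → L = ⊥ ∨ L = M) →
    M ≤ Subgroup.normalizer (H : Set G) := by
  intro n
  induction n using Nat.strong_induction_on with
  | _ n ih =>
  intro G _ _ hn H M hH hMn hM1 hMmin
  rcases hH.lt_normal with rfl | ⟨N, hNn, hHN, hNlt⟩
  · rw [Subgroup.normalizer_eq_top]; exact le_top
  haveI := hNn
  haveI := hMn
  rcases hMmin (M ⊓ N) inferInstance inf_le_left with h | h
  · have hdis : Disjoint M N := disjoint_iff.2 h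
    intro m hm
    rw [Subgroup.mem_normalizer_iff]
    intro x
    constructor
    · intro hx
      have := (Subgroup.commute_of_normal_of_disjoint M N hMn hNn hdis m x hm (hHN hx)).eq
      have e : m * x * m⁻¹ = x := by rw [this]; group
      rw [e]; exact hx
    · intro hx
      have hxN : x ∈ N := by
        have h1 : m * x * m⁻¹ ∈ N := hHN hx
        have h2 := hNn.conj_mem _ h1 m⁻¹
        have e : m⁻¹ * (m * x * m⁻¹) * m⁻¹⁻¹ = x := by group
        rwa [e] at h2
      have := (Subgroup.commute_of_normal_of_disjoint M N hMn hNn hdis m x hm hxN).eq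
      have e : m * x * m⁻¹ = x := by rw [this]; group
      rwa [e] at hx
  · have hMN : M ≤ N := by rw [← h]; exact inf_le_right
    let 𝒮 : Set (Subgroup G) := {X | X ≠ ⊥ ∧ X ≤ M ∧ N ≤ Subgroup.normalizer (X : Set G)}
    have h𝒮 : 𝒮.Nonempty := ⟨M, hM1, le_rfl, by rw [Subgroup.normalizer_eq_top]; exact le_top⟩
    obtain ⟨M₁, hM₁𝒮, hmin'⟩ := WellFounded.has_min (wellFounded_lt (α := Subgroup G)) 𝒮 h𝒮
    obtain ⟨hM₁1, hM₁M, hM₁inv⟩ := hM₁𝒮
    have hM₁min : ∀ Y : Subgroup G, Y ≤ M₁ → N ≤ Subgroup.normalizer (Y : Set G) →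
        Y = ⊥ ∨ Y = M₁ := by
      intro Y hYS hY
      by_cases hY1 : Y = ⊥
      · exact Or.inl hY1
      · right
        by_contra hne
        exact hmin' Y ⟨hY1, hYS.trans hM₁M, hY⟩ (lt_of_le_of_ne hYS hne)
    have hcard : Nat.card N < n := by rw [← hn]; exact card_lt_of_lt_top hNlt
    have hconj : ∀ g : G, MulAut.conj g • M₁ ≤ Subgroup.normalizer (H : Set G) := by
      intro g
      have hXM : MulAut.conj g • M₁ ≤ M := by
        intro x hx
        rw [mem_conj_smul_iff] at hx
        have h1 := hMn.conj_mem _ (hM₁M hx) g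
        have e : g * (g⁻¹ * x * g) * g⁻¹ = x := by group
        rwa [e] at h1
      have hXN : MulAut.conj g • M₁ ≤ N := hXM.trans hMN
      have hXinv : N ≤ Subgroup.normalizer ((MulAut.conj g • M₁ : Subgroup G) : Set G) :=
        le_normalizer_conj_smul N M₁ hM₁inv g
      have hX1 : MulAut.conj g • M₁ ≠ ⊥ := by
        intro h0
        apply hM₁1
        have := congrArg (fun Z => (MulAut.conj g)⁻¹ • Z) h0
        simpa using this
      have hXn : ((MulAut.conj g • M₁).subgroupOf N).Normal :=
        (Subgroup.normal_subgroupOf_iff_le_normalizer hXN).2 hXinv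
      have hX1' : (MulAut.conj g • M₁).subgroupOf N ≠ ⊥ := by
        intro h0
        rw [Subgroup.subgroupOf_eq_bot, disjoint_iff, inf_of_le_left hXN] at h0
        exact hX1 h0
      have hXmin' : ∀ L : Subgroup N, L.Normal → L ≤ (MulAut.conj g • M₁).subgroupOf N →
          L = ⊥ ∨ L = (MulAut.conj g • M₁).subgroupOf N := by
        intro L hLn hL
        have hLle : L.map N.subtype ≤ MulAut.conj g • M₁ := by
          rintro _ ⟨l, hl, rfl⟩
          exact hL hl
        have hLN : L.map N.subtype ≤ N := by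
          rintro _ ⟨l, _, rfl⟩
          exact l.2
        have hLinv : N ≤ Subgroup.normalizer ((L.map N.subtype : Subgroup G) : Set G) := by
          rw [← Subgroup.normal_subgroupOf_iff_le_normalizer hLN]
          have : (L.map N.subtype).subgroupOf N = L := by
            rw [Subgroup.subgroupOf, Subgroup.comap_map_eq_self_of_injective
              (Subgroup.subtype_injective N)]
          rw [this]; exact hLn
        rcases conj_smul_minimal N M₁ hM₁min g _ hLle hLinv with h0 | h0
        · left
          rwa [Subgroup.map_eq_bot_iff_of_injective _ (Subgroup.subtype_injective N)] at h0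
        · right
          rw [← h0, Subgroup.subgroupOf, Subgroup.comap_map_eq_self_of_injective
            (Subgroup.subtype_injective N)]
      have key := ih (Nat.card N) hcard N rfl (H.subgroupOf N) ((MulAut.conj g • M₁).subgroupOf N)
        hH.subgroupOf hXn hX1' hXmin'
      intro x hx
      have hx' : (⟨x, hXN hx⟩ : N) ∈ (MulAut.conj g • M₁).subgroupOf N := hx
      have := key hx'
      rw [← Subgroup.subgroupOf_normalizer_eq hHN] at this
      exact this
    have hJ : Subgroup.normalClosure (M₁ : Set G) = M := by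
      rcases hMmin (Subgroup.normalClosure (M₁ : Set G)) inferInstance
        (Subgroup.normalClosure_le_normal hM₁M) with h0 | h0
      · exfalso
        apply hM₁1
        apply le_bot_iff.1
        rw [← h0]
        exact Subgroup.subset_normalClosure
      · exact h0
    rw [← hJ, Subgroup.normalClosure, Subgroup.closure_le]
    intro x hx
    rw [Group.mem_conjugatesOfSet_iff] at hx
    obtain ⟨s, hs, hsx⟩ := hx
    rw [isConj_iff] at hsx
    obtain ⟨c, rfl⟩ := hsx
    apply hconj c
    rw [mem_conj_smul_iff]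
    have e5 : c⁻¹ * (c * s * c⁻¹) * c = s := by group
    rw [e5]; exact hs

theorem minNormal_le_normalizer {G : Type*} [Group G] [Finite G] (H M : Subgroup G)
    (hH : H.IsSubnormal) (hMn : M.Normal) (hM1 : M ≠ ⊥)
    (hMmin : ∀ L : Subgroup G, L.Normal → L ≤ M → L = ⊥ ∨ L = M) :
    M ≤ Subgroup.normalizer (H : Set G) :=
  minNormal_le_normalizer_aux _ G rfl H M hH hMn hM1 hMmin

/-- Wielandt: the join of two subnormal subgroups of a finite group is subnormal. -/
theorem isSubnormal_sup_aux : ∀ (n : ℕ) (G : Type u) [Group G] [Finite G],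
    Nat.card G = n → ∀ (A B : Subgroup G), A.IsSubnormal → B.IsSubnormal →
    (A ⊔ B).IsSubnormal := by
  intro n
  induction n using Nat.strong_induction_on with
  | _ n ih =>
  intro G _ _ hn A B hA hB
  by_cases htriv : (⊤ : Subgroup G) = ⊥
  · have : A ⊔ B = ⊤ := by
      rw [htriv]; exact le_bot_iff.1 (by rw [← htriv]; exact le_top)
    rw [this]; exact Subgroup.IsSubnormal.top
  -- minimal normal subgroup
  let 𝒮 : Set (Subgroup G) := {X | X.Normal ∧ X ≠ ⊥}
  have h𝒮 : 𝒮.Nonempty := ⟨⊤, inferInstance, htriv⟩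
  obtain ⟨M, ⟨hMn, hM1⟩, hmin'⟩ := WellFounded.has_min (wellFounded_lt (α := Subgroup G)) 𝒮 h𝒮
  have hMmin : ∀ L : Subgroup G, L.Normal → L ≤ M → L = ⊥ ∨ L = M := by
    intro L hLn hL
    by_cases hL1 : L = ⊥
    · exact Or.inl hL1
    · right
      by_contra hne
      exact hmin' L ⟨hLn, hL1⟩ (lt_of_le_of_ne hL hne)
  haveI := hMn
  have hcard : Nat.card (G ⧸ M) < n := by
    rw [← hn, Subgroup.card_eq_card_quotient_mul_card_subgroup M]
    have h1 : 1 < Nat.card M := (Subgroup.one_lt_card_iff_ne_bot M).2 hM1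
    have h2 : 0 < Nat.card (G ⧸ M) := Nat.card_pos
    nlinarith
  have key := ih (Nat.card (G ⧸ M)) hcard (G ⧸ M) rfl (A.map (QuotientGroup.mk' M))
    (B.map (QuotientGroup.mk' M)) (hA.map (QuotientGroup.mk'_surjective M))
    (hB.map (QuotientGroup.mk'_surjective M))
  rw [← Subgroup.map_sup] at key
  have key2 := key.comap (QuotientGroup.mk' M)
  rw [Subgroup.comap_map_eq, QuotientGroup.ker_mk'] at key2
  have hMA := minNormal_le_normalizer A M hA hMn hM1 hMmin
  have hMB := minNormal_le_normalizer B M hB hMn hM1 hMmin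
  have hle : (A ⊔ B) ⊔ M ≤ Subgroup.normalizer ((A ⊔ B : Subgroup G) : Set G) := by
    apply sup_le Subgroup.le_normalizer
    intro m hm
    have h1 := hMA hm
    have h2 := hMB hm
    rw [mem_normalizer_iff_conj_smul_eq] at h1 h2 ⊢
    rw [Subgroup.smul_sup, h1, h2]
  exact Subgroup.IsSubnormal.step _ _ le_sup_left key2
    (Subgroup.normal_subgroupOf_of_le_normalizer hle)

theorem isSubnormal_sup {G : Type*} [Group G] [Finite G] (A B : Subgroup G)
    (hA : A.IsSubnormal) (hB : B.IsSubnormal) : (A ⊔ B).IsSubnormal :=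
  isSubnormal_sup_aux _ G rfl A B hA hB

end Cfsg.Agent.Lib.Helper2
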