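import Mathlib
import Cfsg.Prelude.Def_SolvableStructure

set_option autoImplicit false
set_option linter.style.haveILetI false
open Pointwise

namespace Cfsg.Agent.Lib.Helper2

universe u

/-- Inductive form of supersolvable chains: `SSReach K` says that `K` is reachable from `⊥` by
steps adjoining one element, all terms being normal. -/
inductive SSReach {G : Type u} [Group G] : Subgroup G → Prop
  | bot : SSReach ⊥
  | step {K : Subgroup G} (g : G) : SSReach K → K.Normal → (K ⊔ Subgroup.zpowers g).Normal →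
      SSReach (K ⊔ Subgroup.zpowers g)

variable {G : Type u} [Group G]

theorem SSReach.normal {K : Subgroup G} (h : SSReach K) : K.Normal := by
  induction h with
  | bot => infer_instance
  | step g _ _ h2 _ => exact h2

/-- A chain ending at `K`. -/
def HasChainTo (K : Subgroup G) : Prop :=
  ∃ (n : ℕ) (H : Fin (n + 1) → Subgroup G),
    H 0 = ⊥ ∧ H (Fin.last n) = K ∧ (∀ i, (H i).Normal) ∧
      ∀ i : Fin n, ∃ g : G, H i.succ = H i.castSucc ⊔ Subgroup.zpowers g

theorem hasChainTo_of_ssReach {K : Subgroup G} (h : SSReach K) : HasChainTo K := by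
  induction h with
  | bot =>
    refine ⟨0, fun _ => ⊥, rfl, rfl, fun _ => inferInstance, fun i => i.elim0⟩
  | @step K g _ hKn hK'n ih =>
    obtain ⟨n, H, h0, hl, hn, hs⟩ := ih
    refine ⟨n + 1, Fin.snoc H (K ⊔ Subgroup.zpowers g), ?_, ?_, ?_, ?_⟩
    · have : (0 : Fin (n + 1 + 1)) = Fin.castSucc (0 : Fin (n + 1)) := rfl
      rw [this, Fin.snoc_castSucc]; exact h0
    · rw [Fin.snoc_last]
    · intro i
      refine Fin.lastCases ?_ (fun j => ?_) i
      · rw [Fin.snoc_last]; exact hK'n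
      · rw [Fin.snoc_castSucc]; exact hn j
    · intro i
      refine Fin.lastCases ?_ (fun j => ?_) i
      · refine ⟨g, ?_⟩
        have h1 : (Fin.last n).succ = Fin.last (n + 1) := rfl
        rw [h1, Fin.snoc_last, Fin.snoc_castSucc, hl]
      · obtain ⟨g', hg'⟩ := hs j
        refine ⟨g', ?_⟩
        have h1 : (Fin.castSucc j).succ = Fin.castSucc j.succ := rfl
        rw [h1, Fin.snoc_castSucc, Fin.snoc_castSucc]
        exact hg'

theorem ssReach_of_chain (n : ℕ) (H : Fin (n + 1) → Subgroup G) (h0 : H 0 = ⊥)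
    (hn : ∀ i, (H i).Normal)
    (hs : ∀ i : Fin n, ∃ g : G, H i.succ = H i.castSucc ⊔ Subgroup.zpowers g) :
    ∀ (k : ℕ) (hk : k < n + 1), SSReach (H ⟨k, hk⟩) := by
  intro k
  induction k with
  | zero =>
    intro hk
    have : (⟨0, hk⟩ : Fin (n + 1)) = 0 := rfl
    rw [this, h0]; exact SSReach.bot
  | succ k ih =>
    intro hk
    have hk' : k < n := by omega
    obtain ⟨g, hg⟩ := hs ⟨k, hk'⟩
    have h1 : (⟨k + 1, hk⟩ : Fin (n + 1)) = (⟨k, hk'⟩ : Fin n).succ := rfl
    have h2 : (⟨k, by omega⟩ : Fin (n + 1)) = (⟨k, hk'⟩ : Fin n).castSucc := rfl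
    rw [h1, hg]
    have ih' := ih (by omega)
    rw [h2] at ih'
    refine SSReach.step g ih' (hn _) ?_
    rw [← hg]; exact hn _

theorem isSupersolvable_iff_ssReach : Cfsg.IsSupersolvable G ↔ SSReach (⊤ : Subgroup G) := by
  constructor
  · rintro ⟨n, H, h0, hl, hn, hs⟩
    have := ssReach_of_chain n H h0 hn hs n (by omega)
    have h1 : (⟨n, by omega⟩ : Fin (n + 1)) = Fin.last n := rfl
    rw [h1, hl] at this
    exact this
  · intro h
    obtain ⟨n, H, h0, hl, hn, hs⟩ := hasChainTo_of_ssReach h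
    exact ⟨n, H, h0, hl, hn, hs⟩

end Cfsg.Agent.Lib.Helper2
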