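import Cfsg.Agent.Lib.Helper2.Supersolvable

set_option autoImplicit false
set_option linter.style.haveILetI false
open Pointwise

namespace Cfsg.Agent.Lib.Helper2

universe u v

variable {G : Type u} [Group G]

/-- Images under surjective homomorphisms. -/
theorem SSReach.map {G' : Type v} [Group G'] (f : G →* G') (hf : Function.Surjective f)
    {K : Subgroup G} (h : SSReach K) : SSReach (K.map f) := by
  induction h with
  | bot => rw [Subgroup.map_bot]; exact SSReach.bot
  | @step K g _ hKn hK'n ih =>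
    have h1 : (K ⊔ Subgroup.zpowers g).map f = K.map f ⊔ Subgroup.zpowers (f g) := by
      rw [Subgroup.map_sup, MonoidHom.map_zpowers]
    rw [h1]
    refine SSReach.step (f g) ih (hKn.map f hf) ?_
    rw [← h1]; exact hK'n.map f hf

/-- Key step for subgroups: if `K` is normal in `G`, `S` a subgroup, then
`(K ⊔ zpowers g) ⊓ S = (K ⊓ S) ⊔ zpowers s` for some `s ∈ S`. -/
theorem exists_gen_inf (K : Subgroup G) [K.Normal] (g : G) (S : Subgroup G) :
    ∃ s : G, s ∈ S ∧ s ∈ K ⊔ Subgroup.zpowers g ∧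
      ∀ x ∈ (K ⊔ Subgroup.zpowers g) ⊓ S, ∃ m : ℤ, x * (s ^ m)⁻¹ ∈ K := by
  let π := QuotientGroup.mk' K
  let T : Subgroup (G ⧸ K) := Subgroup.zpowers (π g) ⊓ S.map π
  have hTle : T ≤ Subgroup.zpowers (π g) := inf_le_left
  haveI : IsCyclic T := Subgroup.isCyclic_of_le hTle
  obtain ⟨t, ht⟩ := (T.isCyclic_iff_exists_zpowers_eq_top).1 inferInstance
  have htT : t ∈ T := by rw [← ht]; exact Subgroup.mem_zpowers t
  obtain ⟨s, hsS, hst⟩ := (Subgroup.mem_inf.1 htT).2
  have hmemL : ∀ x : G, x ∈ K ⊔ Subgroup.zpowers g ↔ π x ∈ Subgroup.zpowers (π g) := by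
    intro x
    have h1 : (Subgroup.zpowers (π g)).comap π = K ⊔ Subgroup.zpowers g := by
      rw [← MonoidHom.map_zpowers, Subgroup.comap_map_eq, QuotientGroup.ker_mk', sup_comm]
    rw [← h1, Subgroup.mem_comap]
  refine ⟨s, hsS, ?_, ?_⟩
  · rw [hmemL, hst]; exact (Subgroup.mem_inf.1 htT).1
  · intro x hx
    have hxT : π x ∈ T := by
      refine Subgroup.mem_inf.2 ⟨(hmemL x).1 hx.1, ⟨x, hx.2, rfl⟩⟩
    rw [← ht, Subgroup.mem_zpowers_iff] at hxT
    obtain ⟨m, hm⟩ := hxT
    refine ⟨m, ?_⟩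
    rw [← QuotientGroup.ker_mk' K, MonoidHom.mem_ker, map_mul, map_inv, map_zpow]
    change π x * (π s ^ m)⁻¹ = 1
    rw [hst, hm, mul_inv_cancel]

theorem SSReach.subgroupOf (S : Subgroup G) {K : Subgroup G} (h : SSReach K) :
    SSReach (K.subgroupOf S) := by
  induction h with
  | bot => rw [Subgroup.bot_subgroupOf]; exact SSReach.bot
  | @step K g _ hKn hK'n ih =>
    haveI := hKn
    obtain ⟨s, hsS, hsL, hx⟩ := exists_gen_inf K g S
    have h1 : (K ⊔ Subgroup.zpowers g).subgroupOf S =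
        K.subgroupOf S ⊔ Subgroup.zpowers (⟨s, hsS⟩ : S) := by
      apply le_antisymm
      · intro x hxL
        rw [Subgroup.mem_subgroupOf] at hxL
        obtain ⟨m, hm⟩ := hx (x : G) ⟨hxL, x.2⟩
        have : x = (x * ((⟨s, hsS⟩ : S) ^ m)⁻¹) * (⟨s, hsS⟩ : S) ^ m := by group
        rw [this]
        refine Subgroup.mul_mem_sup ?_ (Subgroup.zpow_mem_zpowers _ m)
        rw [Subgroup.mem_subgroupOf]
        simpa using hm
      · apply sup_le
        · intro x hxK
          rw [Subgroup.mem_subgroupOf] at hxK ⊢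
          exact (le_sup_left : K ≤ K ⊔ Subgroup.zpowers g) hxK
        · rw [Subgroup.zpowers_le, Subgroup.mem_subgroupOf]
          exact hsL
    rw [h1]
    refine SSReach.step _ ih (hKn.subgroupOf S) ?_
    rw [← h1]; exact hK'n.subgroupOf S

theorem isSupersolvable_subgroup (h : Cfsg.IsSupersolvable G) (S : Subgroup G) :
    Cfsg.IsSupersolvable S := by
  rw [isSupersolvable_iff_ssReach] at h ⊢
  have := h.subgroupOf S
  rwa [Subgroup.top_subgroupOf] at this

theorem isSupersolvable_of_surjective {G' : Type v} [Group G'] (f : G →* G')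
    (hf : Function.Surjective f) (h : Cfsg.IsSupersolvable G) : Cfsg.IsSupersolvable G' := by
  rw [isSupersolvable_iff_ssReach] at h ⊢
  have := h.map f hf
  rwa [Subgroup.map_top_of_surjective f hf] at this

end Cfsg.Agent.Lib.Helper2
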