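import Cfsg.Agent.Lib.Helper2.Supersolvable2

set_option autoImplicit false
set_option linter.style.haveILetI false
open Pointwise

namespace Cfsg.Agent.Lib.Helper2

universe u v

variable {G : Type u} [Group G] {H : Type v} [Group H]

theorem zpowers_prod_one (g : G) :
    Subgroup.zpowers ((g, 1) : G × H) = (Subgroup.zpowers g).prod ⊥ := by
  ext ⟨a, b⟩
  simp only [Subgroup.mem_zpowers_iff, Subgroup.mem_prod, Subgroup.mem_bot, Prod.pow_mk,
    Prod.mk.injEq]
  constructor
  · rintro ⟨k, hk1, hk2⟩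
    exact ⟨⟨k, by simpa using hk1⟩, by simpa using hk2.symm⟩
  · rintro ⟨⟨k, hk⟩, hb⟩
    exact ⟨k, by simpa using hk, by simp [hb]⟩

theorem zpowers_one_prod (h : H) :
    Subgroup.zpowers ((1, h) : G × H) = (⊥ : Subgroup G).prod (Subgroup.zpowers h) := by
  ext ⟨a, b⟩
  simp only [Subgroup.mem_zpowers_iff, Subgroup.mem_prod, Subgroup.mem_bot, Prod.pow_mk,
    Prod.mk.injEq]
  constructor
  · rintro ⟨k, hk1, hk2⟩
    exact ⟨by simpa using hk1.symm, ⟨k, by simpa using hk2⟩⟩
  · rintro ⟨ha, ⟨k, hk⟩⟩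
    exact ⟨k, by simp [ha], by simpa using hk⟩

theorem prod_sup_prod (A A' : Subgroup G) (B B' : Subgroup H) :
    A.prod B ⊔ A'.prod B' = (A ⊔ A').prod (B ⊔ B') := by
  apply le_antisymm
  · apply sup_le
    · exact Subgroup.prod_mono le_sup_left le_sup_left
    · exact Subgroup.prod_mono le_sup_right le_sup_right
  · rintro ⟨a, b⟩ ⟨ha, hb⟩
    have h1 : ((a, 1) : G × H) ∈ A.prod B ⊔ A'.prod B' := by
      have : (A ⊔ A').map (MonoidHom.inl G H) ≤ A.prod B ⊔ A'.prod B' := by
        rw [Subgroup.map_sup]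
        apply sup_le_sup
        · rintro _ ⟨x, hx, rfl⟩; exact ⟨hx, B.one_mem⟩
        · rintro _ ⟨x, hx, rfl⟩; exact ⟨hx, B'.one_mem⟩
      exact this ⟨a, ha, rfl⟩
    have h2 : ((1, b) : G × H) ∈ A.prod B ⊔ A'.prod B' := by
      have : (B ⊔ B').map (MonoidHom.inr G H) ≤ A.prod B ⊔ A'.prod B' := by
        rw [Subgroup.map_sup]
        apply sup_le_sup
        · rintro _ ⟨x, hx, rfl⟩; exact ⟨A.one_mem, hx⟩
        · rintro _ ⟨x, hx, rfl⟩; exact ⟨A'.one_mem, hx⟩
      exact this ⟨b, hb, rfl⟩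
    have : ((a, b) : G × H) = (a, 1) * (1, b) := by simp
    rw [this]
    exact Subgroup.mul_mem _ h1 h2

theorem SSReach.prod_bot {K : Subgroup G} (h : SSReach K) :
    SSReach (K.prod (⊥ : Subgroup H)) := by
  induction h with
  | bot =>
    have : (⊥ : Subgroup G).prod (⊥ : Subgroup H) = ⊥ := by
      ext ⟨a, b⟩; simp [Subgroup.mem_prod, Prod.ext_iff]
    rw [this]; exact SSReach.bot
  | @step K g _ hKn hK'n ih =>
    have h1 : (K ⊔ Subgroup.zpowers g).prod (⊥ : Subgroup H) =
        K.prod ⊥ ⊔ Subgroup.zpowers ((g, 1) : G × H) := by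
      rw [zpowers_prod_one, prod_sup_prod, sup_idem]
    rw [h1]
    haveI := hKn
    haveI := hK'n
    refine SSReach.step _ ih inferInstance ?_
    rw [← h1]; infer_instance

theorem SSReach.top_prod {L : Subgroup H} (h : SSReach L)
    (hG : SSReach (⊤ : Subgroup G)) : SSReach ((⊤ : Subgroup G).prod L) := by
  induction h with
  | bot => exact hG.prod_bot
  | @step L g _ hLn hL'n ih =>
    have h1 : (⊤ : Subgroup G).prod (L ⊔ Subgroup.zpowers g) =
        (⊤ : Subgroup G).prod L ⊔ Subgroup.zpowers ((1, g) : G × H) := by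
      rw [zpowers_one_prod, prod_sup_prod, sup_bot_eq]
    rw [h1]
    haveI := hLn
    haveI := hL'n
    refine SSReach.step _ ih inferInstance ?_
    rw [← h1]; infer_instance

theorem isSupersolvable_prod (hG : Cfsg.IsSupersolvable G) (hH : Cfsg.IsSupersolvable H) :
    Cfsg.IsSupersolvable (G × H) := by
  rw [isSupersolvable_iff_ssReach] at hG hH ⊢
  have := hH.top_prod hG
  rwa [Subgroup.top_prod_top] at this

/-- Pulling back along a surjection with cyclic kernel. -/
theorem SSReach.comap_of_cyclic_ker {G' : Type v} [Group G'] (f : G →* G')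
    (hf : Function.Surjective f) (g0 : G) (hker : f.ker = Subgroup.zpowers g0)
    {K : Subgroup G'} (h : SSReach K) : SSReach (K.comap f) := by
  induction h with
  | bot =>
    have : (⊥ : Subgroup G').comap f = ⊥ ⊔ Subgroup.zpowers g0 := by
      rw [bot_sup_eq, ← hker]; rfl
    rw [this]
    refine SSReach.step g0 SSReach.bot inferInstance ?_
    rw [bot_sup_eq, ← hker]; infer_instance
  | @step K g _ hKn hK'n ih =>
    obtain ⟨x, rfl⟩ := hf g
    have h1 : (K ⊔ Subgroup.zpowers (f x)).comap f = K.comap f ⊔ Subgroup.zpowers x := by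
      rw [← Subgroup.comap_sup_eq f K _ hf, ← MonoidHom.map_zpowers, Subgroup.comap_map_eq]
      have : f.ker ≤ K.comap f := by
        intro y hy
        rw [Subgroup.mem_comap, MonoidHom.mem_ker.1 hy]
        exact K.one_mem
      apply le_antisymm
      · exact sup_le le_sup_left (sup_le le_sup_right (this.trans le_sup_left))
      · exact sup_le_sup le_rfl le_sup_left
    rw [h1]
    refine SSReach.step x ih (hKn.comap f) ?_
    rw [← h1]; exact hK'n.comap f

end Cfsg.Agent.Lib.Helper2
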