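import Cfsg.Agent.Lib.Helper2.Supersolvable3

set_option autoImplicit false
set_option linter.style.haveILetI false

namespace Cfsg.Agent.Lib.Helper2

universe u v

variable {G : Type u} [Group G]

/-- A nontrivial cyclic normal subgroup of a finite group contains a normal subgroup of prime
order. -/
theorem exists_normal_prime_le_zpowers [Finite G] (g : G) (hn : (Subgroup.zpowers g).Normal)
    (hg : g ≠ 1) :
    ∃ N : Subgroup G, N ≤ Subgroup.zpowers g ∧ N.Normal ∧ (Nat.card N).Prime := by
  have ho : orderOf g ≠ 1 := fun h => hg (orderOf_eq_one_iff.1 h)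
  have ho0 : orderOf g ≠ 0 := (orderOf_pos g).ne'
  set p := (orderOf g).minFac with hp
  have hpp : p.Prime := Nat.minFac_prime ho
  have hpd : p ∣ orderOf g := Nat.minFac_dvd _
  set m := orderOf g / p with hm
  set h := g ^ m with hh
  have hoh : orderOf h = p := orderOf_pow_orderOf_div ho0 hpd
  refine ⟨Subgroup.zpowers h, ?_, ?_, ?_⟩
  · rw [Subgroup.zpowers_le]
    exact Subgroup.pow_mem _ (Subgroup.mem_zpowers g) m
  · constructor
    intro y hy x
    obtain ⟨j, rfl⟩ := Subgroup.mem_zpowers_iff.1 hy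
    have h1 : x * g * x⁻¹ ∈ Subgroup.zpowers g := hn.conj_mem g (Subgroup.mem_zpowers g) x
    obtain ⟨k, hk⟩ := Subgroup.mem_zpowers_iff.1 h1
    have h2 : x * h * x⁻¹ = h ^ k := by
      have : x * h * x⁻¹ = (x * g * x⁻¹) ^ m := by
        rw [hh, conj_pow]
      rw [this, ← hk, hh, ← zpow_natCast, ← zpow_natCast, ← zpow_mul, ← zpow_mul, mul_comm]
    have h3 : x * h ^ j * x⁻¹ = (x * h * x⁻¹) ^ j := by
      rw [conj_zpow]
    rw [h3, h2]
    exact Subgroup.zpow_mem _ (Subgroup.zpow_mem _ (Subgroup.mem_zpowers h) k) j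
  · rw [Nat.card_zpowers, hoh]; exact hpp

/-- In a finite group, if `K` is reachable by a supersolvable chain and `M` is normal with
`K ⊓ M ≠ ⊥`, then `K ⊓ M` contains a normal subgroup of prime order. -/
theorem SSReach.exists_normal_prime_inf [Finite G] (M : Subgroup G) [hM : M.Normal]
    {K : Subgroup G} (h : SSReach K) (hne : K ⊓ M ≠ ⊥) :
    ∃ N : Subgroup G, N ≤ K ⊓ M ∧ N.Normal ∧ (Nat.card N).Prime := by
  induction h with
  | bot => exact absurd (bot_inf_eq M) hne
  | @step K g hK hKn hK'n ih =>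
    by_cases hKM : K ⊓ M = ⊥
    · haveI := hKn
      obtain ⟨s, hsM, hsK', hx⟩ := exists_gen_inf K g M
      have heq : (K ⊔ Subgroup.zpowers g) ⊓ M = Subgroup.zpowers s := by
        apply le_antisymm
        · intro x hxm
          obtain ⟨m, hm⟩ := hx x hxm
          have hxM : x * (s ^ m)⁻¹ ∈ M :=
            M.mul_mem hxm.2 (M.inv_mem (M.zpow_mem hsM m))
          have : x * (s ^ m)⁻¹ ∈ K ⊓ M := ⟨hm, hxM⟩
          rw [hKM, Subgroup.mem_bot] at this
          rw [Subgroup.mem_zpowers_iff]
          exact ⟨m, (mul_inv_eq_one.1 this).symm⟩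
        · rw [Subgroup.zpowers_le]
          exact ⟨hsK', hsM⟩
      have hs1 : s ≠ 1 := by
        rintro rfl
        apply hne
        rw [heq, Subgroup.zpowers_one_eq_bot]
      have hnorm : (Subgroup.zpowers s).Normal := by
        rw [← heq]
        haveI := hK'n
        infer_instance
      obtain ⟨N, hN1, hN2, hN3⟩ := exists_normal_prime_le_zpowers s hnorm hs1
      exact ⟨N, by rw [heq]; exact hN1, hN2, hN3⟩
    · obtain ⟨N, hN1, hN2, hN3⟩ := ih hKM
      exact ⟨N, hN1.trans (inf_le_inf_right M le_sup_left), hN2, hN3⟩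

/-- A nontrivial normal subgroup of a finite supersolvable group contains a normal subgroup
(of the whole group) of prime order. -/
theorem exists_normal_prime_le_of_isSupersolvable [Finite G] (hG : Cfsg.IsSupersolvable G)
    (M : Subgroup G) [M.Normal] (hM : M ≠ ⊥) :
    ∃ N : Subgroup G, N ≤ M ∧ N.Normal ∧ (Nat.card N).Prime := by
  rw [isSupersolvable_iff_ssReach] at hG
  obtain ⟨N, hN1, hN2, hN3⟩ := hG.exists_normal_prime_inf M (by rwa [top_inf_eq])
  exact ⟨N, by rwa [top_inf_eq] at hN1, hN2, hN3⟩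

/-- A nontrivial finite supersolvable group has a normal subgroup of prime order. -/
theorem exists_normal_prime_of_isSupersolvable [Finite G] [Nontrivial G]
    (hG : Cfsg.IsSupersolvable G) :
    ∃ N : Subgroup G, N.Normal ∧ (Nat.card N).Prime := by
  obtain ⟨N, -, hN2, hN3⟩ := exists_normal_prime_le_of_isSupersolvable hG ⊤ top_ne_bot
  exact ⟨N, hN2, hN3⟩

/-- Quotients of supersolvable groups are supersolvable. -/
theorem isSupersolvable_quotient (hG : Cfsg.IsSupersolvable G) (N : Subgroup G) [N.Normal] :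
    Cfsg.IsSupersolvable (G ⧸ N) :=
  isSupersolvable_of_surjective (QuotientGroup.mk' N) (QuotientGroup.mk'_surjective N) hG

end Cfsg.Agent.Lib.Helper2
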