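import Cfsg.Agent.Lib.Helper2.Supersolvable4

set_option autoImplicit false
set_option linter.style.haveILetI false

namespace Cfsg.Agent.Lib.Helper2

universe u v

variable {G : Type u} [Group G]

theorem isSupersolvable_of_subsingleton [Subsingleton G] : Cfsg.IsSupersolvable G := by
  rw [isSupersolvable_iff_ssReach, Subsingleton.elim (⊤ : Subgroup G) ⊥]
  exact SSReach.bot

/-- If the quotient by a cyclic normal subgroup is supersolvable, so is the group. -/
theorem isSupersolvable_of_quotient_zpowers (c : G) [hn : (Subgroup.zpowers c).Normal]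
    (h : Cfsg.IsSupersolvable (G ⧸ Subgroup.zpowers c)) : Cfsg.IsSupersolvable G := by
  rw [isSupersolvable_iff_ssReach] at h ⊢
  have := h.comap_of_cyclic_ker (QuotientGroup.mk' (Subgroup.zpowers c))
    (QuotientGroup.mk'_surjective _) c (QuotientGroup.ker_mk' _)
  rwa [Subgroup.comap_top] at this

theorem zpowers_normal_of_mem_center {z : G} (hz : z ∈ Subgroup.center G) :
    (Subgroup.zpowers z).Normal := by
  constructor
  intro x hx g
  have : x ∈ Subgroup.center G := by
    have h1 : Subgroup.zpowers z ≤ Subgroup.center G := by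
      rw [Subgroup.zpowers_le]; exact hz
    exact h1 hx
  rw [Subgroup.mem_center_iff] at this
  rw [this g, mul_inv_cancel_right]
  exact hx

theorem card_quotient_lt_of_ne_bot [Finite G] (N : Subgroup G) [N.Normal] (hN : N ≠ ⊥) :
    Nat.card (G ⧸ N) < Nat.card G := by
  rw [Subgroup.card_eq_card_quotient_mul_card_subgroup N]
  have h2 : 0 < Nat.card (G ⧸ N) := Nat.card_pos
  have h3 : 1 < Nat.card N := by
    rw [Nat.one_lt_iff_ne_zero_and_ne_one]
    refine ⟨Nat.card_pos.ne', ?_⟩
    intro h; exact hN (Subgroup.card_eq_one.1 h)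
  nlinarith

theorem isSupersolvable_of_isPGroup_aux (p : ℕ) [Fact p.Prime] (n : ℕ) :
    ∀ (G : Type u) [Group G] [Finite G], Nat.card G = n → IsPGroup p G →
    Cfsg.IsSupersolvable G := by
  induction n using Nat.strong_induction_on with
  | _ n ih =>
    intro G _ _ hn hG
    rcases subsingleton_or_nontrivial G with hsub | hnt
    · exact isSupersolvable_of_subsingleton
    · haveI := hG.center_nontrivial
      obtain ⟨z, hz⟩ := exists_ne (1 : Subgroup.center G)
      have hzc : (z : G) ∈ Subgroup.center G := z.2
      haveI hnorm := zpowers_normal_of_mem_center hzc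
      have hne : Subgroup.zpowers (z : G) ≠ ⊥ := by
        intro h
        rw [Subgroup.zpowers_eq_bot] at h
        exact hz (Subtype.ext h)
      have hlt := card_quotient_lt_of_ne_bot (Subgroup.zpowers (z : G)) hne
      rw [hn] at hlt
      have := ih _ hlt (G ⧸ Subgroup.zpowers (z : G)) rfl (hG.to_quotient _)
      exact isSupersolvable_of_quotient_zpowers (z : G) this

/-- Finite `p`-groups are supersolvable. -/
theorem isSupersolvable_of_isPGroup (p : ℕ) [Fact p.Prime] [Finite G] (hG : IsPGroup p G) :
    Cfsg.IsSupersolvable G :=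
  isSupersolvable_of_isPGroup_aux p _ G rfl hG

end Cfsg.Agent.Lib.Helper2
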