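import Mathlib
import Cfsg.Agent.Lib.Helper2.PrimeSylow

set_option autoImplicit false
set_option linter.style.haveILetI false

namespace Cfsg.Agent.Lib.Helper2

open Equiv

variable {α : Type*} [Fintype α] [DecidableEq α]

/-- the `p`-part of `n!` for `p ≤ n < p²`... here only `n = p` or `p + 1`. -/
theorem factorization_factorial_prime (p n : ℕ) [Fact p.Prime] (hn : n = p ∨ n = p + 1) :
    (n.factorial).factorization p = 1 := by
  have hp : p.Prime := Fact.out
  have h2 : 2 ≤ p := hp.two_le
  have hnpos : n ≠ 0 := by rcases hn with rfl | rfl <;> omega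
  have hlt : n < p ^ 2 := by
    have : p + 1 < p ^ 2 := by nlinarith
    rcases hn with rfl | rfl <;> omega
  rw [Nat.factorization_def _ hp, padicValNat_factorial (Nat.log_lt_of_lt_pow hnpos hlt)]
  have : Finset.Ico 1 2 = {1} := by decide
  rw [this, Finset.sum_singleton, pow_one]
  rcases hn with rfl | rfl
  · exact Nat.div_self hp.pos
  · rw [Nat.add_div_left _ hp.pos, Nat.div_eq_of_lt (by omega)]

theorem card_sylow_perm (p : ℕ) [Fact p.Prime]
    (hα : Fintype.card α = p ∨ Fintype.card α = p + 1) (Q : Sylow p (Perm α)) :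
    Nat.card (Q : Subgroup (Perm α)) = p := by
  rw [Q.card_eq_multiplicity, Nat.card_eq_fintype_card, Fintype.card_perm,
    factorization_factorial_prime p _ hα, pow_one]

theorem orderOf_eq_prime_iff_cycleType (p : ℕ) [Fact p.Prime]
    (hα : Fintype.card α = p ∨ Fintype.card α = p + 1) (g : Perm α) :
    orderOf g = p ↔ g.cycleType = {p} := by
  have hp : p.Prime := Fact.out
  constructor
  · intro hg
    obtain ⟨k, hk⟩ := Equiv.Perm.cycleType_prime_order (σ := g) (by rw [hg]; exact hp)
    rw [hg] at hk
    have hsum : g.cycleType.sum ≤ Fintype.card α := by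
      rw [Equiv.Perm.sum_cycleType]; exact Finset.card_le_univ _
    rw [hk, Multiset.sum_replicate, smul_eq_mul] at hsum
    have hk0 : k = 0 := by
      by_contra hne
      have h2 : 2 ≤ k + 1 := by omega
      have : 2 * p ≤ (k + 1) * p := Nat.mul_le_mul_right p h2
      have h2p : 2 ≤ p := hp.two_le
      rcases hα with h | h <;> omega
    rw [hk, hk0]
    rfl
  · intro hg
    rw [← Equiv.Perm.lcm_cycleType, hg, Multiset.lcm_singleton]
    simp

theorem card_orderOf_eq_prime_perm (p : ℕ) [Fact p.Prime]
    (hα : Fintype.card α = p ∨ Fintype.card α = p + 1) :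
    Nat.card {g : Perm α // orderOf g = p} = (p - 1).factorial * (Fintype.card α).choose p := by
  have hp : p.Prime := Fact.out
  have hle : p ≤ Fintype.card α := by rcases hα with h | h <;> omega
  rw [← Equiv.Perm.card_of_cycleType_singleton hp.two_le hle, Nat.card_eq_fintype_card,
    Fintype.card_subtype]
  congr 1
  ext g
  simp only [Finset.mem_filter, Finset.mem_univ, true_and]
  exact orderOf_eq_prime_iff_cycleType p hα g

/-- In `Sym(p)` or `Sym(p+1)` a Sylow `p`-normaliser has order `p (p - 1)`. -/
theorem card_normalizer_sylow_perm (p : ℕ) [Fact p.Prime]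
    (hα : Fintype.card α = p ∨ Fintype.card α = p + 1) (P : Sylow p (Perm α)) :
    Nat.card (Subgroup.normalizer ((P : Subgroup (Perm α)) : Set (Perm α))) = p * (p - 1) := by
  have hp : p.Prime := Fact.out
  set N := Subgroup.normalizer ((P : Subgroup (Perm α)) : Set (Perm α)) with hN
  have h1 := card_orderOf_eq_prime (G := Perm α) (p := p) (card_sylow_perm p hα)
  rw [card_orderOf_eq_prime_perm p hα] at h1
  have h2 : Nat.card N * Nat.card (Sylow p (Perm α)) = (Fintype.card α).factorial := by
    have h3 : Nat.card (Sylow p (Perm α)) = N.index := Sylow.card_eq_index_normalizer P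
    rw [h3, Subgroup.card_mul_index, Nat.card_eq_fintype_card, Fintype.card_perm]
  have hfpos : 0 < (p - 1).factorial := Nat.factorial_pos _
  have hpfac : p.factorial = p * (p - 1).factorial := by
    obtain ⟨k, rfl⟩ : ∃ k, p = k + 1 := ⟨p - 1, by have := hp.pos; omega⟩
    simp [Nat.factorial_succ]
  have key : Nat.card N * ((p - 1).factorial * (Fintype.card α).choose p) =
      (Fintype.card α).factorial * (p - 1) := by
    rw [h1, ← mul_assoc, h2]
  rcases hα with h | h
  · rw [h, Nat.choose_self, mul_one, hpfac] at key
    have : Nat.card N * (p - 1).factorial = (p * (p - 1)) * (p - 1).factorial := by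
      rw [key]; ring
    exact Nat.eq_of_mul_eq_mul_right hfpos this
  · rw [h, Nat.choose_succ_self_right, Nat.factorial_succ, hpfac] at key
    have hpos : 0 < (p - 1).factorial * (p + 1) := Nat.mul_pos hfpos (by omega)
    have : Nat.card N * ((p - 1).factorial * (p + 1)) = (p * (p - 1)) * ((p - 1).factorial * (p + 1)) := by
      rw [key]; ring
    exact Nat.eq_of_mul_eq_mul_right hpos this

end Cfsg.Agent.Lib.Helper2
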