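import Mathlib

set_option autoImplicit false

namespace Cfsg.Agent.Lib.Helper2

/-- A permutation commuting with a transitive set of permutations and fixing a point is trivial. -/
theorem perm_eq_one_of_commute_of_fixed {α : Type*} {X : Set (Equiv.Perm α)}
    (hX : ∀ a b : α, ∃ x ∈ X, x a = b) (c : Equiv.Perm α) (hc : ∀ x ∈ X, x * c = c * x)
    (a : α) (hca : c a = a) : c = 1 := by
  ext b
  obtain ⟨x, hx, rfl⟩ := hX a b
  have h1 : (c * x) a = (x * c) a := by rw [hc x hx]
  simp only [Equiv.Perm.coe_mul, Function.comp_apply, hca] at h1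
  simpa using h1

/-- Two permutations commuting with a transitive set and agreeing at a point are equal. -/
theorem perm_eq_of_commute_of_apply_eq {α : Type*} {X : Set (Equiv.Perm α)}
    (hX : ∀ a b : α, ∃ x ∈ X, x a = b) (c d : Equiv.Perm α) (hc : ∀ x ∈ X, x * c = c * x)
    (hd : ∀ x ∈ X, x * d = d * x) (a : α) (h : c a = d a) : c = d := by
  have h1 : d⁻¹ * c = 1 := by
    apply perm_eq_one_of_commute_of_fixed hX (d⁻¹ * c) _ a
    · simp [h]
    · intro x hx
      have hdx : x * d⁻¹ = d⁻¹ * x := by
        have := hd x hx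
        calc x * d⁻¹ = d⁻¹ * (d * x) * d⁻¹ := by group
          _ = d⁻¹ * (x * d) * d⁻¹ := by rw [this]
          _ = d⁻¹ * x := by group
      calc x * (d⁻¹ * c) = (x * d⁻¹) * c := by group
        _ = d⁻¹ * (x * c) := by rw [hdx]; group
        _ = d⁻¹ * c * x := by rw [hc x hx]; group
  calc c = d * (d⁻¹ * c) := by group
    _ = d := by rw [h1, mul_one]

end Cfsg.Agent.Lib.Helper2
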