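import Mathlib

set_option autoImplicit false

namespace Cfsg.Agent.Lib.Helper2.Zsig

open Polynomial

/-- value of the cyclotomic polynomial at a natural number -/
noncomputable def cyc (n a : ℕ) : ℤ := (cyclotomic n ℤ).eval (a : ℤ)

theorem cyc_dvd (n a : ℕ) : cyc n a ∣ (a : ℤ) ^ n - 1 := by
  have h := eval_dvd (x := (a : ℤ)) (cyclotomic.dvd_X_pow_sub_one n ℤ)
  simpa [cyc] using h

theorem cyc_dvd_geom {m r a : ℕ} (ha : 2 ≤ a) (hm : 0 < m) (hr : 2 ≤ r) :
    cyc (m * r) a ∣ ∑ i ∈ Finset.range r, ((a : ℤ) ^ m) ^ i := by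
  have hmem : m ∈ (m * r).properDivisors := by
    rw [Nat.mem_properDivisors]
    refine ⟨Dvd.intro _ rfl, ?_⟩
    nlinarith
  have h := eval_dvd (x := (a : ℤ))
    (X_pow_sub_one_mul_cyclotomic_dvd_X_pow_sub_one_of_dvd ℤ hmem)
  simp only [eval_mul, eval_sub, eval_pow, eval_X, eval_one] at h
  have h0 : (a : ℤ) ^ m - 1 ≠ 0 := by
    have : (2 : ℤ) ≤ (a : ℤ) ^ m := by
      have h1 : (2 : ℤ) ≤ (a : ℤ) := by exact_mod_cast ha
      calc (2 : ℤ) ≤ (a : ℤ) := h1
        _ = (a : ℤ) ^ 1 := (pow_one _).symm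
        _ ≤ (a : ℤ) ^ m := pow_le_pow_right₀ (by linarith) hm
    linarith
  have hgs : ((a : ℤ) ^ m - 1) * ∑ i ∈ Finset.range r, ((a : ℤ) ^ m) ^ i
      = (a : ℤ) ^ (m * r) - 1 := by
    rw [mul_geom_sum, ← pow_mul]
  rw [← hgs] at h
  exact (mul_dvd_mul_iff_left h0).1 h

theorem cyc_zmod {s : ℕ} [Fact s.Prime] {n a : ℕ} (h : (s : ℤ) ∣ cyc n a) :
    (cyclotomic n (ZMod s)).IsRoot (a : ZMod s) := by
  have h1 := eval_intCast_map (Int.castRingHom (ZMod s)) (cyclotomic n ℤ) (a : ℤ)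
  rw [map_cyclotomic] at h1
  have h2 : ((cyc n a : ℤ) : ZMod s) = 0 := (ZMod.intCast_zmod_eq_zero_iff_dvd _ _).2 h
  rw [IsRoot.def]
  have h3 : (((a : ℤ) : ZMod s)) = (a : ZMod s) := Int.cast_natCast a
  rw [h3] at h1
  rw [h1]
  simpa [cyc] using h2

theorem pow_eq_one_zmod {s : ℕ} [Fact s.Prime] {n a : ℕ} (h : (s : ℤ) ∣ cyc n a) :
    (a : ZMod s) ^ n = 1 := by
  have h1 : (s : ℤ) ∣ (a : ℤ) ^ n - 1 := h.trans (cyc_dvd n a)
  have h2 : (((a : ℤ) ^ n - 1 : ℤ) : ZMod s) = 0 := (ZMod.intCast_zmod_eq_zero_iff_dvd _ _).2 h1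
  push_cast at h2
  exact sub_eq_zero.1 h2

theorem dvd_of_not_primitive {s n a k : ℕ} (hs : s.Prime) (ha : 1 ≤ a) (h : (s : ℤ) ∣ cyc n a)
    (hk0 : 0 < k) (hkn : k < n) (hk : s ∣ a ^ k - 1) : s ∣ n := by
  by_contra hsn
  haveI : Fact s.Prime := ⟨hs⟩
  haveI : NeZero ((n : ℕ) : ZMod s) := ⟨fun h0 => hsn ((ZMod.natCast_eq_zero_iff n s).1 h0)⟩
  have prim : IsPrimitiveRoot (a : ZMod s) n := isRoot_cyclotomic_iff.1 (cyc_zmod h)
  have h1 : (a : ZMod s) ^ k = 1 := by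
    have h2 := (ZMod.natCast_eq_zero_iff (a ^ k - 1) s).2 hk
    rw [Nat.cast_sub (Nat.one_le_pow _ _ ha), Nat.cast_pow, Nat.cast_one, sub_eq_zero] at h2
    exact h2
  have h3 := (prim.pow_eq_one_iff_dvd k).1 h1
  exact absurd (Nat.le_of_dvd hk0 h3) (not_le.2 hkn)

theorem prime_le_of_dvd {s r n a : ℕ} (hs : s.Prime) (ha : 2 ≤ a) (h : (s : ℤ) ∣ cyc n a)
    (hn : 0 < n) (hr : r.Prime) (hrn : r ∣ n) : r ≤ s := by
  by_contra hlt
  push Not at hlt
  haveI : Fact s.Prime := ⟨hs⟩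
  obtain ⟨m, rfl⟩ := hrn
  have hm : 0 < m := Nat.pos_of_ne_zero (by rintro rfl; simp at hn)
  have hxn : (a : ZMod s) ^ (r * m) = 1 := pow_eq_one_zmod h
  have hx0 : (a : ZMod s) ≠ 0 := by
    intro h0
    rw [h0, zero_pow (by omega)] at hxn
    exact zero_ne_one hxn
  have hxs : (a : ZMod s) ^ (s - 1) = 1 := ZMod.pow_card_sub_one_eq_one hx0
  have hg : (a : ZMod s) ^ (Nat.gcd (r * m) (s - 1)) = 1 := pow_gcd_eq_one.2 ⟨hxn, hxs⟩
  have hs1 : 0 < s - 1 := by have := hs.two_le; omega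
  have hgpos : 0 < Nat.gcd (r * m) (s - 1) := Nat.gcd_pos_of_pos_right _ hs1
  have hgle : Nat.gcd (r * m) (s - 1) ≤ s - 1 := Nat.le_of_dvd hs1 (Nat.gcd_dvd_right _ _)
  have hcop : Nat.Coprime (Nat.gcd (r * m) (s - 1)) r := by
    rw [Nat.coprime_comm]
    apply (Nat.Prime.coprime_iff_not_dvd hr).2
    intro hd
    have := Nat.le_of_dvd hgpos hd
    omega
  have hgm : Nat.gcd (r * m) (s - 1) ∣ m := by
    apply hcop.dvd_of_dvd_mul_left
    rw [mul_comm]
    exact Nat.gcd_dvd_left _ _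
  have hxm : (a : ZMod s) ^ m = 1 := by
    obtain ⟨c, hc⟩ := hgm
    rw [hc, pow_mul, hg, one_pow]
  have hdvd : cyc (m * r) a ∣ ∑ i ∈ Finset.range r, ((a : ℤ) ^ m) ^ i :=
    cyc_dvd_geom ha hm hr.two_le
  rw [mul_comm r m] at h
  have h1 : (s : ℤ) ∣ ∑ i ∈ Finset.range r, ((a : ℤ) ^ m) ^ i := h.trans hdvd
  have h2 : ((∑ i ∈ Finset.range r, ((a : ℤ) ^ m) ^ i : ℤ) : ZMod s) = 0 :=
    (ZMod.intCast_zmod_eq_zero_iff_dvd _ _).2 h1
  push_cast at h2
  rw [hxm] at h2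
  simp at h2
  have h3 : s ∣ r := (ZMod.natCast_eq_zero_iff r s).1 h2
  have := (Nat.prime_dvd_prime_iff_eq hs hr).1 h3
  omega

theorem not_sq_dvd_odd {P n a : ℕ} (hP : P.Prime) (hodd : P ≠ 2) (ha : 2 ≤ a) (hn : 0 < n)
    (hPn : P ∣ n) (h : (P : ℤ) ∣ cyc n a) : ¬ ((P : ℤ) ^ 2 ∣ cyc n a) := by
  intro hsq
  haveI : Fact P.Prime := ⟨hP⟩
  obtain ⟨m, rfl⟩ := hPn
  have hm : 0 < m := Nat.pos_of_ne_zero (by rintro rfl; simp at hn)
  obtain ⟨b, hb⟩ : ∃ b : ℕ, b = a ^ m := ⟨_, rfl⟩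
  have hb2 : 2 ≤ b := by
    rw [hb]
    calc 2 ≤ a := ha
      _ = a ^ 1 := (pow_one a).symm
      _ ≤ a ^ m := Nat.pow_le_pow_right (by omega) hm
  have hxn : (a : ZMod P) ^ (P * m) = 1 := pow_eq_one_zmod h
  have hxm : (a : ZMod P) ^ m = 1 := by
    rw [mul_comm, pow_mul, ZMod.pow_card] at hxn
    exact hxn
  have hPb : P ∣ b - 1 := by
    apply (ZMod.natCast_eq_zero_iff (b - 1) P).1
    rw [Nat.cast_sub (by omega), hb, Nat.cast_pow, hxm, Nat.cast_one, sub_self]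
  have hPb' : ¬ P ∣ b := by
    intro hd
    have h1 : P ∣ (b - 1) + 1 := by rwa [Nat.sub_add_cancel (by omega)]
    have h2 : P ∣ 1 := (Nat.dvd_add_right hPb).1 h1
    exact hP.one_lt.ne' (Nat.dvd_one.1 h2)
  have hlte := padicValNat.pow_sub_pow (p := P) (x := b) (y := 1)
    (hP.eq_two_or_odd'.resolve_left hodd) (by omega) hPb hPb' (n := P) hP.ne_zero
  rw [one_pow, padicValNat_self] at hlte
  have hbP : 1 ≤ b ^ P := Nat.one_le_pow _ _ (by omega)
  have hS : (b - 1) * ∑ i ∈ Finset.range P, b ^ i = b ^ P - 1 := by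
    have h := mul_geom_sum (b : ℤ) P
    have : (((b - 1) * ∑ i ∈ Finset.range P, b ^ i : ℕ) : ℤ) = ((b ^ P - 1 : ℕ) : ℤ) := by
      rw [Nat.cast_mul, Nat.cast_sub (by omega : 1 ≤ b), Nat.cast_sub hbP]
      push_cast
      exact h
    exact_mod_cast this
  have hb10 : b - 1 ≠ 0 := by omega
  have hS0 : ∑ i ∈ Finset.range P, b ^ i ≠ 0 := by
    intro h0
    rw [h0, mul_zero] at hS
    have : 2 ≤ b ^ P := le_trans hb2 (Nat.le_self_pow hP.ne_zero b)
    omega
  rw [← hS, padicValNat.mul hb10 hS0] at hlte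
  have hv : padicValNat P (∑ i ∈ Finset.range P, b ^ i) = 1 := by omega
  have hdvd : cyc (m * P) a ∣ ∑ i ∈ Finset.range P, ((a : ℤ) ^ m) ^ i :=
    cyc_dvd_geom ha hm hP.two_le
  rw [mul_comm P m] at hsq
  have h1 : (P : ℤ) ^ 2 ∣ ∑ i ∈ Finset.range P, ((a : ℤ) ^ m) ^ i := hsq.trans hdvd
  have hbz : (a : ℤ) ^ m = (b : ℤ) := by rw [hb]; push_cast; rfl
  rw [hbz] at h1
  have h2 : P ^ 2 ∣ ∑ i ∈ Finset.range P, b ^ i := by
    have : ((P ^ 2 : ℕ) : ℤ) ∣ ((∑ i ∈ Finset.range P, b ^ i : ℕ) : ℤ) := by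
      push_cast
      exact h1
    exact Int.natCast_dvd_natCast.1 this
  have h3 := (padicValNat_dvd_iff_le hS0).1 h2
  omega

theorem not_four_dvd {n a : ℕ} (ha : 2 ≤ a) (h4 : 4 ∣ n) (hn : 0 < n) (h : (2 : ℤ) ∣ cyc n a) :
    ¬ ((4 : ℤ) ∣ cyc n a) := by
  intro h4'
  obtain ⟨m', rfl⟩ := h4
  have hm' : 0 < m' := by omega
  have hdvd : cyc ((2 * m') * 2) a ∣ ∑ i ∈ Finset.range 2, ((a : ℤ) ^ (2 * m')) ^ i :=
    cyc_dvd_geom ha (by omega) (le_refl 2)
  have e : (2 * m') * 2 = 4 * m' := by ring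
  rw [e] at hdvd
  rw [Finset.sum_range_succ, Finset.sum_range_one, pow_zero, pow_one] at hdvd
  have hodd : Odd ((a : ℤ) ^ m') := by
    have h1 : (2 : ℤ) ∣ (a : ℤ) ^ (4 * m') - 1 := h.trans (cyc_dvd _ _)
    have hao : Odd (a : ℤ) := by
      by_contra hne
      rw [Int.not_odd_iff_even] at hne
      have hev : Even ((a : ℤ) ^ (4 * m')) := hne.pow_of_ne_zero (by omega)
      have h2 : (2 : ℤ) ∣ (a : ℤ) ^ (4 * m') := hev.two_dvd
      have h3 := dvd_sub h2 h1
      rw [sub_sub_cancel] at h3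
      norm_num at h3
    exact hao.pow
  have hsq := Int.sq_mod_four_eq_one_of_odd hodd
  have h5 : (4 : ℤ) ∣ 1 + (a : ℤ) ^ (2 * m') := h4'.trans hdvd
  have e2 : (a : ℤ) ^ (2 * m') = ((a : ℤ) ^ m') ^ 2 := by rw [← pow_mul, mul_comm]
  rw [e2] at h5
  generalize ((a : ℤ) ^ m') ^ 2 = y at hsq h5
  omega

theorem two_pow_lemma1 (P : ℕ) : P ≤ 2 ^ (P - 1) := by
  rcases P with _ | k
  · simp
  · have := Nat.lt_two_pow_self (n := k)
    simpa using this

theorem two_pow_lemma2 {P : ℕ} (hP : 2 ≤ P) : P + 2 ≤ 2 ^ P := by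
  induction P, hP using Nat.le_induction with
  | base => norm_num
  | succ k hk ih => rw [pow_succ]; omega

theorem two_pow_lemma3 {P : ℕ} (hP : 4 ≤ P) : 3 * P + 1 ≤ 2 ^ P := by
  induction P, hP using Nat.le_induction with
  | base => norm_num
  | succ k hk ih => rw [pow_succ]; omega

theorem cyc_two_upper {d : ℕ} (hd : 2 ≤ d) : (cyc d 2).natAbs ≤ 3 ^ d.totient := by
  rcases Nat.lt_or_ge d 3 with hd3 | hd3
  · have : d = 2 := by omega
    subst this
    have : cyc 2 2 = 3 := by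
      unfold cyc
      rw [cyclotomic_two]
      simp
    rw [this]
    simp
  · have hr := cyclotomic_eval_lt_add_one_pow_totient (n := d) (q := (2 : ℝ)) hd3 (by norm_num)
    have hpos : 0 < cyc d 2 := cyclotomic_pos (by omega) _
    have hcast : ((cyclotomic d ℝ).eval (2 : ℝ)) = ((cyc d 2 : ℤ) : ℝ) := by
      have h1 := eval_intCast_map (Int.castRingHom ℝ) (cyclotomic d ℤ) (2 : ℤ)
      rw [map_cyclotomic] at h1
      simpa [cyc] using h1
    rw [hcast] at hr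
    have hr2 : cyc d 2 < 3 ^ d.totient := by
      have : ((2 : ℝ) + 1) = 3 := by norm_num
      rw [this] at hr
      exact_mod_cast hr
    have habs : ((cyc d 2).natAbs : ℤ) = cyc d 2 := Int.natAbs_of_nonneg hpos.le
    have h5 : (((cyc d 2).natAbs : ℕ) : ℤ) < ((3 ^ d.totient : ℕ) : ℤ) := by
      rw [habs]; push_cast; exact hr2
    exact le_of_lt (by exact_mod_cast h5)

/-- Zsigmondy's theorem. -/
theorem zsigmondy (a n : ℕ) (ha : 1 < a) (hn : 1 < n) (h6 : ¬ (a = 2 ∧ n = 6))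
    (h2 : ¬ (n = 2 ∧ ∃ m : ℕ, a + 1 = 2 ^ m)) :
    ∃ r : ℕ, r.Prime ∧ r ∣ a ^ n - 1 ∧ ∀ k : ℕ, 0 < k → k < n → ¬ r ∣ a ^ k - 1 := by
  by_contra hno
  push Not at hno
  have ha2 : 2 ≤ a := ha
  have hn0 : 0 < n := by omega
  obtain ⟨N, hNdef⟩ : ∃ N : ℕ, N = (cyc n a).natAbs := ⟨_, rfl⟩
  have hNlt : (a - 1) ^ n.totient < N := by
    rw [hNdef]
    exact sub_one_pow_totient_lt_natAbs_cyclotomic_eval hn (by omega)
  have hN2 : 2 ≤ N := by
    have : 1 ≤ (a - 1) ^ n.totient := Nat.one_le_pow _ _ (by omega)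
    omega
  have hNdvd : N ∣ a ^ n - 1 := by
    have h1 := Int.natAbs_dvd_natAbs.2 (cyc_dvd n a)
    have h3 : ((a : ℤ) ^ n - 1).natAbs = a ^ n - 1 := by
      have : ((a : ℤ) ^ n - 1) = ((a ^ n - 1 : ℕ) : ℤ) := by
        rw [Nat.cast_sub (Nat.one_le_pow _ _ (by omega))]
        push_cast
        rfl
      rw [this, Int.natAbs_natCast]
    rw [h3, ← hNdef] at h1
    exact h1
  have key : ∀ s : ℕ, s.Prime → s ∣ N → s ∣ n ∧ ∀ r : ℕ, r.Prime → r ∣ n → r ≤ s := by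
    intro s hs hsN
    have hsz : (s : ℤ) ∣ cyc n a := Int.natCast_dvd.2 (hNdef ▸ hsN)
    obtain ⟨k, hk0, hkn, hk⟩ := hno s hs (hsN.trans hNdvd)
    exact ⟨dvd_of_not_primitive hs (by omega) hsz hk0 hkn hk,
      fun r hr hrn => prime_le_of_dvd hs ha2 hsz hn0 hr hrn⟩
  have hN1 : N ≠ 1 := by omega
  obtain ⟨P, hP, hPN⟩ : ∃ P : ℕ, P.Prime ∧ P ∣ N := ⟨N.minFac, Nat.minFac_prime hN1, Nat.minFac_dvd N⟩
  obtain ⟨hPn, hPmax⟩ := key P hP hPN
  have huniq : ∀ {s : ℕ}, s.Prime → s ∣ N → s = P := by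
    intro s hs hsN
    obtain ⟨hsn, hsmax⟩ := key s hs hsN
    exact le_antisymm (hPmax s hs hsn) (hsmax P hP hPn)
  obtain ⟨e, hNpow⟩ : ∃ e : ℕ, N = P ^ e :=
    ⟨_, Nat.eq_prime_pow_of_unique_prime_dvd (by omega : N ≠ 0) huniq⟩
  have hPz : (P : ℤ) ∣ cyc n a := Int.natCast_dvd.2 (hNdef ▸ hPN)
  have hnsq : ¬ P ^ 2 ∣ N := by
    intro hsq
    have hsqz : (P : ℤ) ^ 2 ∣ cyc n a := by
      have : ((P ^ 2 : ℕ) : ℤ) ∣ cyc n a := Int.natCast_dvd.2 (hNdef ▸ hsq)
      push_cast at this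
      exact this
    by_cases hP2 : P = 2
    · rcases Nat.eq_two_pow_or_exists_odd_prime_and_dvd n with ⟨j, hj⟩ | ⟨r, hr, hrn, hrodd⟩
      · rcases j with _ | _ | j
        · rw [pow_zero] at hj; omega
        · rw [zero_add, pow_one] at hj
          apply h2
          refine ⟨hj, e, ?_⟩
          have hc : cyc n a = ((a + 1 : ℕ) : ℤ) := by
            rw [hj]
            unfold cyc
            rw [cyclotomic_two]
            simp
          have hN' : N = a + 1 := by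
            rw [hNdef, hc, Int.natAbs_natCast]
          rw [← hN', hNpow, hP2]
        · have h4 : 4 ∣ n := ⟨2 ^ j, by rw [hj]; ring⟩
          rw [hP2] at hsqz hPz
          have e4 : (4 : ℤ) = ((2 : ℕ) : ℤ) ^ 2 := by norm_num
          exact not_four_dvd ha2 h4 hn0 (by exact_mod_cast hPz) (by rw [e4]; exact hsqz)
      · have h1 := hPmax r hr hrn
        rw [hP2] at h1
        have h2r := hr.two_le
        have h3 : r = 2 := by omega
        rw [h3] at hrodd
        exact absurd hrodd (by decide)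
    · exact not_sq_dvd_odd hP hP2 ha2 hn0 hPn hPz hsqz
  have he1 : e = 1 := by
    rcases Nat.lt_or_ge e 2 with h | h
    · rcases e with _ | _ | e
      · rw [pow_zero] at hNpow; omega
      · rfl
      · omega
    · exact absurd (hNpow ▸ pow_dvd_pow P h) hnsq
  rw [he1, pow_one] at hNpow
  have hφ : P - 1 ≤ n.totient := by
    have h1 := Nat.totient_dvd_of_dvd hPn
    rw [Nat.totient_prime hP] at h1
    exact Nat.le_of_dvd (Nat.totient_pos.2 hn0) h1
  rcases Nat.lt_or_ge 2 a with ha3 | ha2'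
  · have h1 : 2 ^ (P - 1) ≤ (a - 1) ^ n.totient :=
      calc 2 ^ (P - 1) ≤ 2 ^ n.totient := Nat.pow_le_pow_right (by norm_num) hφ
        _ ≤ (a - 1) ^ n.totient := Nat.pow_le_pow_left (by omega) _
    have h3 := two_pow_lemma1 P
    omega
  · have ha2'' : a = 2 := by omega
    subst ha2''
    obtain ⟨d, hd⟩ := hPn
    have hnd : n = d * P := by rw [hd, mul_comm]
    have hd0 : 0 < d := Nat.pos_of_ne_zero (by rintro rfl; simp at hnd; omega)
    have hPP := two_pow_lemma2 hP.two_le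
    by_cases hPd : P ∣ d
    · have e1 := cyclotomic_expand_eq_cyclotomic hP hPd ℤ
      have e2 : cyc n 2 = cyc d (2 ^ P) := by
        rw [hnd]
        unfold cyc
        rw [← e1, expand_eval, Nat.cast_pow]
      have hd1 : 1 < d := lt_of_lt_of_le hP.one_lt (Nat.le_of_dvd hd0 hPd)
      have h1 := sub_one_pow_totient_lt_natAbs_cyclotomic_eval (n := d) (q := 2 ^ P) hd1
        (by omega)
      change _ < (cyc d (2 ^ P)).natAbs at h1
      rw [← e2, ← hNdef, hNpow] at h1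
      have h3 : 2 ^ P - 1 ≤ (2 ^ P - 1) ^ d.totient :=
        Nat.le_self_pow (Nat.totient_pos.2 hd0).ne' _
      omega
    · have e1 := cyclotomic_expand_eq_cyclotomic_mul hP hPd ℤ
      have e2 : cyc d (2 ^ P) = cyc n 2 * cyc d 2 := by
        have := congrArg (eval ((2 : ℕ) : ℤ)) e1
        rw [expand_eval, eval_mul] at this
        rw [hnd]
        unfold cyc
        rw [Nat.cast_pow]
        exact this
      have e3 : (cyc d (2 ^ P)).natAbs = P * (cyc d 2).natAbs := by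
        rw [e2, Int.natAbs_mul, ← hNdef, hNpow]
      rcases Nat.lt_or_ge d 2 with hd1 | hd2
      · have hd1' : d = 1 := by omega
        have c1 : cyc 1 (2 ^ P) = ((2 ^ P - 1 : ℕ) : ℤ) := by
          unfold cyc
          rw [cyclotomic_one, Nat.cast_sub (by omega)]
          simp
        have c2 : cyc 1 2 = ((1 : ℕ) : ℤ) := by
          unfold cyc
          rw [cyclotomic_one]
          simp
        rw [hd1', c1, c2, Int.natAbs_natCast, Int.natAbs_natCast] at e3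
        omega
      · have hlow := sub_one_pow_totient_lt_natAbs_cyclotomic_eval (n := d) (q := 2 ^ P)
          (by omega) (by omega)
        change _ < (cyc d (2 ^ P)).natAbs at hlow
        rw [e3] at hlow
        have hup := cyc_two_upper hd2
        obtain ⟨k, hk⟩ : ∃ k : ℕ, k = d.totient := ⟨_, rfl⟩
        rw [← hk] at hlow hup
        have hk1 : 1 ≤ k := hk ▸ Nat.totient_pos.2 hd0
        have hmain : (2 ^ P - 1) ^ k < P * 3 ^ k :=
          lt_of_lt_of_le hlow (Nat.mul_le_mul_left P hup)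
        by_cases hP2 : P = 2
        · obtain ⟨r, hr, hrd⟩ := Nat.exists_prime_and_dvd (by omega : d ≠ 1)
          have hrn : r ∣ n := hrd.trans ⟨P, hnd⟩
          have h1 := hPmax r hr hrn
          have h2r := hr.two_le
          have h3 : r = P := by omega
          exact hPd (h3 ▸ hrd)
        by_cases hP3 : P = 3
        · rw [hP3] at hmain
          have hd2' : d ≠ 2 := by
            intro h
            apply h6
            refine ⟨rfl, ?_⟩
            rw [hnd, h, hP3]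
          have hk2 : 2 ≤ k := by
            have h1 : k ≠ 1 := by
              intro h1
              rw [hk] at h1
              rcases Nat.totient_eq_one_iff.1 h1 with h | h <;> omega
            omega
          obtain ⟨j, hj⟩ := Nat.exists_eq_add_of_le hk2
          rw [hj] at hmain
          have e7 : 2 ^ 3 - 1 = 7 := by norm_num
          rw [e7, pow_add, pow_add] at hmain
          have h7 : 3 ^ j ≤ 7 ^ j := Nat.pow_le_pow_left (by norm_num) j
          norm_num at hmain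
          linarith [h7, Nat.zero_le (3 ^ j)]
        · have hP5 : 5 ≤ P := by
            by_contra hlt
            have hP4 : P = 4 := by have := hP.two_le; omega
            rw [hP4] at hP
            exact absurd hP (by norm_num)
          have h3P := two_pow_lemma3 (by omega : 4 ≤ P)
          have h6' : (3 * P) ^ k ≤ (2 ^ P - 1) ^ k := Nat.pow_le_pow_left (by omega) k
          rw [mul_pow] at h6'
          have h7 : P ≤ P ^ k := Nat.le_self_pow (by omega) P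
          have h8 : 3 ^ k * P ≤ 3 ^ k * P ^ k := Nat.mul_le_mul_left _ h7
          have : 3 ^ k * P < 3 ^ k * P :=
            calc 3 ^ k * P ≤ 3 ^ k * P ^ k := h8
              _ ≤ (2 ^ P - 1) ^ k := h6'
              _ < P * 3 ^ k := hmain
              _ = 3 ^ k * P := mul_comm _ _
          exact lt_irrefl _ this

end Cfsg.Agent.Lib.Helper2.Zsig
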